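import Cfsg.Agent.H6.Exc

/-! Maximal subgroups of `PSL₂(F)` and `PGL₂(F)`. -/

set_option autoImplicit false

namespace Cfsg.Agent.H6.Pg

open Matrix OnePoint MulAction Equiv
open scoped MatrixGroups

theorem isCoatom_iff_map {G G' : Type*} [Group G] [Group G'] (f : G →* G')
    (hf : Function.Injective f) (M : Subgroup G) : IsCoatom M ↔ M.map f ⋖ f.range := by
  rw [← covBy_top_iff, MonoidHom.range_eq_map]
  refine ⟨fun h => ⟨(Subgroup.map_lt_map_iff_of_injective hf).2 h.1, fun N h1 h2 => ?_⟩,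
    fun h => ⟨(Subgroup.map_lt_map_iff_of_injective hf).1 h.1, fun N h1 h2 =>
      h.2 ((Subgroup.map_lt_map_iff_of_injective hf).2 h1)
        ((Subgroup.map_lt_map_iff_of_injective hf).2 h2)⟩⟩
  rw [← Subgroup.map_comap_eq_self (h2.le.trans (Subgroup.map_le_range f ⊤)),
    Subgroup.map_lt_map_iff_of_injective hf] at h1 h2
  exact h.2 h1 h2

theorem pair_comm {G X : Type*} [Group G] [MulAction G X] (x y : X) :
    Mob.pair G x y = Mob.pair G y x := by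
  ext; simp only [Mob.mem_pair]; tauto

variable {F : Type*} [Field F] [Finite F] {Γ M : Subgroup PGL(2, F)}

theorem three_le_card (h : Odd (Nat.card F)) (L : Subfield F) : 3 ≤ Nat.card L := by
  obtain ⟨a, ha⟩ := FF.card_pow L.subtype
  have := Finite.one_lt_card (α := L)
  by_contra hc
  rw [ha, show Nat.card L = 2 by omega, Nat.odd_pow_iff] at h
  · exact absurd h (by decide)
  · rintro rfl
    have := Finite.one_lt_card (α := F)
    rw [pow_zero] at ha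
    omega

theorem PS_not_le_stab (L : Subfield F) (x : Pt F) : ¬ PS L ≤ stabilizer _ x := fun h => by
  obtain ⟨p, _⟩ := CharP.exists F
  have := Fact.mk (CharP.char_is_prime F p)
  obtain rfl := (mobF F p).not_fix_of_P (x := rat ∞) (u := aff 1 1)
    ⟨(smul_rat _ _).trans (by rw [aff_infty one_ne_zero]), (aff_pow_char p one_ne_zero _).2 rfl⟩
    (by simp [aff_eq_one]) (h (aff_mem_PS (one_mem _)))
  have := h (mem_PS.2 ⟨!![0, -1; 1, 0], by simp, fun i j => by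
    fin_cases i <;> fin_cases j <;> simp, rfl⟩)
  rw [mem_stabilizer_iff, smul_rat, rat_inj, pg_infty (by simp)] at this
  simp at this

theorem PS_not_le_pair {L : Subfield F} (h3 : 3 ≤ Nat.card L) {x y : Pt F} (hxy : x ≠ y) :
    ¬ PS L ≤ Mob.pair _ x y := fun h => by
  obtain ⟨p, _⟩ := CharP.exists F
  have := Fact.mk (CharP.char_is_prime F p)
  have key : ∀ a ∈ L, a ≠ 0 → aff 1 a • x = y ∧ aff 1 a • y = x := fun a ha h0 =>
    (h (aff_mem_PS ha)).resolve_left fun e => h0 ((aff_eq_one one_ne_zero a).1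
      ((mobF F p).pelt _ x y ((aff_pow_char p one_ne_zero _).2 rfl) hxy e.1 e.2)).2
  obtain ⟨a, h0, h1⟩ : ∃ a : L, a ≠ 0 ∧ a ≠ -1 := by
    by_contra hc
    push Not at hc
    have := Nat.card_le_card_of_surjective (fun b : Bool => if b then (0 : L) else -1) (fun a => by
      by_cases h : a = 0
      exacts [⟨true, h.symm⟩, ⟨false, (hc a h).symm⟩])
    simp at this
    omega
  have e1 := key 1 (one_mem _) one_ne_zero
  have e2 := key a a.2 fun e => h0 (Subtype.ext e)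
  have e3 := key (a + 1) (add_mem a.2 (one_mem _))
    fun e => h1 (Subtype.ext (eq_neg_of_add_eq_zero_left e))
  have := aff_mul one_ne_zero one_ne_zero (1 : F) a
  rw [one_mul, one_mul] at this
  rw [← this, mul_smul, e2.1, e1.2] at e3
  exact hxy e3.1

theorem classify (p : ℕ) [Fact p.Prime] [CharP F p] (hΓ : S F ≤ Γ) (h3 : 3 ≤ Nat.card F)
    (hM : M ⋖ Γ) (hS : ¬ S F ≤ M) :
    (∃ x : OnePoint F, M = Γ ⊓ stabilizer _ (rat x)) ∨
    (∃ x y : OnePoint F, x ≠ y ∧ M = Γ ⊓ Mob.pair _ (rat x) (rat y)) ∨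
    (∃ y y' : Pt F, y ∉ Set.range rat ∧ Γ ⊓ stabilizer _ y ≠ ⊥ ∧ y ≠ y' ∧
      Γ ⊓ stabilizer _ y ≤ stabilizer _ y' ∧ M = Γ ⊓ Mob.pair _ y y') ∨
    (Nat.card F = p ∧ 5 ≤ p ∧ Nonempty (M ≃* alternatingGroup (Fin 4))) ∨
    (Nat.card F = p ∧ 5 ≤ p ∧ Nonempty (M ≃* Perm (Fin 4))) ∨
    (p ≠ 2 ∧ p ≠ 5 ∧ (Nat.card F = p ∨ (Nat.card F = p ^ 2 ∧ ¬ 5 ∣ (p + 1) * (p * (p - 1)))) ∧
      Nonempty (M ≃* alternatingGroup (Fin 5))) ∨
    ∃ (h : PGL(2, F)) (L : Subfield F) (r : ℕ), r.Prime ∧ Nat.card F = Nat.card L ^ r ∧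
      3 ≤ Nat.card L ∧ cj h M = PG L ⊓ Γ := by
  by_contra hcon
  simp only [not_or, not_exists, not_and] at hcon
  obtain ⟨c1, c2, c3, c4, c5, c6, c7⟩ := hcon
  have eqof : ∀ K, M ≤ K → ¬ PS ⊤ ≤ K → M = Γ ⊓ K := fun K h1 h2 =>
    ((hM.eq_or_eq (le_inf hM.le h1) inf_le_left).resolve_right fun e =>
      h2 (PS_top.le.trans (hΓ.trans (e.ge.trans inf_le_right)))).symm
  have h3' : 3 ≤ Nat.card (⊤ : Subfield F) := by rwa [FF.card_top]
  have sub : ∀ h (L : Subfield F), 3 ≤ Nat.card L → cj h M ≤ PG L → L = ⊤ := fun h L hL hle => by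
    by_contra hne
    obtain ⟨L', r, h1, h2, h4⟩ := FF.exists_prime_over hne
    have hM' := (cj_covBy (h := h)).2 hM
    rw [cj_eq hΓ] at hM'
    exact c7 h L' r h2 h4 (hL.trans (Nat.card_le_card_of_injective _
      (Subfield.inclusion h1).injective)) ((hM'.eq_or_eq (le_inf (hle.trans (PG_mono h1)) hM'.le)
        inf_le_right).resolve_right fun e => not_S_le_PG (FF.ne_top_of_card h2 h4)
          (hΓ.trans (e.ge.trans inf_le_left))).symm
  have pt : ∀ x : Pt F, ¬ M ≤ stabilizer _ x := fun x hx => by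
    by_cases h1 : x ∈ Set.range rat
    · obtain ⟨x, rfl⟩ := h1
      exact c1 x (eqof _ hx (PS_not_le_stab _ _))
    by_cases h2 : Γ ⊓ stabilizer _ x = ⊥
    · exact c1 ∞ (eqof _ ((le_inf hM.le hx).trans (h2.le.trans bot_le)) (PS_not_le_stab _ _))
    obtain ⟨y, a, -, b, -⟩ := out hΓ h3 h1 h2
    exact c3 x y h1 h2 a b (eqof _ (fun g hg => Or.inl ⟨hx hg, b ⟨hM.le hg, hx hg⟩⟩)
      (PS_not_le_pair h3' a))
  have oc : ∀ x y : Pt F, x ∉ Set.range rat → x ≠ y →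
      Γ ⊓ (stabilizer _ x ⊓ stabilizer _ y) ≠ ⊥ → ¬ M ≤ Mob.pair _ x y := fun x y h1 hxy h2 hx => by
    obtain ⟨⟨g, g1, g2, g3⟩, hg⟩ := (Subgroup.ne_bot_iff_exists_ne_one).1 h2
    have hg' : g ≠ 1 := fun e => hg (Subtype.ext e)
    have h2' : Γ ⊓ stabilizer _ x ≠ ⊥ := fun e => hg' (e.le ⟨g1, g2⟩)
    obtain ⟨y', a, -, b, -⟩ := out hΓ h3 h1 h2'
    obtain rfl := (((mobF F p).fix_pair hg' hxy g2 g3 y').1 (b ⟨g1, g2⟩)).resolve_left a.symm
    exact c3 x y' h1 h2' a b (eqof _ hx (PS_not_le_pair h3' a))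
  have odd : p ≠ 2 → Odd (Nat.card F) := (FF.odd_iff p).2
  rcases dickson p M with ⟨x, hx⟩ | ⟨x, y, hxy, hx⟩ | ⟨h5, e⟩ | ⟨h5, e⟩ | ⟨h2, h5, e⟩ |
    ⟨h, L, h1, h2, h4⟩
  · exact pt x hx
  · by_cases h2 : Γ ⊓ (stabilizer _ x ⊓ stabilizer _ y) = ⊥
    · obtain ⟨s, hs, hsx⟩ := SetLike.not_le_iff_exists.1 (pt x)
      obtain ⟨s1, s2⟩ := (hx hs).resolve_left fun e => hsx e.1
      obtain ⟨z, hz⟩ := (mobF F p).fix s
      refine pt z fun g hg => ?_
      rcases hx hg with e | e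
      · rw [show g = 1 from h2.le ⟨hM.le hg, e⟩]; exact one_mem _
      · rwa [← show s = g from inv_mul_eq_one.1 (h2.le ⟨hM.le (mul_mem (inv_mem hs) hg),
          show (s⁻¹ * g) • x = x by rw [mul_smul, e.1, inv_smul_eq_iff, s1],
          show (s⁻¹ * g) • y = y by rw [mul_smul, e.2, inv_smul_eq_iff, s2]⟩)]
    by_cases hx1 : x ∈ Set.range rat
    swap
    · exact oc x y hx1 hxy h2 hx
    by_cases hy1 : y ∈ Set.range rat
    swap
    · exact oc y x hy1 hxy.symm (by rwa [inf_comm (stabilizer _ y)]) (by rwa [pair_comm])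
    obtain ⟨x, rfl⟩ := hx1
    obtain ⟨y, rfl⟩ := hy1
    exact c2 x y (rat_inj.ne.1 hxy) (eqof _ hx (PS_not_le_pair h3' hxy))
  · obtain ⟨D⟩ := QD.nonempty (odd (by omega))
    obtain ⟨g, hg⟩ := D.A4_le_PG e (FF.Fix F p 1)
    exact c4 (FF.card_eq_of_Fix_one (sub g _ (three_le_card (odd (by omega)) _) hg)) h5 e
  · obtain ⟨D⟩ := QD.nonempty (odd (by omega))
    obtain ⟨g, hg⟩ := D.S4_le_PG e (FF.Fix F p 1)
    exact c5 (FF.card_eq_of_Fix_one (sub g _ (three_le_card (odd (by omega)) _) hg)) h5 e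
  · obtain ⟨D⟩ := QD.nonempty (odd h2)
    refine c6 h2 h5 ?_ e
    by_cases hd : 5 ∣ (p + 1) * (p * (p - 1))
    · obtain ⟨g, hg⟩ := D.A5_le_PG e (golden_Fix_one p h2 hd)
      exact Or.inl (FF.card_eq_of_Fix_one (sub g _ (three_le_card (odd h2) _) hg))
    · obtain ⟨g, hg⟩ := D.A5_le_PG e (golden_Fix_two p)
      exact (FF.card_eq_of_Fix_two (sub g _ (three_le_card (odd h2) _) hg)).imp_right
        fun e => ⟨e, hd⟩
  · obtain rfl := sub h L h1 h4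
    rw [PS_top, ← cj_eq le_rfl h, cj_le_cj] at h2
    exact hS h2

section Eps

variable {ε : ℕ} (hΓ : S F ≤ Γ) (h3 : 3 ≤ Nat.card F)
  (hε : ε * Nat.card Γ = (Nat.card F + 1) * (Nat.card F * (Nat.card F - 1)))

include hΓ hε in
theorem eps_point (x : OnePoint F) :
    ε * Nat.card (Γ ⊓ stabilizer _ (rat x) : Subgroup PGL(2, F)) =
      Nat.card F * (Nat.card F - 1) := by
  rw [← card_point hΓ x, mul_left_comm] at hε
  exact Nat.eq_of_mul_eq_mul_left (by omega) hε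

include hΓ h3 hε

theorem eps_two {x y : OnePoint F} (h : x ≠ y) :
    ε * Nat.card (Γ ⊓ (stabilizer _ (rat x) ⊓ stabilizer _ (rat y)) : Subgroup PGL(2, F)) =
      Nat.card F - 1 := by
  rw [← card_two hΓ h3 h, mul_left_comm, mul_left_comm ε] at hε
  exact Nat.eq_of_mul_eq_mul_left (by omega) (Nat.eq_of_mul_eq_mul_left (by omega) hε)

theorem eps_out {y y' : Pt F} (hy : y ∉ Set.range rat) (hy' : Γ ⊓ stabilizer _ y ≠ ⊥)
    (hle : Γ ⊓ stabilizer _ y ≤ stabilizer _ y') :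
    ε * Nat.card (Γ ⊓ (stabilizer _ y ⊓ stabilizer _ y') : Subgroup PGL(2, F)) =
      Nat.card F + 1 := by
  obtain ⟨-, -, -, -, -, e⟩ := out hΓ h3 hy hy'
  rw [← e, ← mul_assoc] at hε
  rw [← inf_assoc, inf_of_le_left hle]
  exact Nat.eq_of_mul_eq_mul_right (Nat.mul_pos (by omega) (by omega)) hε

omit hε in
theorem swap_out {y y' : Pt F} (hy : y ∉ Set.range rat) (hy' : Γ ⊓ stabilizer _ y ≠ ⊥)
    (hyy : y ≠ y') (hle : Γ ⊓ stabilizer _ y ≤ stabilizer _ y') :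
    ∃ s ∈ Γ, s • y = y' ∧ s • y' = y := by
  obtain ⟨p, _⟩ := CharP.exists F
  have := Fact.mk (CharP.char_is_prime F p)
  obtain ⟨z, a, -, b, c, -⟩ := out hΓ h3 hy hy'
  obtain ⟨⟨g, hg⟩, hg1⟩ := (Subgroup.ne_bot_iff_exists_ne_one).1 hy'
  obtain rfl := (((mobF F p).fix_pair (fun e => hg1 (Subtype.ext e)) hyy hg.2 (hle hg) z).1
    (b hg)).resolve_left a.symm
  exact c

theorem dihedral_two {x y : OnePoint F} (h : x ≠ y) : ∃ k, ε * k = Nat.card F - 1 ∧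
    Nonempty ((Γ ⊓ Mob.pair _ (rat x) (rat y) : Subgroup PGL(2, F)) ≃* DihedralGroup k) := by
  obtain ⟨s, hs, h1, h2⟩ := exists_two hΓ h3 h h.symm
  exact ⟨_, eps_two hΓ h3 hε h, pair_dihedral (rat_inj.ne.2 h) hs h1 h2⟩

theorem dihedral_out {y y' : Pt F} (hy : y ∉ Set.range rat) (hy' : Γ ⊓ stabilizer _ y ≠ ⊥)
    (hyy : y ≠ y') (hle : Γ ⊓ stabilizer _ y ≤ stabilizer _ y') : ∃ k, ε * k = Nat.card F + 1 ∧
    Nonempty ((Γ ⊓ Mob.pair _ y y' : Subgroup PGL(2, F)) ≃* DihedralGroup k) := by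
  obtain ⟨s, hs, h1, h2⟩ := swap_out hΓ h3 hy hy' hyy hle
  exact ⟨_, eps_out hΓ h3 hε hy hy' hle, pair_dihedral hyy hs h1 h2⟩

variable (p : ℕ) [Fact p.Prime] [CharP F p] {H : Subgroup PGL(2, F)} {t b r s : PGL(2, F)}

omit h3 hε in
theorem not_covBy_aux (hp : p ≠ 2) (hH : H ≤ Γ) (hne : ¬ S F ≤ H) (hA : A4D t b) (ht : t ∈ H)
    (hb : b ∈ H) (hr : r ∈ H) (hs : s ∈ H) (hrs : s * r * s⁻¹ = r⁻¹)
    (hs' : s ∉ Subgroup.zpowers r) {u v : Pt F} (huv : u ≠ v) (hfix : ∀ z, r • z = z ↔ z = u ∨ z = v)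
    (hc : Nat.card (Γ ⊓ (stabilizer _ u ⊓ stabilizer _ v) : Subgroup PGL(2, F)) = orderOf r)
    {γ : PGL(2, F)} (hγ : γ ∈ Γ) : ¬ (Γ ⊓ Mob.pair _ (γ • u) (γ • v) ⋖ Γ) := fun hcov => by
  have hz : Subgroup.zpowers r = Γ ⊓ (stabilizer _ u ⊓ stabilizer _ v) :=
    Subgroup.eq_of_le_of_card_ge ((Subgroup.zpowers_le).2
      ⟨hH hr, (hfix u).2 (Or.inl rfl), (hfix v).2 (Or.inr rfl)⟩) (by rw [hc, Nat.card_zpowers])
  have key : ∀ z : Pt F, r • z = z → r • s • z = s • z := fun z hz => by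
    have := (conj_fix s r z).2 hz
    rw [hrs, inv_smul_eq_iff] at this
    exact this.symm
  have h1 := (hfix _).1 (key u ((hfix u).2 (Or.inl rfl)))
  have h2 := (hfix _).1 (key v ((hfix v).2 (Or.inr rfl)))
  have h3 : s • u ≠ s • v := fun e => huv (smul_left_cancel s e)
  have h4 : ¬ (s • u = u ∧ s • v = v) := fun e => hs' (hz ▸ ⟨hH hs, e⟩)
  have h5 : s • u = v ∧ s • v = u := by grind
  have hle : Γ ⊓ Mob.pair _ u v ≤ H := by
    rintro g ⟨hg, e | e⟩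
    · exact (Subgroup.zpowers_le).2 hr (hz.ge ⟨hg, e⟩)
    · rw [← H.mul_mem_cancel_left (inv_mem hs)]
      exact (Subgroup.zpowers_le).2 hr (hz.ge ⟨Γ.mul_mem (inv_mem (hH hs)) hg,
        show (s⁻¹ * g) • u = u by rw [mul_smul, e.1, inv_smul_eq_iff, h5.1],
        show (s⁻¹ * g) • v = v by rw [mul_smul, e.2, inv_smul_eq_iff, h5.2]⟩)
  rw [Mob.pair_smul, ← cj_eq hΓ γ] at hcov
  rcases (cj_covBy.1 ((cj_inf γ _ _).symm ▸ hcov)).eq_or_eq hle hH with e | e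
  · exact hA.not_le_pair (mobF F p) hp ht hb huv (e.le.trans inf_le_right)
  · exact hne (e ▸ hΓ)

theorem not_covBy_two (hp : p ≠ 2) (hH : H ≤ Γ) (hne : ¬ S F ≤ H) (hA : A4D t b) (ht : t ∈ H)
    (hb : b ∈ H) (hr : r ∈ H) (hs : s ∈ H) (hrs : s * r * s⁻¹ = r⁻¹)
    (hs' : s ∉ Subgroup.zpowers r) (hrp : r ^ p ≠ 1) (h1 : ε * orderOf r = Nat.card F - 1)
    (h2 : ¬ ε * orderOf r ∣ Nat.card F + 1) {x y : OnePoint F} (hxy : x ≠ y) :
    ¬ (Γ ⊓ Mob.pair _ (rat x) (rat y) ⋖ Γ) := by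
  obtain ⟨u, v, huv, hfix⟩ := (mobF F p).fix_two hrp
  have key : ∀ z, r • z = z → z ∈ Set.range rat := fun z hz => by
    by_contra hc
    refine h2 (eps_out hΓ h3 hε hc (fun e => hrp (by
      rw [show r = 1 from e.le ⟨hH hr, hz⟩, one_pow])) inf_le_right ▸ mul_dvd_mul_left _ ?_)
    exact Subgroup.orderOf_dvd_natCard _ ⟨hH hr, hz, hz⟩
  obtain ⟨u, rfl⟩ := key u ((hfix u).2 (Or.inl rfl))
  obtain ⟨v, rfl⟩ := key v ((hfix v).2 (Or.inr rfl))
  obtain ⟨γ, hγ, e1, e2⟩ := exists_two hΓ h3 (rat_inj.ne.1 huv) hxy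
  rw [← e1, ← e2]
  refine not_covBy_aux hΓ p hp hH hne hA ht hb hr hs hrs hs' huv hfix
    (Nat.eq_of_mul_eq_mul_left (Nat.pos_of_ne_zero ?_)
      ((eps_two hΓ h3 hε (rat_inj.ne.1 huv)).trans h1.symm)) hγ
  rintro rfl
  omega

theorem not_covBy_out (hp : p ≠ 2) (hH : H ≤ Γ) (hne : ¬ S F ≤ H) (hA : A4D t b) (ht : t ∈ H)
    (hb : b ∈ H) (hr : r ∈ H) (hs : s ∈ H) (hrs : s * r * s⁻¹ = r⁻¹)
    (hs' : s ∉ Subgroup.zpowers r) (hrp : r ^ p ≠ 1) (h1 : ε * orderOf r = Nat.card F + 1)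
    {y y' : Pt F} (hy : y ∉ Set.range rat) (hy' : Γ ⊓ stabilizer _ y ≠ ⊥) (hyy : y ≠ y')
    (hle : Γ ⊓ stabilizer _ y ≤ stabilizer _ y') : ¬ (Γ ⊓ Mob.pair _ y y' ⋖ Γ) := by
  have hr1 : r ≠ 1 := by rintro rfl; simp at hrp
  obtain ⟨u, hu, hu'⟩ : ∃ u, r • u = u ∧ u ∉ Set.range rat := by
    by_contra hc
    push Not at hc
    obtain ⟨u, v, huv, hfix⟩ := (mobF F p).fix_two hrp
    obtain ⟨u, rfl⟩ := hc u ((hfix u).2 (Or.inl rfl))
    obtain ⟨v, rfl⟩ := hc v ((hfix v).2 (Or.inr rfl))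
    have : ε * orderOf r ∣ _ := eps_two hΓ h3 hε (rat_inj.ne.1 huv) ▸ mul_dvd_mul_left _
      (Subgroup.orderOf_dvd_natCard (Γ ⊓ (stabilizer _ (rat u) ⊓ stabilizer _ (rat v)))
        ⟨hH hr, (hfix _).2 (Or.inl rfl), (hfix _).2 (Or.inr rfl)⟩)
    have := Nat.le_of_dvd (by omega) this
    omega
  have hu1 : Γ ⊓ stabilizer _ u ≠ ⊥ := fun e => hr1 (e.le ⟨hH hr, hu⟩)
  obtain ⟨v, huv, -, hle', -⟩ := out hΓ h3 hu' hu1
  obtain ⟨γ, hγ, rfl⟩ := conj_out hΓ h3 hu' hu1 hy hy'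
  have hrv : r • v = v := hle' ⟨hH hr, hu⟩
  have h2 := (conj_fix γ r u).2 hu
  obtain rfl := (((mobF F p).fix_pair (g := γ * r * γ⁻¹) (by simpa using hr1) hyy h2
    (hle ⟨Γ.mul_mem (mul_mem hγ (hH hr)) (inv_mem hγ), h2⟩) _).1
      ((conj_fix γ r v).2 hrv)).resolve_left fun e => huv (smul_left_cancel γ e).symm
  refine not_covBy_aux hΓ p hp hH hne hA ht hb hr hs hrs hs' huv
    ((mobF F p).fix_pair hr1 huv hu hrv) (Nat.eq_of_mul_eq_mul_left (Nat.pos_of_ne_zero ?_)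
      ((eps_out hΓ h3 hε hu' hu1 hle').trans h1.symm)) hγ
  rintro rfl
  omega

end Eps

theorem not_mem_zpowers {G : Type*} [Group G] {r s : G} (hrs : s * r * s⁻¹ = r⁻¹)
    (h : 2 < orderOf r) : s ∉ Subgroup.zpowers r := by
  rintro ⟨n, rfl⟩
  refine pow_ne_one_of_lt_orderOf two_ne_zero h ?_
  rw [pow_two, ← eq_inv_iff_mul_eq_one, ← hrs]
  group

theorem covBy_point (hΓ : S F ≤ Γ) (h3 : 3 ≤ Nat.card F) (x : OnePoint F) :
    Γ ⊓ stabilizer _ (rat x) ⋖ Γ := by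
  refine ⟨lt_of_le_of_ne inf_le_left fun e =>
    PS_not_le_stab ⊤ _ (PS_top.le.trans (hΓ.trans (e.ge.trans inf_le_right))), fun N h1 h2 => ?_⟩
  obtain ⟨n, hn, hn'⟩ := SetLike.exists_of_lt h1
  refine h2.not_ge fun g hg => ?_
  by_cases hgx : g • x = x
  · exact h1.le ⟨hg, (smul_rat _ _).trans (congrArg rat hgx)⟩
  obtain ⟨k, hk, e1, e2⟩ := exists_two hΓ h3 (x := x) (y := n • x) (x' := x) (y' := g • x)
    (fun e => hn' ⟨h2.le hn, (smul_rat _ _).trans (congrArg rat e.symm)⟩) (Ne.symm hgx)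
  rw [← N.mul_mem_cancel_left (inv_mem (mul_mem (h1.le ⟨hk, e1⟩) hn))]
  refine h1.le ⟨Γ.mul_mem (inv_mem (mul_mem hk (h2.le hn))) hg, ?_⟩
  rw [← smul_rat, ← smul_rat] at e2
  change _ • _ = _
  rw [mul_smul, inv_smul_eq_iff, mul_smul, e2]

theorem S_le_of_top {h : PGL(2, F)} (h2 : PS ⊤ ≤ cj h M) : S F ≤ M := by
  rwa [PS_top, ← cj_eq le_rfl h, cj_le_cj] at h2

theorem covBy_pair (p : ℕ) [Fact p.Prime] [CharP F p] {u v : Pt F} (huv : u ≠ v)
    {s : PGL(2, F)} (hs : s ∈ S F) (s1 : s • u = v) (s2 : s • v = u) {n : ℕ}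
    (hn : Nat.card (S F ⊓ (stabilizer _ u ⊓ stabilizer _ v) : Subgroup PGL(2, F)) = n)
    (h : (6 ≤ n ∧ Nat.card F - 1 ≤ 2 * n ∧ 11 ≤ Nat.card F) ∨ (Nat.card F = 5 ∧ n = 3)) :
    S F ⊓ Mob.pair _ u v ⋖ S F := by
  have m := mobF F p
  refine ⟨lt_of_le_of_ne inf_le_left fun e => PS_not_le_pair (L := ⊤)
    (by rw [FF.card_top]; omega) huv (PS_top.le.trans (e.ge.trans inf_le_right)),
    fun N h1 h2 => ?_⟩
  obtain ⟨⟨r, r0⟩, hr⟩ := (m.cyc u v huv (S F ⊓ (stabilizer _ u ⊓ stabilizer _ v))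
    inferInstance (inf_le_right.trans inf_le_left)
    (inf_le_right.trans inf_le_right)).exists_ofOrder_eq_natCard
  rw [hn, Subgroup.orderOf_mk] at hr
  obtain ⟨r0, r1 : r • u = u, r2 : r • v = v⟩ : r ∈ S F ∧ _ := r0
  have hrr : r * r ≠ 1 := by
    rw [← pow_two]; exact pow_ne_one_of_lt_orderOf two_ne_zero (by omega)
  have hr1 : r ≠ 1 := by rintro rfl; simp at hrr
  have hrN : r ∈ N := h1.le ⟨r0, Or.inl ⟨r1, r2⟩⟩
  have hsN : s ∈ N := h1.le ⟨hs, Or.inr ⟨s1, s2⟩⟩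
  have hle : ∀ {k}, k ≠ 0 → orderOf r ∣ k → n ≤ k := fun hk e =>
    hr ▸ Nat.le_of_dvd (Nat.pos_of_ne_zero hk) e
  rcases dickson p N with ⟨z, hx⟩ | ⟨z, w, hzw, hx⟩ | ⟨h5, e⟩ | ⟨h5, e⟩ | ⟨h2, h5, e⟩ |
    ⟨g, L, l1, l2, l3⟩
  · rcases (m.fix_pair hr1 huv r1 r2 z).1 (hx hrN) with rfl | rfl
    exacts [huv ((hx hsN).symm.trans s1), huv (s2.symm.trans (hx hsN))]
  · have a : (r * r) • z = z ∧ (r * r) • w = w := by
      rcases hx hrN with e | e <;> simp [mul_smul, e.1, e.2]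
    have b := m.fix_pair hrr huv (by rw [mul_smul, r1, r1]) (by rw [mul_smul, r2, r2])
    refine h1.not_ge (le_inf h2.le ?_)
    rcases (b z).1 a.1 with rfl | rfl <;> rcases (b w).1 a.2 with rfl | rfl
    exacts [absurd rfl hzw, hx, hx.trans (pair_comm z w).le, absurd rfl hzw]
  · obtain ⟨f, hf, rfl⟩ := exists_hom e
    rcases h with h | h
    · rcases order_A4 e hrN with a | a <;> have := hle (by norm_num) a <;> omega
    obtain ⟨r, rfl⟩ := hrN
    obtain ⟨s, rfl⟩ := hsN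
    suffices f (s * r * s⁻¹) = f r⁻¹ from
      hrr (by rw [← map_mul, a4_inv r s (hf this), map_one])
    have a := m.sq_of_swap huv s1 s2
    have b := m.sq_of_swap (g := f s * f r) huv (by rw [mul_smul, r1, s1])
      (by rw [mul_smul, r2, s2])
    rw [map_mul, map_mul, map_inv, map_inv, inv_eq_of_mul_eq_one_right a, eq_inv_iff_mul_eq_one,
      ← b, mul_assoc]
  · rcases h with h | h
    · rcases order_S4 e hrN with a | a <;> have := hle (by norm_num) a <;> omega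
    have a := Subgroup.card_dvd_of_le h2.le
    have b := card_S (F := F) (by omega) (by rw [h.1]; decide)
    rw [card_of_equiv e, card_s4] at a
    rw [h.1] at b
    omega
  · rcases h with h | h
    · rcases order_A5 e hrN with a | a | a <;> have := hle (by norm_num) a <;> omega
    obtain ⟨k, hk, a⟩ := FF.card_eq_pow (F := F) p
    exact h5 ((Nat.prime_dvd_prime_iff_eq Fact.out Nat.prime_five).1
      (h.1 ▸ a ▸ dvd_pow_self p hk))
  · by_cases hL : L = ⊤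
    · exact h2.not_ge (S_le_of_top (hL ▸ l2))
    rcases h with h | h
    swap
    · exact hL (FF.eq_top_of_prime (h.1 ▸ Nat.prime_five) L)
    obtain ⟨r', hr'⟩ := l3 (conj_mem_cj.2 hrN)
    have a : orderOf r' = n := by
      rw [← orderOf_injective _ (map_injective L.subtype), hr', ← hr]
      exact orderOf_injective (MulAut.conj g).toMonoidHom (MulAut.conj g).injective r
    have b := FF.sq_le_of_ne_top hL
    have c : n ≤ Nat.card L + 1 := by
      rcases order_cases (p := p) l1 r' with c | c | c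
      · exact absurd (m.pelt r u v (by rwa [← orderOf_dvd_iff_pow_eq_one, hr, ← a,
          orderOf_dvd_iff_pow_eq_one]) huv r1 r2) hr1
      · have := Nat.le_of_dvd (by omega) c; omega
      · have := Nat.le_of_dvd (by omega) c; omega
    have : Nat.card L ≤ 3 := by nlinarith [show Nat.card F ≤ 2 * Nat.card L + 3 by omega]
    omega

theorem nine_pow (k : ℕ) : 9 ^ k % 5 = 1 ∨ 9 ^ k % 5 = 4 := by
  induction k with
  | zero => simp
  | succ k ih => rw [pow_succ]; omega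

theorem covBy_subfield {L : Subfield F} {r : ℕ} (hr : r.Prime)
    (hc : Nat.card F = Nat.card L ^ r) (h3 : 3 ≤ Nat.card L) : PG L ⊓ S F ⋖ S F := by
  obtain ⟨p, _⟩ := CharP.exists F
  have hp := Fact.mk (CharP.char_is_prime F p)
  refine ⟨lt_of_le_of_ne inf_le_right fun e => not_S_le_PG (FF.ne_top_of_card hr hc)
    (e.ge.trans inf_le_left), fun N h1 h2 => ?_⟩
  have hP : PS L ≤ N := (le_inf (PS_le_PG L) (PS_le_S L)).trans h1.le
  have hd : p ∣ Nat.card N := by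
    rw [← orderOf_eq_prime ((aff_pow_char p one_ne_zero (1 : F)).2 rfl) (by simp [aff_eq_one])]
    exact Subgroup.orderOf_dvd_natCard _ (hP (aff_mem_PS (one_mem _)))
  rcases dickson p N with ⟨z, hx⟩ | ⟨z, w, hzw, hx⟩ | ⟨h5, e⟩ | ⟨h5, e⟩ | ⟨h2', h5, e⟩ |
    ⟨g, L1, l1, l2, l3⟩
  · exact PS_not_le_stab L z (hP.trans hx)
  · exact PS_not_le_pair h3 hzw (hP.trans hx)
  · rw [card_of_equiv e, card_a4] at hd
    have := Nat.le_of_dvd (by norm_num) hd
    have := hp.1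
    interval_cases p <;> simp_all (config := {decide := true})
  · rw [card_of_equiv e, card_s4] at hd
    have := Nat.le_of_dvd (by norm_num) hd
    have := hp.1
    interval_cases p <;> simp_all (config := {decide := true})
  · have h60 := (card_of_equiv e).trans card_a5
    obtain rfl : p = 3 := by
      rw [h60, show 60 = 2 * (2 * (3 * 5)) by rfl, hp.1.dvd_mul, hp.1.dvd_mul, hp.1.dvd_mul,
        Nat.prime_dvd_prime_iff_eq hp.1 Nat.prime_two, Nat.prime_dvd_prime_iff_eq hp.1 Nat.prime_three,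
        Nat.prime_dvd_prime_iff_eq hp.1 Nat.prime_five] at hd
      tauto
    have a := Subgroup.card_dvd_of_le hP
    have b := card_S h3 ((FF.odd_iff 3).2 h2')
    obtain ⟨k, hk, c⟩ := FF.card_eq_pow (F := L) 3
    rw [h60, card_PS] at a
    have hL : Nat.card L = 3 := by
      have := Nat.le_of_dvd (by norm_num) a
      have h9 : Nat.card L < 9 := by
        by_contra hc
        have : 10 * (9 * 8) ≤ (Nat.card L + 1) * (Nat.card L * (Nat.card L - 1)) :=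
          Nat.mul_le_mul (by omega) (Nat.mul_le_mul (by omega) (by omega))
        omega
      rw [c] at h9 ⊢
      rw [show k = 1 by
        have := (Nat.pow_lt_pow_iff_right (a := 3) (n := k) (m := 2) (by norm_num)).1 h9
        omega]
      rfl
    rcases hr.eq_two_or_odd' with rfl | ⟨j, rfl⟩
    · have := Subgroup.card_dvd_of_le ((le_inf le_rfl (PG_le_S hc)).trans h1.le)
      rw [h60, card_PG, card_PGL h3, hL] at this
      omega
    · have d := Subgroup.card_dvd_of_le h2.le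
      rw [hL, pow_succ, pow_mul] at hc
      have e := card_S (F := F) (by have := Nat.one_le_pow j (3 ^ 2) (by norm_num); omega)
        ((FF.odd_iff 3).2 h2')
      have f : 5 ∣ (Nat.card F + 1) * (Nat.card F * (Nat.card F - 1)) :=
        e ▸ Dvd.dvd.mul_left (Dvd.dvd.trans (by rw [h60]; norm_num) d) 2
      rw [Nat.prime_five.dvd_mul, Nat.prime_five.dvd_mul] at f
      have := nine_pow j
      norm_num at hc
      omega
  · rcases FF.eq_or_top hr hc (le_of_PS_le ((cj_le_cj.2 hP).trans l3)) with rfl | rfl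
    · have := Subgroup.card_le_of_le (le_inf l3 ((cj_le_cj.2 h2.le).trans (cj_eq le_rfl g).le))
      rw [card_cj] at this
      exact h1.ne (Subgroup.eq_of_le_of_card_ge h1.le this)
    · exact h2.not_ge (S_le_of_top l2)

theorem covBy_of {A : Type*} [Group A] {H : Subgroup PGL(2, F)} (h1 : H ≤ S F) (h2 : ¬ S F ≤ H)
    (h : ∀ N, H ≤ N → N ≤ S F → Nonempty (N ≃* A) ∨ S F ≤ N) : H ⋖ S F ∧ Nonempty (H ≃* A) := by
  have e := (h H le_rfl h1).resolve_right h2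
  refine ⟨⟨lt_of_le_of_ne h1 fun e => h2 e.ge, fun N a b => a.ne (Subgroup.eq_of_le_of_card_ge a.le
    ?_)⟩, e⟩
  rw [card_of_equiv e, card_of_equiv ((h N a.le b.le).resolve_right b.not_ge)]

section Exc

variable (p : ℕ) [Fact p.Prime] [CharP F p] {N : Subgroup PGL(2, F)} {t b r : PGL(2, F)}

theorem five_dvd (hp : p ≠ 2) (hN : N ≤ S F) (e : Nonempty (N ≃* alternatingGroup (Fin 5))) :
    5 ∣ (Nat.card F + 1) * (Nat.card F * (Nat.card F - 1)) := by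
  have ho := (FF.odd_iff (F := F) p).2 hp
  rw [← card_S (FF.card_top (F := F) ▸ three_le_card ho ⊤) ho]
  exact Dvd.dvd.mul_left (Dvd.dvd.trans (by rw [card_of_equiv e, card_a5]; norm_num)
    (Subgroup.card_dvd_of_le hN)) 2

theorem A4_or (hq : Nat.card F = p) (h8 : p % 8 = 3 ∨ p % 8 = 5) (h10 : p % 10 ≠ 1 ∧ p % 10 ≠ 9)
    (hA : A4D t b) (ht : t ∈ N) (hb : b ∈ N) (hN : N ≤ S F) :
    Nonempty (N ≃* alternatingGroup (Fin 4)) ∨ S F ≤ N := by
  have hp : p ≠ 2 := by omega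
  rcases dickson p N with ⟨z, hx⟩ | ⟨z, w, hzw, hx⟩ | ⟨h5, e⟩ | ⟨h5, e⟩ | ⟨h2', h5, e⟩ |
    ⟨g, L1, l1, l2, l3⟩
  · exact absurd hx (hA.not_le_stab (mobF F p) hp ht hb z)
  · exact absurd hx (hA.not_le_pair (mobF F p) hp ht hb hzw)
  · exact Or.inl e
  · obtain ⟨g, hg, h4⟩ := exists_four e
    have := (mem_S_iff_of_four (FF.two_ne_zero ((FF.odd_iff p).2 hp)) h4).1 (hN hg)
    rw [FF.isSquare_two_iff, hq] at this
    omega
  · have := five_dvd p hp hN e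
    rw [hq, Nat.prime_five.dvd_mul, Nat.prime_five.dvd_mul,
      Nat.prime_dvd_prime_iff_eq Nat.prime_five (Fact.out : p.Prime)] at this
    omega
  · exact Or.inr (S_le_of_top (FF.eq_top_of_prime (hq ▸ (Fact.out : p.Prime)) L1 ▸ l2))

theorem S4_or (hq : Nat.card F = p) (hp : p ≠ 2) (hA : A4D t b) (ht : t ∈ N) (hb : b ∈ N)
    (hr : r ∈ N) (h4 : orderOf r = 4) : Nonempty (N ≃* Perm (Fin 4)) ∨ S F ≤ N := by
  rcases dickson p N with ⟨z, hx⟩ | ⟨z, w, hzw, hx⟩ | ⟨h5, e⟩ | ⟨h5, e⟩ | ⟨h2', h5, e⟩ |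
    ⟨g, L1, l1, l2, l3⟩
  · exact absurd hx (hA.not_le_stab (mobF F p) hp ht hb z)
  · exact absurd hx (hA.not_le_pair (mobF F p) hp ht hb hzw)
  · have := order_A4 e hr
    simp [h4] at this
  · exact Or.inl e
  · have := order_A5 e hr
    simp [h4] at this
  · exact Or.inr (S_le_of_top (FF.eq_top_of_prime (hq ▸ (Fact.out : p.Prime)) L1 ▸ l2))

theorem A5_or (hq : Nat.card F = p ∨ (Nat.card F = p ^ 2 ∧ (p % 10 = 3 ∨ p % 10 = 7)))
    (hp : p ≠ 2) (hA : A4D t b) (ht : t ∈ N) (hb : b ∈ N) (hr : r ∈ N) (h4 : orderOf r = 5) :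
    Nonempty (N ≃* alternatingGroup (Fin 5)) ∨ S F ≤ N := by
  rcases dickson p N with ⟨z, hx⟩ | ⟨z, w, hzw, hx⟩ | ⟨h5, e⟩ | ⟨h5, e⟩ | ⟨h2', h5, e⟩ |
    ⟨g, L, l1, l2, l3⟩
  · exact absurd hx (hA.not_le_stab (mobF F p) hp ht hb z)
  · exact absurd hx (hA.not_le_pair (mobF F p) hp ht hb hzw)
  · have := order_A4 e hr
    simp [h4] at this
  · have := order_S4 e hr
    simp [h4] at this
  · exact Or.inl e
  refine Or.inr (S_le_of_top (?_ : PS ⊤ ≤ cj g N))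
  rcases hq with hq | ⟨hq, h10⟩
  · exact FF.eq_top_of_prime (hq ▸ (Fact.out : p.Prime)) L ▸ l2
  by_cases hL : L = ⊤
  · exact hL ▸ l2
  have a := FF.sq_le_of_ne_top hL
  obtain ⟨k, hk, c⟩ := FF.card_eq_pow (F := L) p
  rw [hq, c, ← pow_mul, Nat.pow_le_pow_iff_right (Fact.out : p.Prime).one_lt] at a
  rw [show k = 1 by omega, pow_one] at c
  have d := (Subgroup.orderOf_dvd_natCard _ hr).trans (card_cj g N ▸ Subgroup.card_dvd_of_le l3)
  rw [h4, card_PG, card_PGL l1, c, Nat.prime_five.dvd_mul, Nat.prime_five.dvd_mul] at d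
  omega

end Exc

theorem QD.not_S_le_Ico (D : QD F) {φ : F} (hφ : φ ^ 2 = φ + 1) (h7 : 7 ≤ Nat.card F) :
    ¬ S F ≤ D.Ico φ := fun h => by
  have a := (Subgroup.card_le_of_le h).trans (D.card_Ico hφ)
  have b : 8 * (7 * 6) ≤ (Nat.card F + 1) * (Nat.card F * (Nat.card F - 1)) :=
    Nat.mul_le_mul (by omega) (Nat.mul_le_mul (by omega) (by omega))
  rcases card_cases (F := F) le_rfl (by omega) with e | e <;> omega

end Cfsg.Agent.H6.Pg
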