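import Cfsg.Agent.H6.Quat

/-! The subgroups `A₄`, `S₄`, `A₅` of `PGL₂(F)`. -/

set_option autoImplicit false

namespace Cfsg.Agent.H6.Pg

open Matrix MulAction Quaternion Equiv
open scoped MatrixGroups

/-- generators -/
def s4t : Perm (Fin 4) := swap 0 1 * swap 2 3
/-- generators -/
def s4b : Perm (Fin 4) := swap 1 2 * swap 2 3
/-- generators -/
def s4r : Perm (Fin 4) := swap 0 1 * swap 1 2 * swap 2 3
/-- generators -/
def a4t : alternatingGroup (Fin 4) := ⟨s4t, Perm.mem_alternatingGroup.2 (by decide)⟩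
/-- generators -/
def a4b : alternatingGroup (Fin 4) := ⟨s4b, Perm.mem_alternatingGroup.2 (by decide)⟩
/-- generators -/
def a5t : alternatingGroup (Fin 5) :=
  ⟨swap 0 1 * swap 2 3, Perm.mem_alternatingGroup.2 (by decide)⟩
/-- generators -/
def a5b : alternatingGroup (Fin 5) :=
  ⟨swap 1 2 * swap 2 3, Perm.mem_alternatingGroup.2 (by decide)⟩

theorem s4d : A4D s4t s4b := ⟨by decide, by decide, by decide, by decide⟩
theorem a4d : A4D a4t a4b := ⟨by decide, by decide, by decide, by decide⟩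
theorem a5d : A4D a5t a5b := ⟨by decide, by decide, by decide, by decide⟩

/-- the three involutions -/
def inv3 {G : Type*} [Group G] (t b : G) : List G := [t, b * t * b⁻¹, t * (b * t * b⁻¹)]

theorem a4_pow : ∀ g : alternatingGroup (Fin 4), g ^ 2 = 1 ∨ g ^ 3 = 1 := by decide +kernel
theorem a4_conj : ∀ g : alternatingGroup (Fin 4), ∀ v ∈ inv3 a4t a4b,
    g * v * g⁻¹ ∈ inv3 a4t a4b := by decide +kernel
theorem a4_three : ∀ g : alternatingGroup (Fin 4), g ^ 3 = 1 ∨ g ∈ inv3 a4t a4b := by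
  decide +kernel
theorem a4_gen : ∀ β g : alternatingGroup (Fin 4), β * β = 1 ∨
    ∃ v ∈ 1 :: inv3 a4t a4b, g = v ∨ g = v * β ∨ g = v * β * β := by decide +kernel
theorem a4_inv : ∀ r s : alternatingGroup (Fin 4), s * r * s⁻¹ = r⁻¹ → r * r = 1 := by
  decide +kernel
theorem s4_pow : ∀ g : Perm (Fin 4), g ^ 3 = 1 ∨ g ^ 4 = 1 := by decide +kernel
theorem s4_coset : ∀ g : Perm (Fin 4),
    (∀ v ∈ 1 :: inv3 s4t s4b, (g * v) ^ 2 = 1 ∨ (g * v) ^ 3 = 1) ∨
    (∀ v ∈ 1 :: inv3 s4t s4b, g * v ≠ 1 ∧ (g * v) ^ 4 = 1) := by decide +kernel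
theorem s4_gen : ∀ g : Perm (Fin 4), (g ^ 3 = 1 ∨ g ∈ inv3 s4t s4b) ∨
    ((g * s4r) ^ 3 = 1 ∨ g * s4r ∈ inv3 s4t s4b) := by decide +kernel
theorem s4r_order : orderOf s4r = 4 :=
  orderOf_eq_prime_pow (p := 2) (n := 1) (by decide) (by decide)
theorem a5_pow : ∀ g : alternatingGroup (Fin 5), g ^ 2 = 1 ∨ g ^ 3 = 1 ∨ g ^ 5 = 1 := by
  decide +kernel

theorem card_a4 : Nat.card (alternatingGroup (Fin 4)) = 12 := by
  rw [nat_card_alternatingGroup]; simp [Nat.factorial]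
theorem card_a5 : Nat.card (alternatingGroup (Fin 5)) = 60 := by
  rw [nat_card_alternatingGroup]; simp [Nat.factorial]
theorem card_s4 : Nat.card (Perm (Fin 4)) = 24 := by
  rw [Nat.card_perm]; simp [Nat.factorial]

section

variable {G A : Type*} [Group G] [Group A] {M : Subgroup G}

theorem exists_hom (e : Nonempty (M ≃* A)) :
    ∃ f : A →* G, Function.Injective f ∧ f.range = M := by
  obtain ⟨e⟩ := e
  refine ⟨M.subtype.comp e.symm, M.subtype_injective.comp e.symm.injective, ?_⟩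
  rw [MonoidHom.range_comp, MonoidHom.range_eq_top.2 e.symm.surjective, ← MonoidHom.range_eq_map,
    Subgroup.range_subtype]

theorem card_of_equiv (e : Nonempty (M ≃* A)) : Nat.card M = Nat.card A :=
  e.elim fun e => Nat.card_congr e.toEquiv

theorem order_A4 (e : Nonempty (M ≃* alternatingGroup (Fin 4))) {g : G} (hg : g ∈ M) :
    orderOf g ∣ 2 ∨ orderOf g ∣ 3 := by
  obtain ⟨f, hf, rfl⟩ := exists_hom e
  obtain ⟨a, rfl⟩ := hg
  simpa only [orderOf_injective f hf, orderOf_dvd_iff_pow_eq_one] using a4_pow a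

theorem order_S4 (e : Nonempty (M ≃* Perm (Fin 4))) {g : G} (hg : g ∈ M) :
    orderOf g ∣ 3 ∨ orderOf g ∣ 4 := by
  obtain ⟨f, hf, rfl⟩ := exists_hom e
  obtain ⟨a, rfl⟩ := hg
  simpa only [orderOf_injective f hf, orderOf_dvd_iff_pow_eq_one] using s4_pow a

theorem order_A5 (e : Nonempty (M ≃* alternatingGroup (Fin 5))) {g : G} (hg : g ∈ M) :
    orderOf g ∣ 2 ∨ orderOf g ∣ 3 ∨ orderOf g ∣ 5 := by
  obtain ⟨f, hf, rfl⟩ := exists_hom e
  obtain ⟨a, rfl⟩ := hg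
  simpa only [orderOf_injective f hf, orderOf_dvd_iff_pow_eq_one] using a5_pow a

theorem exists_four (e : Nonempty (M ≃* Perm (Fin 4))) : ∃ g ∈ M, orderOf g = 4 := by
  obtain ⟨f, hf, rfl⟩ := exists_hom e
  exact ⟨_, ⟨s4r, rfl⟩, by rw [orderOf_injective f hf, s4r_order]⟩

theorem exists_a4d {t b : A} (h : A4D t b) (e : Nonempty (M ≃* A)) :
    ∃ t ∈ M, ∃ b ∈ M, A4D t b := by
  obtain ⟨f, hf, rfl⟩ := exists_hom e
  exact ⟨_, ⟨t, rfl⟩, _, ⟨b, rfl⟩, h.map f hf⟩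

end

variable {F : Type*} [Field F] {M : Subgroup PGL(2, F)}

theorem mem_S_of_cube {g : PGL(2, F)} (h : g ^ 3 = 1) : g ∈ S F := by
  have := sq_mem_S (g * g)
  rwa [show g * g * (g * g) = g ^ 3 * g by simp [pow_succ, mul_assoc], h, one_mul] at this

theorem mem_S_of_inv3 {A : Type*} [Group A] {t b : A} (h : A4D t b) (f : A →* PGL(2, F))
    (hf : Function.Injective f) {g : A} (hg : g ^ 3 = 1 ∨ g ∈ inv3 t b) : f g ∈ S F := by
  have := (h.map f hf).mem_S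
  rcases hg with hg | hg
  · exact mem_S_of_cube (by rw [← map_pow, hg, map_one])
  · simp only [inv3, List.mem_cons, List.not_mem_nil, or_false] at hg
    rcases hg with rfl | rfl | rfl
    · exact this.1
    · simpa only [map_mul, map_inv] using this.2
    · simpa only [map_mul, map_inv] using mul_mem this.1 this.2

theorem A4_le_S (e : Nonempty (M ≃* alternatingGroup (Fin 4))) : M ≤ S F := by
  obtain ⟨f, hf, rfl⟩ := exists_hom e
  rintro _ ⟨g, rfl⟩
  exact mem_S_of_inv3 a4d f hf (a4_three g)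

theorem A5_le_S (e : Nonempty (M ≃* alternatingGroup (Fin 5))) : M ≤ S F := by
  obtain ⟨f, hf, rfl⟩ := exists_hom e
  have : (S F).Normal := ⟨fun g hg h => by rwa [← cj_eq le_rfl h, conj_mem_cj]⟩
  rcases (this.comap f).eq_bot_or_eq_top with h | h
  · exact absurd (h.le (a5d.map f hf).mem_S.1) a5d.ne
  · rintro _ ⟨g, rfl⟩
    exact h.ge (Subgroup.mem_top g)

theorem mem_S_iff_of_four (h2 : (2 : F) ≠ 0) {g : PGL(2, F)} (hg : orderOf g = 4) :
    g ∈ S F ↔ IsSquare (2 : F) := by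
  rw [mem_S_iff (by rwa [tau_of_order_four hg]), tau_of_order_four hg]

theorem S4_le_S (h2 : (2 : F) ≠ 0) (hs : IsSquare (2 : F)) (e : Nonempty (M ≃* Perm (Fin 4))) :
    M ≤ S F := by
  obtain ⟨f, hf, rfl⟩ := exists_hom e
  rintro _ ⟨g, rfl⟩
  rcases s4_gen g with h | h
  · exact mem_S_of_inv3 s4d f hf h
  · have := mem_S_of_inv3 s4d f hf h
    rwa [map_mul, Subgroup.mul_mem_cancel_right _ ((mem_S_iff_of_four h2
      (by rw [orderOf_injective f hf, s4r_order])).2 hs)] at this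

theorem tau_sq (L : Subfield F) {g : PGL(2, F)} (h : g ^ 2 = 1 ∨ g ^ 3 = 1) :
    ∃ s ∈ L, tau g = 1 * s ^ 2 := by
  by_cases h1 : g = 1
  · exact ⟨2, natCast_mem L 2, by rw [h1, tau_one]; norm_num⟩
  rcases h with h | h
  · exact ⟨0, zero_mem _, by simpa using (pow_two_iff h1).1 h⟩
  · exact ⟨1, one_mem _, by simpa using (pow_three_iff h1).1 h⟩

theorem tau_sq4 (L : Subfield F) {g : PGL(2, F)} (h : g ≠ 1 ∧ g ^ 4 = 1) :
    ∃ s ∈ L, tau g = 2 * s ^ 2 := by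
  rcases (pow_four_iff h.1).1 h.2 with h | h
  · exact ⟨0, zero_mem _, by simpa using h⟩
  · exact ⟨1, one_mem _, by simpa using h⟩

theorem tau_sq5 {L : Subfield F} (hL : ∀ φ : F, φ ^ 2 = φ + 1 → φ ∈ L) {g : PGL(2, F)}
    (h : g ^ 2 = 1 ∨ g ^ 3 = 1 ∨ g ^ 5 = 1) : ∃ s ∈ L, tau g = 1 * s ^ 2 := by
  by_cases h1 : g = 1
  · exact tau_sq L (Or.inl (by simp [h1]))
  rcases h with h | h | h
  · exact tau_sq L (Or.inl h)
  · exact tau_sq L (Or.inr h)
  · have := (pow_five_iff h1).1 h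
    exact ⟨tau g - 1, hL _ (by linear_combination this), by linear_combination -this⟩

namespace QD

variable (D : QD F)

theorem norm_iso {A : Type*} [Group A] {t b : A} (h : A4D t b) (e : Nonempty (M ≃* A)) :
    ∃ (g : PGL(2, F)) (f : A →* PGL(2, F)), Function.Injective f ∧ f.range = cj g M ∧
      f t = D.qt qi ∧ f (b * t * b⁻¹) = D.qt qj ∧ f (t * (b * t * b⁻¹)) = D.qt qk := by
  obtain ⟨f, hf, rfl⟩ := exists_hom e
  obtain ⟨g, h1, h2⟩ := D.normalize (h.map f hf)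
  have h3 : ((MulAut.conj g).toMonoidHom.comp f) (b * t * b⁻¹) = D.qt qj := by
    rw [← h2]; simp
  exact ⟨g, (MulAut.conj g).toMonoidHom.comp f, (MulAut.conj g).injective.comp hf,
    MonoidHom.range_comp _ _, h1, h3, by rw [map_mul, h3, ← i_mul_j, ← h1]; rfl⟩

include D in
theorem A4_le_PG (e : Nonempty (M ≃* alternatingGroup (Fin 4))) (L : Subfield F) :
    ∃ g, cj g M ≤ PG L := by
  obtain ⟨g, f, -, h0, h1, h2, h3⟩ := D.norm_iso Pg.a4d e
  refine ⟨g, h0 ▸ ?_⟩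
  have key : ∀ a, ∃ s ∈ L, tau (f a) = 1 * s ^ 2 := fun a =>
    tau_sq L ((a4_pow a).imp (fun e => by rw [← map_pow, e, map_one])
      fun e => by rw [← map_pow, e, map_one])
  rintro _ ⟨a, rfl⟩
  exact D.coord (key a) (h1 ▸ map_mul f _ _ ▸ key _) (h2 ▸ map_mul f _ _ ▸ key _)
    (h3 ▸ map_mul f _ _ ▸ key _)

include D in
theorem A5_le_PG (e : Nonempty (M ≃* alternatingGroup (Fin 5))) {L : Subfield F}
    (hL : ∀ φ : F, φ ^ 2 = φ + 1 → φ ∈ L) : ∃ g, cj g M ≤ PG L := by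
  obtain ⟨g, f, -, h0, h1, h2, h3⟩ := D.norm_iso a5d e
  refine ⟨g, h0 ▸ ?_⟩
  have key : ∀ a, ∃ s ∈ L, tau (f a) = 1 * s ^ 2 := fun a =>
    tau_sq5 hL ((a5_pow a).imp (fun e => by rw [← map_pow, e, map_one]) (Or.imp
      (fun e => by rw [← map_pow, e, map_one]) fun e => by rw [← map_pow, e, map_one]))
  rintro _ ⟨a, rfl⟩
  exact D.coord (key a) (h1 ▸ map_mul f _ _ ▸ key _) (h2 ▸ map_mul f _ _ ▸ key _)
    (h3 ▸ map_mul f _ _ ▸ key _)

include D in
theorem S4_le_PG (e : Nonempty (M ≃* Perm (Fin 4))) (L : Subfield F) :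
    ∃ g, cj g M ≤ PG L := by
  obtain ⟨g, f, hf, h0, h1, h2, h3⟩ := D.norm_iso s4d e
  refine ⟨g, h0 ▸ ?_⟩
  rintro _ ⟨a, rfl⟩
  have : ∃ δ, ∀ v ∈ 1 :: inv3 s4t s4b, ∃ s ∈ L, tau (f (a * v)) = δ * s ^ 2 := by
    rcases s4_coset a with h | h
    · exact ⟨1, fun v hv => tau_sq L ((h v hv).imp (fun e => by rw [← map_pow, e, map_one])
        fun e => by rw [← map_pow, e, map_one])⟩
    · exact ⟨2, fun v hv => tau_sq4 L ⟨(map_ne_one_iff f hf).2 (h v hv).1,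
        by rw [← map_pow, (h v hv).2, map_one]⟩⟩
  obtain ⟨δ, key⟩ := this
  exact D.coord (mul_one a ▸ key 1 (by simp)) (h1 ▸ map_mul f _ _ ▸ key _ (by simp [inv3]))
    (h2 ▸ map_mul f _ _ ▸ key _ (by simp [inv3])) (h3 ▸ map_mul f _ _ ▸ key _ (by simp [inv3]))

theorem A4_le_N0 (e : Nonempty (M ≃* alternatingGroup (Fin 4))) :
    ∃ g, cj g M ≤ D.N0 ∧ (D.qt qb ∈ cj g M → ∀ H : Subgroup PGL(2, F), D.qt qi ∈ H →
      D.qt qb ∈ H → cj g M ≤ H) := by
  obtain ⟨g, f, hf, h0, h1, h2, h3⟩ := D.norm_iso Pg.a4d e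
  refine ⟨g, h0 ▸ ⟨?_, ?_⟩⟩
  · rintro _ ⟨a, rfl⟩
    have key : ∀ v ∈ inv3 a4t a4b,
        f a * f v * (f a)⁻¹ ∈ ({D.qt qi, D.qt qj, D.qt qk} : Set PGL(2, F)) := fun v hv => by
      have := a4_conj a v hv
      rw [← map_inv, ← map_mul, ← map_mul, ← h1, ← h2, ← h3]
      simp only [inv3, List.mem_cons, List.not_mem_nil, or_false] at this
      rcases this with e | e | e <;> simp only [e, Set.mem_insert_iff, Set.mem_singleton_iff,
        true_or, or_true]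
    have k1 := key a4t (by simp [inv3])
    have k2 := key (a4b * a4t * a4b⁻¹) (by simp [inv3])
    have k3 := key (a4t * (a4b * a4t * a4b⁻¹)) (by simp [inv3])
    rw [h1] at k1
    rw [h2] at k2
    rw [h3] at k3
    exact D.mem_N0 k1 k2 k3
  · rintro ⟨β, hβ⟩ H hi hb _ ⟨a, rfl⟩
    have hj : D.qt qj ∈ H := D.b_i ▸ mul_mem (mul_mem hb hi) (inv_mem hb)
    obtain ⟨v, hv, h⟩ := (a4_gen β a).resolve_left fun e =>
      D.a4d.bb (by rw [← hβ, ← map_mul, e, map_one])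
    have hv' : f v ∈ H := by
      simp only [inv3, List.mem_cons, List.not_mem_nil, or_false] at hv
      rcases hv with rfl | rfl | rfl | rfl
      exacts [by simp, h1 ▸ hi, h2 ▸ hj, h3 ▸ D.i_mul_j ▸ mul_mem hi hj]
    rcases h with rfl | rfl | rfl
    · exact hv'
    · simpa only [map_mul, hβ] using mul_mem hv' hb
    · simpa only [map_mul, hβ] using mul_mem (mul_mem hv' hb) hb

end QD

theorem exists_golden [Finite F] (h3 : 3 ≤ Nat.card F)
    (h5 : 5 ∣ (Nat.card F + 1) * (Nat.card F * (Nat.card F - 1))) : ∃ φ : F, φ ^ 2 = φ + 1 := by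
  have := Fact.mk Nat.prime_five
  obtain ⟨g, hg⟩ := exists_prime_orderOf_dvd_card' (G := PGL(2, F)) 5 (by rwa [card_PGL h3])
  exact ⟨tau g - 1, by linear_combination tau_of_order_five hg⟩

theorem golden_Fix_two (p : ℕ) [Fact p.Prime] [CharP F p] (φ : F) (h : φ ^ 2 = φ + 1) :
    φ ∈ FF.Fix F p 2 := by
  have h1 : (φ ^ p) ^ 2 = φ ^ p + 1 := by
    rw [← pow_mul, mul_comm, pow_mul, h, add_pow_char, one_pow]
  rw [FF.mem_Fix, sq, pow_mul]
  rcases show φ ^ p = φ ∨ φ ^ p = 1 - φ by grind with e | e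
  · rw [e, e]
  · rw [e, sub_pow_char, one_pow, e, sub_sub_cancel]

theorem golden_Fix_one (p : ℕ) [Fact p.Prime] [CharP F p] (h2 : p ≠ 2)
    (h5 : 5 ∣ (p + 1) * (p * (p - 1))) (φ : F) (h : φ ^ 2 = φ + 1) : φ ∈ FF.Fix F p 1 := by
  have := (Fact.out : p.Prime).two_le
  obtain ⟨ψ, hψ⟩ := exists_golden (F := ZMod p) (by rw [Nat.card_zmod]; omega)
    (by rwa [Nat.card_zmod])
  have h1 : ZMod.castHom dvd_rfl F ψ ∈ FF.Fix F p 1 := by
    rw [FF.mem_Fix, pow_one, ← map_pow, ZMod.pow_card]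
  have h2 := congrArg (ZMod.castHom dvd_rfl F) hψ
  rw [map_pow, map_add, map_one] at h2
  rcases show φ = ZMod.castHom dvd_rfl F ψ ∨ φ = 1 - ZMod.castHom dvd_rfl F ψ by grind with e | e
  · rwa [e]
  · exact e ▸ sub_mem (one_mem _) h1

end Cfsg.Agent.H6.Pg
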