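import Cfsg.Agent.H6.Cls

/-! Small exceptions in the list of maximal subgroups of `PSL₂(F)` and `PGL₂(F)`. -/

set_option autoImplicit false

namespace Cfsg.Agent.H6.Pg

open Matrix OnePoint MulAction Equiv Quaternion
open scoped MatrixGroups

variable {F : Type*} [Field F]

namespace QD

variable (D : QD F)

theorem j_inv_4 : D.qt qj * D.qt q4 * (D.qt qj)⁻¹ = (D.qt q4)⁻¹ :=
  D.inv_conj z_qj D.z_q4 (by ext <;> simp [qj, q4])

theorem j_inv_i : D.qt qj * D.qt qi * (D.qt qj)⁻¹ = (D.qt qi)⁻¹ :=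
  D.inv_conj z_qj z_qi (by ext <;> simp [qj, qi])

theorem s_inv_b : D.qt qs * D.qt qb * (D.qt qs)⁻¹ = (D.qt qb)⁻¹ :=
  D.inv_conj D.z_qs D.z_qb (by ext <;> simp [qs, qb])

theorem k_inv_c {φ : F} (h : φ ^ 2 = φ + 1) :
    D.qt qk * D.qt (qc φ) * (D.qt qk)⁻¹ = (D.qt (qc φ))⁻¹ :=
  D.inv_conj z_qk (D.z_qc h) (by ext <;> simp [qk, qc])

theorem k_mem_Ico (φ : F) : D.qt qk ∈ D.Ico φ :=
  D.i_mul_j ▸ D.b_i ▸ mul_mem (D.i_mem_Ico φ)
    (mul_mem (mul_mem (D.b_mem_Ico φ) (D.i_mem_Ico φ)) (inv_mem (D.b_mem_Ico φ)))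

theorem j_not_mem [Finite F] : D.qt qj ∉ Subgroup.zpowers (D.qt qi) := by
  classical
  rw [mem_zpowers_iff_mem_range_orderOf, D.order_i]
  simp only [Finset.mem_image, Finset.mem_range, not_exists, not_and]
  intro n hn e
  interval_cases n
  · exact D.a4d.ne2 (by rw [D.b_i, ← e, pow_zero])
  · exact D.a4d.ne3 (by rw [D.b_i, ← e, pow_one, D.a4d.sq])

theorem q4_mem_S (h : IsSquare (2 : F)) : D.qt q4 ∈ S F := (D.qt_mem_S D.z_q4).2 (by rwa [n_q4])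
theorem s_mem_S (h : IsSquare (2 : F)) : D.qt qs ∈ S F := (D.qt_mem_S D.z_qs).2 (by rwa [n_qs])

end QD

variable [Finite F]

theorem pow_char_ne_one (p : ℕ) [Fact p.Prime] [CharP F p] {r : PGL(2, F)}
    (h : ¬ orderOf r ∣ Nat.card F) : r ^ p ≠ 1 := fun e => by
  obtain ⟨k, hk, a⟩ := FF.card_eq_pow (F := F) p
  exact h ((orderOf_dvd_iff_pow_eq_one.2 e).trans (a ▸ dvd_pow_self p hk))

theorem not_two_top (h5 : Nat.card F = 5) {x y : OnePoint F} (hxy : x ≠ y) :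
    ¬ (⊤ ⊓ Mob.pair PGL(2, F) (rat x) (rat y) ⋖ ⊤) := by
  obtain ⟨p, _⟩ := CharP.exists F
  have hp := Fact.mk (CharP.char_is_prime F p)
  have ho : Odd (Nat.card F) := by rw [h5]; decide
  obtain ⟨D⟩ := QD.nonempty ho
  exact not_covBy_two (ε := 1) le_top (by omega) (by rw [one_mul, card_top (by omega)]) p
    ((FF.odd_iff p).1 ho) le_top (D.not_S_le_N0 (by omega)) D.a4d D.i_mem_N0 D.b_mem_N0
    D.q4_mem_N0 D.j_mem_N0 D.j_inv_4 (not_mem_zpowers D.j_inv_4 (by simp [D.order_4]))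
    (pow_char_ne_one p (by simp [D.order_4, h5])) (by simp [D.order_4, h5])
    (by simp [D.order_4, h5]) hxy

theorem not_two_S (ho : Odd (Nat.card F)) (h5 : 5 ≤ Nat.card F) (h13 : Nat.card F < 13)
    {x y : OnePoint F} (hxy : x ≠ y) : ¬ (S F ⊓ Mob.pair PGL(2, F) (rat x) (rat y) ⋖ S F) := by
  obtain ⟨p, _⟩ := CharP.exists F
  have hp := Fact.mk (CharP.char_is_prime F p)
  obtain ⟨D⟩ := QD.nonempty ho
  have hp2 := (FF.odd_iff p).1 ho
  have hε := card_S (by omega) ho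
  have hN : ¬ S F ≤ D.N0 ⊓ S F := fun e => D.not_S_le_N0 (by omega) (e.trans inf_le_left)
  have h : Nat.card F = 5 ∨ Nat.card F = 7 ∨ Nat.card F = 9 ∨ Nat.card F = 11 := by
    obtain ⟨k, hk⟩ := ho
    omega
  rcases h with h | h | h | h
  · exact not_covBy_two le_rfl (by omega) hε p hp2 inf_le_right hN D.a4d ⟨D.i_mem_N0, D.i_mem_S⟩
      ⟨D.b_mem_N0, D.b_mem_S⟩ ⟨D.i_mem_N0, D.i_mem_S⟩ ⟨D.j_mem_N0, D.j_mem_S⟩ D.j_inv_i D.j_not_mem
      (pow_char_ne_one p (by simp [D.order_i, h])) (by simp [D.order_i, h])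
      (by simp [D.order_i, h]) hxy
  · exact not_covBy_two le_rfl (by omega) hε p hp2 inf_le_right hN D.a4d ⟨D.i_mem_N0, D.i_mem_S⟩
      ⟨D.b_mem_N0, D.b_mem_S⟩ ⟨D.b_mem_N0, D.b_mem_S⟩
      ⟨D.s_mem_N0, D.s_mem_S (FF.isSquare_two_iff.2 (by omega))⟩ D.s_inv_b
      (not_mem_zpowers D.s_inv_b (by simp [D.order_b]))
      (pow_char_ne_one p (by simp [D.order_b, h])) (by simp [D.order_b, h])
      (by simp [D.order_b, h]) hxy
  · exact not_covBy_two le_rfl (by omega) hε p hp2 inf_le_right hN D.a4d ⟨D.i_mem_N0, D.i_mem_S⟩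
      ⟨D.b_mem_N0, D.b_mem_S⟩ ⟨D.q4_mem_N0, D.q4_mem_S (FF.isSquare_two_iff.2 (by omega))⟩
      ⟨D.j_mem_N0, D.j_mem_S⟩ D.j_inv_4 (not_mem_zpowers D.j_inv_4 (by simp [D.order_4]))
      (pow_char_ne_one p (by simp [D.order_4, h])) (by simp [D.order_4, h])
      (by simp [D.order_4, h]) hxy
  · obtain ⟨φ, hφ⟩ := exists_golden (F := F) (by omega) (by simp [h])
    exact not_covBy_two le_rfl (by omega) hε p hp2 (D.Ico_le_S hφ) (D.not_S_le_Ico hφ (by omega))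
      D.a4d (D.i_mem_Ico φ) (D.b_mem_Ico φ) (D.c_mem_Ico φ) (D.k_mem_Ico φ) (D.k_inv_c hφ)
      (not_mem_zpowers (D.k_inv_c hφ) (by simp [D.order_c hφ]))
      (pow_char_ne_one p (by simp [D.order_c hφ, h])) (by simp [D.order_c hφ, h])
      (by simp [D.order_c hφ, h]) hxy

theorem not_out_S (h : Nat.card F = 7 ∨ Nat.card F = 9) {y y' : Pt F} (hy : y ∉ Set.range rat)
    (hy' : S F ⊓ stabilizer _ y ≠ ⊥) (hyy : y ≠ y') (hle : S F ⊓ stabilizer _ y ≤ stabilizer _ y') :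
    ¬ (S F ⊓ Mob.pair PGL(2, F) y y' ⋖ S F) := by
  obtain ⟨p, _⟩ := CharP.exists F
  have hp := Fact.mk (CharP.char_is_prime F p)
  have ho : Odd (Nat.card F) := by rcases h with h | h <;> rw [h] <;> decide
  obtain ⟨D⟩ := QD.nonempty ho
  have hp2 := (FF.odd_iff p).1 ho
  have hε := card_S (by omega) ho
  have hN : ¬ S F ≤ D.N0 ⊓ S F := fun e => D.not_S_le_N0 (by omega) (e.trans inf_le_left)
  rcases h with h | h
  · exact not_covBy_out le_rfl (by omega) hε p hp2 inf_le_right hN D.a4d ⟨D.i_mem_N0, D.i_mem_S⟩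
      ⟨D.b_mem_N0, D.b_mem_S⟩ ⟨D.q4_mem_N0, D.q4_mem_S (FF.isSquare_two_iff.2 (by omega))⟩
      ⟨D.j_mem_N0, D.j_mem_S⟩ D.j_inv_4 (not_mem_zpowers D.j_inv_4 (by simp [D.order_4]))
      (pow_char_ne_one p (by simp [D.order_4, h])) (by simp [D.order_4, h]) hy hy' hyy hle
  · obtain ⟨φ, hφ⟩ := exists_golden (F := F) (by omega) (by simp [h])
    exact not_covBy_out le_rfl (by omega) hε p hp2 (D.Ico_le_S hφ) (D.not_S_le_Ico hφ (by omega))
      D.a4d (D.i_mem_Ico φ) (D.b_mem_Ico φ) (D.c_mem_Ico φ) (D.k_mem_Ico φ) (D.k_inv_c hφ)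
      (not_mem_zpowers (D.k_inv_c hφ) (by simp [D.order_c hφ]))
      (pow_char_ne_one p (by simp [D.order_c hφ, h])) (by simp [D.order_c hφ, h]) hy hy' hyy hle

theorem A4_cond (ho : Odd (Nat.card F)) (h5 : 5 ≤ Nat.card F) {M : Subgroup PGL(2, F)}
    (hM : M ⋖ S F) (e : Nonempty (M ≃* alternatingGroup (Fin 4))) :
    (Nat.card F % 8 = 3 ∨ Nat.card F % 8 = 5) ∧ ¬ (Nat.card F % 10 = 1 ∨ Nat.card F % 10 = 9) := by
  obtain ⟨D⟩ := QD.nonempty ho
  obtain ⟨g, h1, h2⟩ := D.A4_le_N0 e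
  have hM' := (cj_covBy (h := g)).2 hM
  rw [cj_eq le_rfl] at hM'
  have e' : Nonempty (cj g M ≃* alternatingGroup (Fin 4)) :=
    e.map fun e => (cjEquiv g M).symm.trans e
  have h3 := (hM'.eq_or_eq (le_inf h1 hM'.le) inf_le_right).resolve_right
    fun e => D.not_S_le_N0 (by omega) (e.ge.trans inf_le_left)
  constructor
  · by_contra hc
    have := order_A4 e' (h3.le ⟨D.q4_mem_N0, D.q4_mem_S (FF.isSquare_two_iff.2 (by omega))⟩)
    simp [D.order_4] at this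
  · intro h10
    obtain ⟨φ, hφ⟩ := exists_golden (F := F) (by omega) (by
      rw [Nat.prime_five.dvd_mul, Nat.prime_five.dvd_mul]; omega)
    have h4 := (hM'.eq_or_eq (h2 (h3.le ⟨D.b_mem_N0, D.b_mem_S⟩) _ (D.i_mem_Ico φ)
      (D.b_mem_Ico φ)) (D.Ico_le_S hφ)).resolve_right
        fun e => D.not_S_le_Ico hφ (by omega) e.ge
    have := order_A4 e' (h4.le (D.c_mem_Ico φ))
    simp [D.order_c hφ] at this

omit [Finite F] in
theorem psl_coatom_iff (M : Subgroup PSL(2, F)) :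
    IsCoatom M ↔ M.map ProjectiveSpecialLinearGroup.toPGL ⋖ S F := by
  rw [isCoatom_iff_map _ ProjectiveSpecialLinearGroup.toPGL_injective, range_toPGL]

omit [Finite F] in
theorem psl_equiv (M : Subgroup PSL(2, F)) :
    Nonempty (M ≃* M.map ProjectiveSpecialLinearGroup.toPGL) :=
  ⟨M.equivMapOfInjective _ ProjectiveSpecialLinearGroup.toPGL_injective⟩

omit [Finite F] in
theorem exists_psl {A : Type*} [Group A] {H : Subgroup PGL(2, F)} (h : H ⋖ S F)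
    (e : Nonempty (H ≃* A)) : ∃ M : Subgroup PSL(2, F), IsCoatom M ∧ Nonempty (M ≃* A) := by
  have := Subgroup.map_comap_eq_self (h.le.trans range_toPGL.ge)
  refine ⟨H.comap ProjectiveSpecialLinearGroup.toPGL, (psl_coatom_iff _).2 (this.symm ▸ h), ?_⟩
  obtain ⟨e⟩ := e
  obtain ⟨e'⟩ := psl_equiv (H.comap ProjectiveSpecialLinearGroup.toPGL)
  rw [this] at e'
  exact ⟨e'.trans e⟩

theorem PS_eq_PG {L : Subfield F} (h : ¬ Odd (Nat.card L)) : PS L = PG L := by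
  rw [PS, S_eq_top h, PG, MonoidHom.range_eq_map]

theorem trans_equiv {A B C : Type*} [Group A] [Group B] [Group C] (e : Nonempty (A ≃* B))
    (e' : Nonempty (B ≃* C)) : Nonempty (A ≃* C) :=
  e.elim fun e => e'.elim fun e' => ⟨e.trans e'⟩

end Cfsg.Agent.H6.Pg
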