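import Cfsg.Agent.H6.MG1
import Cfsg.Agent.H6.SmallId
import Cfsg.Agent.H4.Ident
import Cfsg.Agent.H8.Count
import Cfsg.Agent.S0678
import Cfsg.Agent.S5939

/-! Recognition of the simple groups of order 168, 360 and 2520. -/

set_option autoImplicit false

namespace Cfsg.Agent.H6.MG

open Subgroup MulAction Cfsg.Agent.H4 Cfsg.Agent.H4.CABasic Cfsg.Agent.H4.FeitLow
  Cfsg.Agent.H4.Basic Cfsg.Agent.H4.Zass

variable {G : Type*} [Group G]

theorem inj_quot [IsSimpleGroup G] {H : Subgroup G} (h : H ≠ ⊤) :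
    Function.Injective (toPermHom G (G ⧸ H)) := by
  rw [← MonoidHom.ker_eq_bot_iff, ← normalCore_eq_ker]
  exact (IsSimpleGroup.eq_bot_or_eq_top_of_normal _ inferInstance).resolve_right fun e =>
    h (top_le_iff.1 (e ▸ H.normalCore_le))

theorem iso_alt [Finite G] [IsSimpleGroup G] (H : Subgroup G) {n : ℕ} (hi : H.index = n)
    (h1 : n ≠ 1) (hc : 2 * Nat.card G = n.factorial) : Nonempty (G ≃* alternatingGroup (Fin n)) := by
  obtain ⟨e⟩ : Nonempty (G ⧸ H ≃ Fin n) := ⟨Finite.equivFinOfCardEq hi⟩
  exact SmallId.equiv_alt_of_inj (e.permCongrHom.toMonoidHom.comp (toPermHom G (G ⧸ H)))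
    (e.permCongrHom.injective.comp (inj_quot (by rintro rfl; simp at hi; omega))) hc

theorem burnside [Finite G] [IsSimpleGroup G] (hna : ¬ ∀ x y : G, x * y = y * x) {p : ℕ}
    [Fact p.Prime] (P : Sylow p G) (hp : p ∣ Nat.card G) :
    ¬ normalizer (P : Set G) ≤ centralizer (P : Set G) := fun h => by
  rcases IsSimpleGroup.eq_bot_or_eq_top_of_normal (MonoidHom.transferSylow P h).ker inferInstance
    with e | e
  · exact hna fun x y => (MonoidHom.ker_eq_bot_iff _).1 e (by
      rw [map_mul, map_mul]; exact Subtype.ext (h (le_normalizer (SetLike.coe_mem _)) _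
        (SetLike.coe_mem _)))
  · exact MonoidHom.not_dvd_card_ker_transferSylow P h (by rwa [e, card_top])

theorem psl_of_ca [Finite G] [IsSimpleGroup G] {A : Subgroup G} (hA : IsCA A)
    (hidx : (normalizer (A : Set G)).index = Nat.card A + 1) {w : ℕ}
    (hw : A.relIndex (normalizer (A : Set G)) = w) (h2 : 2 * w = Nat.card A - 1)
    (he : Even (Nat.card G)) (hreal : ∀ h : G, h ^ w = 1 → ∃ u, u * h * u⁻¹ = h⁻¹)
    (hab : ∀ E : Subgroup G, Nat.card E = w → IsMulCommutative E)
    (F : Type*) [Field F] [Fintype F] (hF : Fintype.card F = Nat.card A) :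
    Nonempty (G ≃* Matrix.ProjectiveSpecialLinearGroup (Fin 2) F) := by
  obtain ⟨hK, h3⟩ := zlem hA hidx
  have hi := inj_quot (H := normalizer (A : Set G)) (fun e => by
    have := hA.one_lt_card
    rw [e, index_top] at hidx; omega)
  haveI : FaithfulSMul G (G ⧸ normalizer (A : Set G)) := ⟨fun e => hi (Equiv.ext e)⟩
  set a : G ⧸ normalizer (A : Set G) := ((1 : G) : G ⧸ normalizer (A : Set G))
  have hst : stabilizer G a = normalizer (A : Set G) := stabilizer_quotient _
  obtain ⟨s, s1, s2⟩ : ∃ s : G, s * s = 1 ∧ s • a ≠ a := by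
    obtain ⟨t, -, t1, t2⟩ := exists_involution_of_even (⊤ : Subgroup G) (by rwa [card_top])
    obtain ⟨x, hx⟩ : ∃ x : G ⧸ normalizer (A : Set G), t • x ≠ x := by
      by_contra hc
      push Not at hc
      exact t2 (hi (Equiv.ext fun x => by simpa using hc x))
    obtain ⟨g, rfl⟩ := exists_smul_eq G a x
    exact ⟨g⁻¹ * t * g, by simp [mul_assoc, ← mul_assoc t, t1], by
      rwa [mul_smul, mul_smul, ne_eq, inv_smul_eq_iff]⟩
  have s3 : s • s • a = a := by rw [← mul_smul, s1, one_smul]
  have si : s⁻¹ = s := inv_eq_of_mul_eq_one_right s1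
  have cE : Nat.card ↥(stabilizer G a ⊓ stabilizer G (s • a)) = w := by
    have := hK.card_stab s2.symm
    rw [hst, ← card_mul_relIndex, hw] at this
    rw [hst]
    exact (Nat.eq_of_mul_eq_mul_left Nat.card_pos this).symm
  refine Ident.equiv_psl h3 s2.symm hK (by rw [cE, h2]) s1 rfl s3 (fun h hh => ?_) F hF
  have ab : ∀ e ∈ stabilizer G a ⊓ stabilizer G (s • a), e * h * e⁻¹ = h := fun e he =>
    mul_inv_eq_iff_eq_mul.2 (congrArg Subtype.val ((hab _ cE).is_comm.comm ⟨e, he⟩ ⟨h, hh⟩))
  by_cases h1 : h = 1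
  · simp [h1]
  obtain ⟨u, hu⟩ := hreal h (cE ▸ congrArg Subtype.val (pow_card_eq_one' (x := (⟨h, hh⟩ :
    ↥(stabilizer G a ⊓ stabilizer G (s • a))))))
  have fx : ∀ x : G ⧸ normalizer (A : Set G), h • x = x → u • x = a ∨ u • x = s • a := fun x hx =>
    h3.eq_or_eq h1 s2.symm hh.1 hh.2 (by
      rw [← inv_smul_eq_iff.1 (show h⁻¹ • u • x = u • x by
        rw [← hu, mul_smul, mul_smul, inv_smul_smul, hx])])
  have ne : u • a ≠ u • s • a := fun e => s2 (smul_left_cancel u e).symm
  rcases fx a hh.1 with e | e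
  · have hi : h = h⁻¹ := by
      rw [← hu, ab u ⟨e, (fx _ hh.2).resolve_left fun e' => ne (e.trans e'.symm)⟩]
    have h2 : h * h = 1 := mul_eq_one_iff_eq_inv.2 hi
    have k1 : (s * h * s⁻¹) • a = a := by
      rw [si, mul_smul, mul_smul, show h • s • a = s • a from hh.2, s3]
    have k2 : (s * h * s⁻¹) • s • a = s • a := by
      rw [mul_smul, mul_smul, inv_smul_smul, show h • a = a from hh.1]
    obtain ⟨x, hx, x1⟩ := (A.bot_or_exists_ne_one).resolve_left hA.ne_bot
    have inv : ∀ h : G, h ≠ 1 → h * h = 1 → h • a = a → h • s • a = s • a → h * x * h⁻¹ = x⁻¹ :=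
      fun h h1 h2 ha hb => inverts hA (hst ▸ ha) (fun e => h1 (hK.eq_one e s2 hb)) (h2 ▸ one_mem _) hx
    have k3 := inv _ (by simpa using h1) (by simp [h2]) k1 k2
    rw [← inv h h1 h2 hh.1 hh.2] at k3
    have := hK.eq_one ((hA.cent x hx x1 (h⁻¹ * (s * h * s⁻¹))).1 (by
      rw [mul_assoc, mul_inv_eq_iff_eq_mul.1 k3]; group)) s2 (by
      rw [mul_smul, k2, inv_smul_eq_iff]; exact hh.2.symm)
    rw [← hi, (inv_mul_eq_one.1 this).symm]
  · have e' := (fx _ hh.2).resolve_right fun e' => ne (e.trans e'.symm)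
    have := ab (s * u) (mem_inf.2 ⟨by rw [mem_stabilizer_iff, mul_smul, e, s3],
      by rw [mem_stabilizer_iff, mul_smul, e']⟩)
    calc _ = (s * (u * h * u⁻¹) * s⁻¹)⁻¹ := by rw [hu]; group
      _ = (s * u * h * (s * u)⁻¹)⁻¹ := by group
      _ = _ := by rw [this]

theorem not_comm_of_card [IsSimpleGroup G] (h : ¬ (Nat.card G).Prime) :
    ¬ ∀ x y : G, x * y = y * x := fun e =>
  letI : CommGroup G := { (inferInstance : Group G) with mul_comm := e }
  h IsSimpleGroup.prime_card

theorem simple168 [Finite G] [IsSimpleGroup G] (h : Nat.card G = 168)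
    (F : Type*) [Field F] [Fintype F] (hF : Fintype.card F = 7) :
    Nonempty (G ≃* Matrix.ProjectiveSpecialLinearGroup (Fin 2) F) := by
  classical
  haveI : Fact (Nat.Prime 7) := ⟨by norm_num⟩
  haveI : Fact (Nat.Prime 3) := ⟨by norm_num⟩
  have hna : ¬ ∀ x y : G, x * y = y * x := not_comm_of_card (by rw [h]; norm_num)
  have gen : ∀ (p : ℕ) [Fact p.Prime] (P : Subgroup G), Nat.card P = p → ∀ a ∈ P, a ≠ 1 →
      P = zpowers a := fun p _ P hP a ha a1 => by
    refine (eq_of_le_of_card_ge (zpowers_le.2 ha) ?_).symm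
    have := ((Fact.out : p.Prime).eq_one_or_self_of_dvd _ (hP ▸ orderOf_dvd_natCard P ha)).resolve_left
      (mt orderOf_eq_one_iff.1 a1)
    rw [Nat.card_zpowers, this, hP]
  have cent : ∀ a : G, centralizer {a} ≤ centralizer (zpowers a : Set G) := fun a n hn => by
    rintro _ ⟨i, rfl⟩
    exact ((show Commute n a from mem_centralizer_singleton_iff.1 hn).zpow_right i).symm
  obtain ⟨P⟩ : Nonempty (Sylow 7 G) := inferInstance
  have cP : Nat.card P = 7 := SmallId.card_sylow_of (k := 1) (n := 24) P h (by norm_num)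
  have iP : (normalizer (P : Set G)).index = 8 := by
    have e1 := P.card_dvd_index
    have e2 := card_sylow_modEq_one 7 G
    have e3 := P.1.card_mul_index
    rw [P.card_eq_index_normalizer] at e1 e2
    have e4 : (normalizer (P : Set G)).index ≠ 1 := fun e => by
      rcases IsSimpleGroup.eq_bot_or_eq_top_of_normal P.1
        (normalizer_eq_top_iff.1 (index_eq_one.1 e)) with e | e <;> rw [e] at e3 cP <;> simp at cP
      omega
    rw [show Nat.card P.1 = 7 from cP] at e3
    rw [show P.1.index = 24 by omega] at e1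
    have := Nat.le_of_dvd (by norm_num) e1
    unfold Nat.ModEq at e2
    interval_cases (normalizer (P : Set G)).index <;> omega
  have cN : Nat.card (normalizer (P : Set G)) = 21 := by
    have := (normalizer (P : Set G)).card_mul_index
    rw [iP] at this; omega
  have ab : ∀ (p : ℕ) [Fact p.Prime] (P : Subgroup G), Nat.card P = p → IsMulCommutative P :=
    fun p _ P hP => by haveI := isCyclic_of_prime_card hP; infer_instance
  have ca : IsCA P.1 := by
    refine ⟨fun e => by rw [e] at cP; simp at cP, fun a ha a1 g => ?_⟩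
    haveI := ab 7 P cP
    have l1 : P.1 ≤ centralizer (P : Set G) := P.1.le_centralizer
    have l2 : centralizer (P : Set G) ≤ normalizer (P : Set G) := centralizer_le_normalizer _
    have d1 := card_dvd_of_le l1
    have d2 := card_dvd_of_le l2
    have d3 : Nat.card (centralizer (P : Set G)) ≠ 21 := fun e => burnside hna P (by omega)
      (eq_of_le_of_card_ge l2 (by omega)).ge
    have := Nat.le_of_dvd (by omega) d2
    have d4 : Nat.card (centralizer (P : Set G)) = 7 := by
      rw [cP] at d1; rw [cN] at d2 this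
      interval_cases Nat.card (centralizer (P : Set G)) <;> omega
    refine ⟨fun e => (eq_of_le_of_card_ge l1 (by omega)).ge ?_, fun e => (l1 e a ha).symm⟩
    have := cent a (mem_centralizer_singleton_iff.2 e)
    rwa [← gen 7 P cP a ha a1] at this
  refine psl_of_ca ca (by rw [cP]; exact iP) (w := 3) ?_ (by omega) (by rw [h]; decide) (fun a ha => ?_)
    (ab 3) F (by omega)
  · have := card_mul_relIndex P.1
    rw [cP] at this
    exact Nat.eq_of_mul_eq_mul_left (by norm_num : 0 < 7) (this.trans cN)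
  by_cases a1 : a = 1
  · exact ⟨1, by simp [a1]⟩
  obtain ⟨Q, hQ⟩ := (isPGroup_zpowers (p := 3) (k := 1) (by rwa [pow_one])).exists_le_sylow
  have cQ : Nat.card Q = 3 := SmallId.card_sylow_of (k := 1) (n := 56) Q h (by norm_num)
  have e := gen 3 Q cQ a (hQ (mem_zpowers a)) a1
  obtain ⟨n, n1, n2⟩ := SetLike.not_le_iff_exists.1 (burnside hna Q (by omega))
  refine ⟨n, ?_⟩
  have k := (mem_normalizer_iff.1 n1 a).1 (hQ (mem_zpowers a))
  change n ∉ centralizer (Q.1 : Set G) at n2
  rw [e] at k n2
  obtain ⟨i, hi, k⟩ := Finset.mem_image.1 ((mem_zpowers_iff_mem_range_orderOf).1 k)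
  rw [orderOf_eq_prime ha a1, Finset.mem_range] at hi
  interval_cases i
  · exact absurd (by simpa using k.symm) a1
  · exact absurd (cent a (mem_centralizer_singleton_iff.2 (mul_inv_eq_iff_eq_mul.1
      (k.symm.trans (pow_one a))))) n2
  · exact k.symm.trans (eq_inv_of_mul_eq_one_left (by rw [← pow_succ, ha]))

open scoped commutatorElement in
theorem psl32 : Nat.card (Matrix.ProjectiveSpecialLinearGroup (Fin 3) (ZMod 2)) = 168 ∧
    IsSimpleGroup (Matrix.ProjectiveSpecialLinearGroup (Fin 3) (ZMod 2)) := by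
  classical
  have c7 : Nat.card (Projectivization (ZMod 2) (Fin 3 → ZMod 2)) = 7 := by
    rw [Projectivization.card_of_finrank _ _ (Module.finrank_fin_fun _)]; simp [Finset.sum_range_succ]
  have := Fintype.ofFinite (Projectivization (ZMod 2) (Fin 3 → ZMod 2))
  let φ := toPermHom (Matrix.ProjectiveSpecialLinearGroup (Fin 3) (ZMod 2))
    (Projectivization (ZMod 2) (Fin 3 → ZMod 2))
  have e := MonoidHom.ofInjective (f := φ) toPerm_injective
  haveI : IsPretransitive φ.range (Projectivization (ZMod 2) (Fin 3 → ZMod 2)) := ⟨fun x y => by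
    obtain ⟨g, hg⟩ := exists_smul_eq (Matrix.ProjectiveSpecialLinearGroup (Fin 3) (ZMod 2)) x y
    exact ⟨⟨φ g, g, rfl⟩, hg⟩⟩
  refine (S0678.result (by rw [← c7, Nat.card_eq_fintype_card]) φ.range (fun h => ?_)
    fun h => ?_).imp (Nat.card_congr e.toEquiv).trans fun h2 => @MulEquiv.isSimpleGroup _ _ _ _ h2 e
  · haveI := Group.isSolvable_of_isSolvable_injective (f := e.toMonoidHom) e.injective
    have key : ∀ n, ∀ (i j : Fin 3) (h : i ≠ j), ((Matrix.SpecialLinearGroup.transvection h (1 : ZMod 2) :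
        Matrix.SpecialLinearGroup _ _) : Matrix.ProjectiveSpecialLinearGroup (Fin 3) (ZMod 2)) ∈
          derivedSeries _ n := fun n => by
      induction n with
      | zero => intros; exact mem_top _
      | succ n ih =>
        intro i j h
        obtain ⟨l, h1, h2, e⟩ : ∃ (l : Fin 3) (h1 : i ≠ l) (h2 : l ≠ j),
            Matrix.SpecialLinearGroup.transvection h (1 : ZMod 2) =
            ⁅Matrix.SpecialLinearGroup.transvection h1 (1 : ZMod 2),
              Matrix.SpecialLinearGroup.transvection h2 (1 : ZMod 2)⁆ := by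
          revert i j; decide +kernel
        rw [e, ← QuotientGroup.mk'_apply, map_commutatorElement]
        exact commutator_mem_commutator (ih _ _ h1) (ih _ _ h2)
    refine not_isSolvable_of_mem_derivedSeries (fun e => ?_) (fun n => key n 0 1 (by decide)) this
    rw [QuotientGroup.eq_one_iff, Matrix.SpecialLinearGroup.transvection_mem_center_iff] at e
    exact one_ne_zero e
  · have h1 := card_le_of_le h
    have h2 := Nat.card_le_card_of_surjective _ (QuotientGroup.mk'_surjective
      (center (Matrix.SpecialLinearGroup (Fin 3) (ZMod 2))))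
    rw [H8.card_SL_eq 3 (by norm_num)] at h2
    haveI : Nontrivial (Projectivization (ZMod 2) (Fin 3 → ZMod 2)) :=
      Finite.one_lt_card_iff_nontrivial.1 (by omega)
    rw [← Nat.card_congr e.toEquiv, nat_card_alternatingGroup, c7] at h1
    have := h1.trans h2
    simp [Finset.sum_range_succ, Finset.prod_range_succ, Nat.factorial] at this

theorem simple168' [Finite G] [IsSimpleGroup G] (h : Nat.card G = 168) :
    Nonempty (G ≃* Matrix.ProjectiveSpecialLinearGroup (Fin 3) (ZMod 2)) := by
  haveI : Fact (Nat.Prime 7) := ⟨by norm_num⟩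
  haveI := psl32.2
  obtain ⟨e⟩ := simple168 h (ZMod 7) (ZMod.card 7)
  obtain ⟨e'⟩ := simple168 psl32.1 (ZMod 7) (ZMod.card 7)
  exact ⟨e.trans e'.symm⟩

theorem simple360 [Finite G] [IsSimpleGroup G] (h : Nat.card G = 360) {A : Subgroup G} (hA : IsCA A)
    (h9 : Nat.card A = 9) (hw : A.relIndex (normalizer (A : Set G)) = 4)
    (hreal : ∀ h : G, h ^ 4 = 1 → ∃ u, u * h * u⁻¹ = h⁻¹) :
    Nonempty (G ≃* alternatingGroup (Fin 6)) := by
  haveI : Fact (Nat.Prime 2) := ⟨by norm_num⟩
  haveI : Fact (Nat.Prime 3) := ⟨by norm_num⟩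
  have := Fintype.ofFinite (GaloisField 3 2)
  have hF : Fintype.card (GaloisField 3 2) = 3 ^ 2 := by
    rw [← Nat.card_eq_fintype_card, GaloisField.card 3 2 (by norm_num)]
  obtain ⟨e⟩ := psl_of_ca hA (by
    have e1 := card_mul_relIndex A
    have e2 := (normalizer (A : Set G)).card_mul_index
    rw [← e1, h9, hw] at e2
    omega) hw (by omega) (by rw [h]; decide) hreal
    (fun E hE => IsPGroup.isMulCommutative_of_card_eq_prime_sq (p := 2) hE) (GaloisField 3 2) (by omega)
  obtain ⟨H, -, ⟨e'⟩⟩ := S5939.result 3 (Or.inr ⟨hF, Or.inl rfl⟩)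
  refine iso_alt (H.comap e.toMonoidHom) ?_ (by norm_num) (by rw [h]; rfl)
  have e1 := H.card_mul_index
  rw [Nat.card_congr e'.toEquiv, ← Nat.card_congr e.toEquiv, h, nat_card_alternatingGroup] at e1
  rw [index_comap_of_surjective _ e.surjective]
  simp [Nat.factorial] at e1
  omega

/-- Carmichael's relations -/
def Car {n : ℕ} (a : Fin n → G) : Prop :=
  (∀ i, a i * a i * a i = 1) ∧ ∀ i j, i ≠ j → a i * a j * (a i * a j) = 1

theorem Car.card_le [Finite G] {n : ℕ} (a : Fin (n + 1) → G) (h : Car a) :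
    2 * Nat.card (closure (Set.range a)) ≤ (n + 3).factorial := by
  classical
  induction n with
  | zero =>
    rw [show Set.range a = {a 0} from @Set.range_unique G (Fin 1) a _, ← zpowers_eq_closure,
      Nat.card_zpowers]
    have := orderOf_le_of_pow_eq_one (x := a 0) (n := 3) (by norm_num)
      (by simpa [pow_succ] using h.1 _)
    simp only [Nat.factorial]; omega
  | succ n ih =>
    have ih := ih (fun i => a i.succ) ⟨fun i => h.1 _, fun i j e => h.2 _ _ (by simpa using e)⟩
    set H := closure (Set.range fun i : Fin (n + 1) => a i.succ)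
    have hm : ∀ i : Fin (n + 1), a i.succ ∈ H := fun i => subset_closure ⟨i, rfl⟩
    let r : Option (Option (Option (Fin (n + 1)))) → G := fun o => match o with
      | none => 1
      | some none => a 0
      | some (some none) => (a 0)⁻¹
      | some (some (some i)) => (a 0)⁻¹ * a i.succ
    have sq : ∀ i, a i * a i = (a i)⁻¹ := fun i => eq_inv_of_mul_eq_one_left (h.1 i)
    have cm : ∀ i j, i ≠ j → a i * a j = (a j)⁻¹ * (a i)⁻¹ := fun i j e => by
      rw [← mul_inv_rev]; exact eq_inv_of_mul_eq_one_left (h.2 i j e)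
    have key : ∀ g ∈ closure (Set.range a), ∃ o, g * (r o)⁻¹ ∈ H := fun g hg => by
      rw [← Subgroup.mem_toSubmonoid, Subgroup.closure_toSubmonoid_of_finite] at hg
      induction hg using Submonoid.closure_induction_right with
      | one => exact ⟨none, by simp [r]⟩
      | mul_right g _ s hs ih =>
        obtain ⟨o, ho⟩ := ih
        obtain ⟨j, rfl⟩ := hs
        suffices ∃ o', r o * a j * (r o')⁻¹ ∈ H by
          obtain ⟨o', e⟩ := this
          exact ⟨o', by simpa [mul_assoc] using mul_mem ho e⟩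
        refine Fin.cases ?_ (fun j => ?_) j <;> rcases o with _ | _ | _ | i
        · exact ⟨some none, by simp [r]⟩
        · exact ⟨some (some none), by simp [r, h.1]⟩
        · exact ⟨none, by simp [r]⟩
        · refine ⟨some (some (some i)), ?_⟩
          have : (a 0)⁻¹ * a i.succ * a 0 * ((a 0)⁻¹ * a i.succ)⁻¹ = (a i.succ)⁻¹ := by
            calc _ = (a 0)⁻¹ * (a i.succ * a 0) * (a i.succ)⁻¹ * a 0 := by group
              _ = (a 0 * a 0)⁻¹ * (a i.succ * a i.succ)⁻¹ * a 0 := by
                rw [cm _ _ (Fin.succ_ne_zero i)]; group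
              _ = _ := by rw [sq, sq, inv_inv, inv_inv, cm _ _ (Fin.succ_ne_zero i).symm]; group
          exact (congrArg (· ∈ H) this).mpr (inv_mem (hm i))
        · exact ⟨none, by simpa [r] using hm j⟩
        · exact ⟨some (some none), by simpa [r, cm _ _ (Fin.succ_ne_zero j).symm] using hm j⟩
        · exact ⟨some (some (some j)), by simp [r]⟩
        · by_cases e : i = j
          · subst e
            refine ⟨some none, ?_⟩
            have : (a 0)⁻¹ * a i.succ * a i.succ * (a 0)⁻¹ = a i.succ := by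
              rw [mul_assoc (a 0)⁻¹, sq, ← cm _ _ (Fin.succ_ne_zero i)]; group
            exact (congrArg (· ∈ H) this).mpr (hm i)
          · refine ⟨some (some (some i)), ?_⟩
            have : (a 0)⁻¹ * a i.succ * a j.succ * ((a 0)⁻¹ * a i.succ)⁻¹ =
                a j.succ * (a i.succ)⁻¹ := by
              calc _ = (a 0)⁻¹ * (a i.succ * a j.succ) * (a i.succ)⁻¹ * a 0 := by group
                _ = (a 0)⁻¹ * (a j.succ)⁻¹ * (a i.succ * a i.succ)⁻¹ * a 0 := by
                  rw [cm i.succ j.succ (by simpa using e)]; group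
                _ = a j.succ * (a 0 * a i.succ) * a 0 := by
                  rw [← cm _ _ (Fin.succ_ne_zero j), sq, inv_inv]; group
                _ = _ := by rw [cm _ _ (Fin.succ_ne_zero i).symm]; group
            exact (congrArg (· ∈ H) this).mpr (mul_mem (hm j) (inv_mem (hm i)))
    choose! o ho using key
    have := Nat.card_le_card_of_injective (fun g : closure (Set.range a) =>
      (o g, (⟨_, ho g g.2⟩ : H))) fun g g' e => by
        simp only [Prod.mk.injEq, Subtype.mk.injEq] at e
        exact Subtype.ext (mul_right_cancel (e.1 ▸ e.2))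
    rw [Nat.card_prod] at this
    simp only [Nat.card_eq_fintype_card (α := Option _), Fintype.card_option, Fintype.card_fin] at this
    rw [show n + 1 + 3 = n + 3 + 1 by ring, Nat.factorial_succ]
    nlinarith

theorem Car.iso_a7 [Finite G] (a : Fin 5 → G) (h : Car a) (h1 : a 0 ≠ 1) (hc : Nat.card G = 2520) :
    Nonempty (G ≃* alternatingGroup (Fin 7)) := by
  let α : Fin 5 → alternatingGroup (Fin 7) := fun i =>
    ⟨Equiv.swap 0 i.succ.succ * Equiv.swap 0 1, Equiv.Perm.mem_alternatingGroup.2
      (by revert i; decide +kernel)⟩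
  have hα : Car α := ⟨by decide +kernel, by decide +kernel⟩
  have c7 : Nat.card (alternatingGroup (Fin 7)) = 2520 := by
    rw [nat_card_alternatingGroup]; simp [Nat.factorial]
  haveI : IsSimpleGroup (alternatingGroup (Fin 7)) := alternatingGroup.isSimpleGroup (by simp)
  have hD := Car.card_le (n := 4) (fun i => (α i, a i))
    ⟨fun i => Prod.ext (hα.1 i) (h.1 i), fun i j e => Prod.ext (hα.2 i j e) (h.2 i j e)⟩
  set D := closure (Set.range fun i => (α i, a i))
  have hm : ∀ i, (α i, a i) ∈ D := fun i => subset_closure ⟨i, rfl⟩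
  let π := (MonoidHom.fst _ _).comp D.subtype
  have hs : Function.Surjective π := by
    let X := π.range.map (alternatingGroup (Fin 7)).subtype
    have hx : ∀ i, (α i).1 ∈ X := fun i => ⟨α i, ⟨⟨_, hm i⟩, rfl⟩, rfl⟩
    haveI : IsPretransitive X (Fin 7) := by
      refine IsPretransitive.of_orbit (x₀ := 1) fun x => ?_
      refine Fin.cases ?_ (Fin.cases ?_ fun i => ?_) x
      · exact ⟨⟨_, inv_mem (hx 0)⟩, show (α 0).1⁻¹ 1 = 0 by simp only [α]; decide +kernel⟩
      · exact ⟨1, rfl⟩
      · exact ⟨⟨_, hx i⟩, show (α i).1 1 = _ by simp only [α]; revert i; decide +kernel⟩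
    have := Equiv.Perm.alternatingGroup_le_of_isPreprimitive_of_isThreeCycle_mem
      (IsPreprimitive.of_prime_card (by simp; norm_num)) (card_support_eq_three_iff.1
        (by decide +kernel)) (hx 0)
    intro g
    obtain ⟨_, ⟨d, rfl⟩, e⟩ := this g.2
    exact ⟨d, Subtype.ext e⟩
  let e := MulEquiv.ofBijective π ((Nat.bijective_iff_surjective_and_card _).2 ⟨hs,
    le_antisymm (by simp only [Nat.factorial] at hD; omega) (Nat.card_le_card_of_surjective _ hs)⟩)
  let φ := ((MonoidHom.snd _ _).comp D.subtype).comp e.symm.toMonoidHom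
  have hi : Function.Injective φ := by
    rw [← MonoidHom.ker_eq_bot_iff]
    refine (IsSimpleGroup.eq_bot_or_eq_top_of_normal _ inferInstance).resolve_right fun e' => h1 ?_
    have : φ (e ⟨_, hm 0⟩) = 1 := (e' ▸ mem_top _ : _ ∈ φ.ker)
    simpa [φ] using this
  exact ⟨(MulEquiv.ofBijective φ ((Nat.bijective_iff_injective_and_card _).2
    ⟨hi, by rw [c7, hc]⟩)).symm⟩

end Cfsg.Agent.H6.MG
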