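import Cfsg.Agent.H6.MA9
import Cfsg.Agent.H6.MI1

/-! Identification of the three exceptional groups. -/

set_option autoImplicit false

namespace Cfsg.Agent.H6.M3

open Subgroup Cfsg.Agent.H6.MG

theorem car5 {G : Type*} [Group G] {a b u v w : G} (ha : a * a * a = 1) (hb : b * b * b = 1)
    (hab : a * b * (a * b) = 1) (hu : u * u = 1) (hv : v * v = 1) (hw : w * w = 1) (e : u * v = w)
    (au : a * u = u * a) (av : a * v = v * a) (bu : b * u * (b * u) * (b * u * (b * u)) = 1)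
    (bv : b * v * (b * v) * (b * v * (b * v)) = 1) (bw : b * w * (b * w) * (b * w * (b * w)) = 1) :
    Car ![a, b, u * b * u⁻¹, v * b * v⁻¹, w * b * w⁻¹] := by
  have sw : ∀ {x y : G}, x * y * (x * y) = 1 → y * x * (y * x) = 1 := fun {x y} h => by
    calc _ = y * (x * y * (x * y)) * y⁻¹ := by group
      _ = _ := by rw [h]; group
  have iu := inv_eq_of_mul_eq_one_right hu
  have iv := inv_eq_of_mul_eq_one_right hv
  have iw := inv_eq_of_mul_eq_one_right hw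
  have k1 : ∀ {u : G}, a * u = u * a → a * (u * b * u⁻¹) * (a * (u * b * u⁻¹)) = 1 := fun {u} h => by
    calc _ = u * (u⁻¹ * (a * u) * b * (u⁻¹ * (a * u) * b)) * u⁻¹ := by group
      _ = _ := by rw [h, inv_mul_cancel_left, hab]; group
  have k2 : ∀ {u : G}, u⁻¹ = u → b * u * (b * u) * (b * u * (b * u)) = 1 →
      b * (u * b * u⁻¹) * (b * (u * b * u⁻¹)) = 1 := fun h h' => by simpa [h, mul_assoc] using h'
  have k3 : ∀ {u v w : G}, u⁻¹ * v = w → b * (w * b * w⁻¹) * (b * (w * b * w⁻¹)) = 1 →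
      u * b * u⁻¹ * (v * b * v⁻¹) * (u * b * u⁻¹ * (v * b * v⁻¹)) = 1 := fun {u v w} h h' => by
    subst h
    calc _ = u * (b * (u⁻¹ * v * b * (u⁻¹ * v)⁻¹) * (b * (u⁻¹ * v * b * (u⁻¹ * v)⁻¹))) * u⁻¹ := by
          group
      _ = _ := by rw [h']; group
  have r02 := k1 au
  have r03 := k1 av
  have r04 := k1 (u := w) (e ▸ (show Commute a u from au).mul_right av)
  have r12 := k2 iu bu
  have r13 := k2 iv bv
  have r14 := k2 iw bw
  have r23 := k3 (iu.symm ▸ e : u⁻¹ * v = w) r14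
  have r24 := k3 (show u⁻¹ * w = v by rw [← e]; group) r13
  have r34 := k3 (show v⁻¹ * w = u by rw [← iw, ← e, mul_inv_rev, iu, iv, ← mul_assoc, hv, one_mul]) r12
  refine ⟨fun i => ?_, fun i j h => ?_⟩
  · fin_cases i <;> simp [ha, hb]
  · fin_cases i <;> fin_cases j <;> first | exact absurd rfl h | assumption | exact sw ‹_›

variable {k : Type*} [Field k]

namespace PR

variable {Γ : Type*} [Group Γ] {ρ : PR Γ k}

theorem car_of (h5 : (5 : k) = 0) {ω : k} (o2 : ω ^ 2 + ω + 1 = 0) {x c t u : Γ}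
    (hx : ρ.L x (dg 1 ω (ω ^ 2))) (hc : ρ.L c !![0, 0, 1; 1, 0, 0; 0, 1, 0])
    (ht : ρ.L t (dg 1 1 (-1))) (hu : ρ.L u !![2, 1, 1; 1, 2, 1; 1, 1, 2]) :
    ∃ a : Fin 5 → Γ, Car a ∧ a 0 = c := by
  have hx' : ρ.L x⁻¹ (dg 1 (ω ^ 2) ω) := ρ.inv hx (by simp [eq9]; grind)
  have hc' : ρ.L c⁻¹ !![0, 1, 0; 0, 0, 1; 1, 0, 0] := ρ.inv hc (by simp [eq9])
  have hb : ρ.L (t * c⁻¹ * t) !![0, 1, 0; 0, 0, -1; -1, 0, 0] := by
    simpa using ρ.mul (ρ.mul ht hc') ht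
  generalize t * c⁻¹ * t = b at hb
  have hv : ρ.L (x * u * x⁻¹) !![2, ω ^ 2, ω; ω, 2, ω ^ 2; ω ^ 2, ω, 2] := by
    convert ρ.mul (ρ.mul hx hu) hx' using 1
    simp [eq9]; grind
  have hw : ρ.L (x⁻¹ * u * x) !![2, ω, ω ^ 2; ω ^ 2, 2, ω; ω, ω ^ 2, 2] := by
    convert ρ.mul (ρ.mul hx' hu) hx using 1
    simp [eq9]; grind
  have xb : x * b = b * x := (ρ.comm_iff hx hb).2 ⟨ω, by simp [eq9]; grind⟩
  have uu : u * u = 1 := ρ.inj (by convert ρ.mul hu hu using 1; simp [eq9]; grind)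
  have bu : b * u * (b * u) * (b * u * (b * u)) = 1 := by
    have k1 := ρ.mul hb hu
    have k2 : ρ.L (b * u * (b * u)) !![2, -1, 1; -1, 1, -2; 1, -2, 1] := by
      convert ρ.mul k1 k1 using 1; simp [eq9]; grind
    exact ρ.inj (by convert ρ.mul k2 k2 using 1; simp [eq9]; grind)
  have cb : ∀ y, y * b = b * y → b * (y * u * y⁻¹) * (b * (y * u * y⁻¹)) *
      (b * (y * u * y⁻¹) * (b * (y * u * y⁻¹))) = 1 := fun y e => by
    have : b * (y * u * y⁻¹) = y * (b * u) * y⁻¹ := by rw [← mul_assoc, ← mul_assoc, ← e]; group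
    simp [this, bu]
  refine ⟨_, car5 (a := c) (b := b) (u := u) (v := x * u * x⁻¹) (w := x⁻¹ * u * x) ?_ ?_ ?_ uu
    (by simp [uu]) (by rw [icj_mul, uu, icj_one]) ?_ (ρ.comm_of hc hu (by simp [eq9]))
    (ρ.comm_of hc hv (by simp [eq9])) bu (cb x xb)
    (by simpa using cb x⁻¹ (show Commute x b from xb).inv_left), rfl⟩
  · exact ρ.inj (by convert ρ.mul (ρ.mul hc hc) hc using 1; simp [eq9])
  · exact ρ.inj (by convert ρ.mul (ρ.mul hb hb) hb using 1; simp [eq9])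
  · exact ρ.inj (by convert ρ.mul (ρ.mul hc hb) (ρ.mul hc hb) using 1; simp [eq9])
  · exact (ρ.eq_of' (c := -1) hw (by convert ρ.mul hu hv using 1; simp [eq9]; grind)).symm

theorem car_of' (h5 : (5 : k) = 0) [IsAlgClosed k] {x c t u : Γ} (h : ρ.RP x c) (ht : t ∈ ρ.T0 x)
    (t1 : t * t = 1) (t2 : t ≠ 1) (hu : u ∈ ρ.T0 c) (u1 : u * u = 1) (u2 : u ≠ 1) :
    ∃ a : Fin 5 → Γ, Car a ∧ a 0 = c := by
  obtain ⟨B, B', hB, ω, d, o1, o2, d0, ex, ec⟩ := h.std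
  rw [← T0_cj hB] at ht hu
  generalize ρ.cj hB = ρ at *
  obtain ⟨U, hU⟩ := ρ.ex u
  have k1 := Pr.all hu ec hU
  obtain ⟨z, k2⟩ := (ρ.eq_one_iff (ρ.mul hU hU)).1 u1
  have k3 := mt (ρ.eq_one_iff hU).2 u2
  obtain ⟨b0, b1, b2, b3, b4, b5, b6, b7, b8, rfl⟩ := ex9 U
  simp [eq9] at k1 k2 k3
  obtain ⟨⟨rfl, rfl, -⟩, ⟨rfl, rfl, -⟩, rfl, rfl, -⟩ := k1
  have g0 : b6 ≠ 0 := by
    rintro rfl
    obtain rfl : b7 = 0 := by simpa using k2.2.2.2.2.2.2.1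
    simp at k3
  obtain ⟨δ, rfl⟩ : ∃ δ, b7 = δ * b6 := ⟨b7 / b6, by field_simp⟩
  obtain rfl : b8 = 2 * δ ^ 2 * b6 := mul_left_cancel₀ g0 (by grind)
  obtain rfl : d = δ ^ 3 := mul_left_cancel₀ (pow_ne_zero 2 g0) (by grind)
  have δ0 : δ ≠ 0 := by rintro rfl; simp at d0
  have hD : dg (δ ^ 2) δ 1 * dg (δ ^ 2)⁻¹ δ⁻¹ 1 = 1 := by simp [eq9, δ0]
  have fx := ρ.cj_of hD ex (C := dg 1 ω (ω ^ 2)) (by simp [mul_comm])
  have fc := ρ.cj_of hD (ρ.smul ec (inv_ne_zero δ0)) (C := !![0, 0, 1; 1, 0, 0; 0, 1, 0]) (by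
    simp [eq9]; field_simp; simp)
  have fu := ρ.cj_of hD (ρ.smul hU (inv_ne_zero (mul_ne_zero (pow_ne_zero 2 δ0) g0)))
    (C := !![2, 1, 1; 1, 2, 1; 1, 1, 2]) (by simp [eq9]; field_simp; simp)
  rw [← T0_cj hD] at ht
  generalize ρ.cj hD = ρ at *
  obtain ⟨a, b, e, ft⟩ := diag_of_pr (by grind) (by grind) (by grind) fx ht
  have fc' : ρ.L c⁻¹ !![0, 1, 0; 0, 0, 1; 1, 0, 0] := ρ.inv fc (by simp [eq9])
  obtain ⟨z, m2⟩ := (ρ.eq_one_iff (ρ.mul ft ft)).1 t1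
  have m3 := mt (ρ.eq_one_iff ft).2 t2
  have a0 : a ≠ 0 := by rintro rfl; simpa [dm3] using ρ.det ft
  simp [eq9] at m2 m3
  rcases mul_self_eq_mul_self_iff.1 (m2.2.1.trans m2.1.symm) with rfl | rfl <;>
    rcases mul_self_eq_mul_self_iff.1 (m2.2.2.trans m2.1.symm) with rfl | rfl
  · simp at m3
  · exact car_of h5 o2 fx fc (t := t) (by
      convert ρ.smul ft (inv_ne_zero a0) using 1; simp [eq9, a0]) fu
  · exact car_of h5 o2 fx fc (t := c * t * c⁻¹) (by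
      convert ρ.smul (ρ.mul (ρ.mul fc ft) fc') (inv_ne_zero a0) using 1; simp [eq9, a0]) fu
  · exact car_of h5 o2 fx fc (t := c⁻¹ * t * c) (by
      convert ρ.smul (ρ.mul (ρ.mul fc' ft) fc) (neg_ne_zero.2 (inv_ne_zero a0)) using 1
      simp [eq9, a0]) fu

variable {p : ℕ} [Fact p.Prime] [CharP k p] [IsAlgClosed k] [Fintype Γ] [DecidableEq Γ]
  [IsSimpleGroup Γ] {t t1 x c g0 : Γ} {K : Subgroup Γ}

theorem O2520.iso (S : St p ρ) (h1 : t * t = 1) (h2 : t ≠ 1) (h : ρ.O2520 p t t1 x c g0) :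
    Nonempty (Γ ≃* alternatingGroup (Fin 7)) := by
  have hr := h.ee.rp
  obtain ⟨W, W1, W2, W3, z, z0, z1, z2, z3, W4⟩ := S.exists_W hr
  obtain ⟨w, hw, w1⟩ : ∃ w ∈ W, w * w ≠ 1 := by
    classical
    by_contra hc
    push Not at hc
    have := Finset.card_le_card (t := {1, z}) (s := Finset.univ.filter (· ∈ W)) fun a ha => by
      simpa using (W4 a ((Finset.mem_filter_univ _).1 ha)).2 (hc a ((Finset.mem_filter_univ _).1 ha))
    have := this.trans Finset.card_le_two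
    rw [cardf, W2, h.s4] at this
    omega
  obtain rfl := ((W4 _ (mul_mem hw hw)).2 (by simpa [pow_succ, mul_assoc] using W3 w hw)).resolve_left w1
  have k1 := (mem_normalizer_iff.1 (W1 hw) x).1 hr.mem_left
  have k2 : ρ.RP x (w * x * w⁻¹) := rp_of (mem_RR.1 k1).1.symm fun e => by
    have k3 := z3 x hr.mem_left
    rw [show w * w * x * (w * w)⁻¹ = w * (w * x * w⁻¹) * w⁻¹ by group] at k3
    apply hr.sq
    rcases hr.of_T0 e (mem_RR.1 k1).2 with e | e | e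
    · exact absurd (by simpa using e) hr.ne
    · rw [e, e] at k3; exact mul_eq_one_iff_eq_inv.2 k3
    · rw [e, ← conj_mul, e, h.ee.xx, ← mul_inv_rev, inv_inj] at k3
      exact absurd (by simpa using k3) hr.ne
  obtain ⟨a, a1, a2⟩ := car_of' (by simpa [h.p5] using CharP.cast_eq_zero k p) k2 h.ee.mem h1 h2
    (T0_conj h.ee.mem w) (by simp [h1]) (by simpa)
  exact a1.iso_a7 a (a2 ▸ k2.symm.ne) h.card

omit [Fintype Γ] [DecidableEq Γ] in
theorem O360.iso [Finite Γ] (h : ρ.O360 t K x c g0) : Nonempty (Γ ≃* alternatingGroup (Fin 6)) :=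
  simple360 h.card h.ca h.rp.card h.s4 fun g _ => (h.ord g).2

end PR

end Cfsg.Agent.H6.M3
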