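import Cfsg.Agent.H6.MI2
import Cfsg.Agent.Asch.Forms

/-! Rationality, Schur's lemma, normal subgroups. -/

set_option autoImplicit false

namespace Cfsg.Agent.H6.M3

open Matrix Subgroup
open scoped commutatorElement

section Grp

variable {G : Type*} [Group G]

/-- no non-trivial abelian normal subgroup -/
def NS (G : Type*) [Group G] : Prop :=
  ∀ N : Subgroup G, N.Normal → (∀ a ∈ N, ∀ b ∈ N, a * b = b * a) → N = ⊥

theorem ns_of [Finite G] (h : ∀ N : Subgroup G, N.Normal → IsMulCommutative N →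
    (∃ r : ℕ, r.Prime ∧ ∀ x ∈ N, x ^ r = 1) → N = ⊥) : NS G := by
  intro N hN hc
  by_contra hne
  obtain ⟨r, hr, hd⟩ := Nat.exists_prime_and_dvd (n := Nat.card N) (by
    rwa [Ne, Subgroup.card_eq_one])
  obtain ⟨b, hb, b1, b2⟩ := exists_pow_prime N hr hd
  let M : Subgroup G :=
    { carrier := {x | x ∈ N ∧ x ^ r = 1}
      one_mem' := ⟨N.one_mem, one_pow r⟩
      mul_mem' := fun {x y} hx hy => ⟨N.mul_mem hx.1 hy.1, by
        rw [(show Commute x y from hc _ hx.1 _ hy.1).mul_pow, hx.2, hy.2, one_mul]⟩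
      inv_mem' := fun {x} hx => ⟨N.inv_mem hx.1, by rw [inv_pow, hx.2, inv_one]⟩ }
  have : M = ⊥ := h M ⟨fun x hx g => ⟨hN.conj_mem _ hx.1 g, by rw [conj_pow, hx.2]; simp⟩⟩
    ⟨⟨fun x y => Subtype.ext (hc _ x.2.1 _ y.2.1)⟩⟩ ⟨r, hr, fun x hx => hx.2⟩
  exact b2 (mem_bot.1 (this ▸ (show b ∈ M from ⟨hb, b1⟩)))

/-- minimal normal subgroups -/
structure MinN (T : Subgroup G) : Prop where
  nor : T.Normal
  ne : T ≠ ⊥
  min : ∀ M : Subgroup G, M.Normal → M ≤ T → M = ⊥ ∨ M = T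

theorem exists_minN [Finite G] {N : Subgroup G} (hN : N.Normal) (h : N ≠ ⊥) :
    ∃ T, T ≤ N ∧ MinN T := by
  obtain ⟨T, ⟨h1, h2, h3⟩, h4⟩ := exists_minimal_of_wellFoundedLT
    (fun T : Subgroup G => T ≤ N ∧ T.Normal ∧ T ≠ ⊥) ⟨N, le_rfl, hN, h⟩
  exact ⟨T, h1, h2, h3, fun M hM hle => or_iff_not_imp_left.2 fun e =>
    le_antisymm hle (h4 ⟨hle.trans h1, hM, e⟩ hle)⟩

theorem MinN.cases {T : Subgroup G} (h : MinN T) :
    (∀ a ∈ T, ∀ b ∈ T, a * b = b * a) ∨ ⁅T, T⁆ = T := by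
  have := h.nor
  rcases h.min ⁅T, T⁆ inferInstance (commutator_le_left T T) with e | e
  · refine Or.inl fun a ha b hb => ?_
    have := commutator_mem_commutator ha hb
    rwa [e, mem_bot, commutatorElement_eq_one_iff_mul_comm] at this
  · exact Or.inr e

theorem MinN.perfect (hs : NS G) {T : Subgroup G} (h : MinN T) : ⁅T, T⁆ = T :=
  h.cases.resolve_left fun e => h.ne (hs T h.nor e)

theorem NS.exists [Finite G] (hs : NS G) {N : Subgroup G} (hN : N.Normal) (h : N ≠ ⊥) :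
    ∃ K, K ≤ N ∧ ⁅K, K⁆ = K ∧ K ≠ ⊥ := by
  obtain ⟨T, h1, h2⟩ := exists_minN hN h
  exact ⟨T, h1, h2.perfect hs, h2.ne⟩

theorem perfect_map {H : Type*} [Group H] (f : G →* H) {K : Subgroup G} (hK : ⁅K, K⁆ = K) :
    ⁅K.map f, K.map f⁆ = K.map f := by rw [← map_commutator, hK]

theorem perfect_top {K : Subgroup G} (hK : ⁅K, K⁆ = K) : ⁅(⊤ : Subgroup K), (⊤ : Subgroup K)⁆ = ⊤ := by
  apply Subgroup.map_injective K.subtype_injective
  rw [map_commutator, ← MonoidHom.range_eq_map, range_subtype, hK]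

/-- a minimal normal subgroup all of whose perfect normal subgroups have trivial centraliser -/
theorem MinN.simple [Finite G] {T : Subgroup G} (h : MinN T) (hT : ⁅T, T⁆ = T)
    (hc : ∀ M : Subgroup G, M ≤ T → (∀ t ∈ T, ∀ m ∈ M, t * m * t⁻¹ ∈ M) → ⁅M, M⁆ = M → M ≠ ⊥ →
      ∀ g : G, (∀ m ∈ M, g * m = m * g) → g = 1) : IsSimpleGroup T := by
  have hn := h.nor
  haveI : Nontrivial T := (nontrivial_iff_ne_bot T).2 h.ne
  refine ⟨fun N hN => or_iff_not_imp_left.2 fun hne => ?_⟩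
  obtain ⟨M, hle, hM⟩ := exists_minN hN hne
  suffices M = ⊤ from top_unique (this ▸ hle)
  -- conjugates of `M`
  have key : ∀ g : G, (∀ m : T, m ∈ M → (⟨g * m * g⁻¹, hn.conj_mem _ m.2 g⟩ : T) ∈ M) ∨
      ∀ m : T, m ∈ M → ∀ m' : T, m' ∈ M → g * m * g⁻¹ * m' = m' * (g * m * g⁻¹) := fun g => by
    let e : T ≃* T := MulAut.conjNormal g
    have hM' : (M.map e.toMonoidHom).Normal := hM.nor.map _ e.surjective
    have := hM.nor
    rcases hM.min (M ⊓ M.map e.toMonoidHom) inferInstance inf_le_left with e1 | e1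
    · refine Or.inr fun m hm m' hm' => ?_
      have := commute_of_normal_of_disjoint _ _ hM' hM.nor (by rw [disjoint_iff, inf_comm, e1])
        (e m) m' ⟨m, hm, rfl⟩ hm'
      exact congrArg Subtype.val this
    · left
      have : M.map e.toMonoidHom = M := (eq_of_le_of_card_ge (inf_eq_left.1 e1)
        (card_map_of_injective e.injective).le).symm
      intro m hm
      rw [← this]
      exact ⟨m, hm, rfl⟩
  have main : (M.map T.subtype).Normal → M = ⊤ := fun hn => by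
    rcases h.min _ hn (map_subtype_le M) with e | e
    · exact absurd ((map_eq_bot_iff_of_injective _ T.subtype_injective).1 e) hM.ne
    · apply Subgroup.map_injective T.subtype_injective
      rw [e, ← MonoidHom.range_eq_map, range_subtype]
  rcases hM.cases with ab | pf
  · exfalso
    have c1 : ∀ (g : G) (m m' : T), m ∈ M → m' ∈ M → g * m * g⁻¹ * m' = m' * (g * m * g⁻¹) :=
      fun g m m' hm hm' => (key g).elim (fun k => congrArg Subtype.val (ab _ (k m hm) _ hm'))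
        fun k => k m hm m' hm'
    have c2 : normalClosure (M.map T.subtype : Set G) = T := by
      refine (h.min _ inferInstance (normalClosure_le_normal (map_subtype_le M))).resolve_left
        fun e => hM.ne ((map_eq_bot_iff_of_injective _ T.subtype_injective).1 (eq_bot_iff.2 ?_))
      rw [← e]; exact le_normalClosure
    refine h.ne (H9.perfect_eq_bot_of_comm hT fun a ha b hb => ?_)
    rw [← c2] at ha hb
    have c3 : ∀ a ∈ Group.conjugatesOfSet (M.map T.subtype : Set G),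
        ∀ b ∈ Group.conjugatesOfSet (M.map T.subtype : Set G), a * b = b * a := by
      intro a ha b hb
      obtain ⟨_, ⟨m, hm, rfl⟩, ha⟩ := Group.mem_conjugatesOfSet_iff.1 ha
      obtain ⟨_, ⟨m', hm', rfl⟩, hb⟩ := Group.mem_conjugatesOfSet_iff.1 hb
      obtain ⟨x, rfl⟩ := isConj_iff.1 ha
      obtain ⟨y, rfl⟩ := isConj_iff.1 hb
      have := c1 (y⁻¹ * x) m m' hm hm'
      simp only [coe_subtype]
      calc _ = y * (y⁻¹ * x * m * (y⁻¹ * x)⁻¹ * m') * y⁻¹ := by group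
        _ = _ := by rw [this]; group
    induction ha, hb using closure_induction₂ with
    | mem x y hx hy => exact c3 x hx y hy
    | one_left => simp
    | one_right => simp
    | mul_left x y z _ _ _ h1 h2 => rw [mul_assoc, h2, ← mul_assoc, h1, mul_assoc]
    | mul_right x y z _ _ _ h1 h2 => rw [← mul_assoc, h1, mul_assoc, h2, mul_assoc]
    | inv_left x y _ _ h1 => exact (show Commute x y from h1).inv_left
    | inv_right x y _ _ h1 => exact (show Commute x y from h1).inv_right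
  · refine main ⟨?_⟩
    rintro _ ⟨m, hm, rfl⟩ g
    rcases key g with k | k
    · exact ⟨_, k m hm, rfl⟩
    · rw [hc (M.map T.subtype) (map_subtype_le M) ?_ (perfect_map _ pf)
        (fun e => hM.ne ((map_eq_bot_iff_of_injective _ T.subtype_injective).1 e))
        (g * T.subtype m * g⁻¹) ?_]
      · exact one_mem _
      · rintro t ht _ ⟨m, hm, rfl⟩
        exact ⟨_, hM.nor.conj_mem m hm ⟨t, ht⟩, rfl⟩
      · rintro _ ⟨m', hm', rfl⟩
        exact k m hm m' hm'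

end Grp

variable {k : Type*} [Field k] {F : Type*} [Field F]

theorem map_smul' (ι : F →+* k) (c : F) (A : Mt F) : (c • A).map ι = ι c • A.map ι := by
  ext i j; simp

theorem map_inj (ι : F →+* k) {A B : Mt F} (h : A.map ι = B.map ι) : A = B :=
  Matrix.map_injective ι.injective h

theorem det_map (ι : F →+* k) (A : Mt F) : (A.map ι).det = ι A.det := (ι.map_det A).symm

theorem trace_map (ι : F →+* k) (A : Mt F) : (A.map ι).trace = ι A.trace := by
  simp [trace_fin_three]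

theorem map_one' (ι : F →+* k) : (1 : Mt F).map ι = 1 := Matrix.map_one _ ι.map_zero ι.map_one

theorem map_mulVec' (ι : F →+* k) (A : Mt F) (v : Vc F) : A.map ι *ᵥ (ι ∘ v) = ι ∘ (A *ᵥ v) := by
  ext i; simp [mulVec, dotProduct, Fin.sum_univ_three]

theorem exists_scal (ι : F →+* k) {A B : Mt F} {c : k} (h : A ≠ 0) (e : B.map ι = c • A.map ι) :
    ∃ c' : F, c = ι c' ∧ B = c' • A := by
  obtain ⟨i, j, hij⟩ : ∃ i j, A i j ≠ 0 := by
    by_contra hc
    push Not at hc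
    exact h (by ext i j; exact hc i j)
  have e1 : ι (B i j) = c * ι (A i j) := congrFun (congrFun e i) j
  have e2 : c = ι (B i j / A i j) := by
    rw [map_div₀, e1, mul_div_cancel_right₀ _ ((map_ne_zero ι).2 hij)]
  exact ⟨_, e2, map_inj ι (by rw [map_smul', ← e2, e])⟩

theorem card_range (ι : F →+* k) : Nat.card ι.fieldRange = Nat.card F :=
  (Nat.card_congr (Equiv.ofBijective _ ι.rangeRestrictField_bijective)).symm

theorem mem_range_iff [Finite F] (ι : F →+* k) {x : k} :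
    x ∈ ι.fieldRange ↔ x ^ Nat.card F = x := by
  haveI : Finite ι.fieldRange := Finite.of_surjective _ ι.rangeRestrictField_bijective.2
  rw [mem_iff_pow, card_range]

namespace PR

variable {Γ : Type*} [Group Γ] {ρ : PR Γ k}

theorem ext' {ρ ρ' : PR Γ k} (h : ∀ g A, ρ.L g A ↔ ρ'.L g A) : ρ = ρ' := by
  cases ρ; cases ρ'
  congr
  funext g A
  exact propext (h g A)

/-- extension of scalars -/
def up (ρ : PR Γ F) (ι : F →+* k) : PR Γ k where
  L g A := ∃ (B : Mt F) (c : k), c ≠ 0 ∧ ρ.L g B ∧ A = c • B.map ι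
  ex g := (ρ.ex g).elim fun B h => ⟨_, B, 1, one_ne_zero, h, rfl⟩
  det := by
    rintro g _ ⟨B, c, hc, h, rfl⟩
    simp [det_map, hc, ρ.det h]
  smul := by
    rintro g _ d ⟨B, c, hc, h, rfl⟩ hd
    exact ⟨B, d * c, mul_ne_zero hd hc, h, smul_smul _ _ _⟩
  uniq := by
    rintro g _ _ ⟨B, c, hc, h, rfl⟩ ⟨B', c', hc', h', rfl⟩
    obtain ⟨d, rfl⟩ := ρ.uniq h h'
    exact ⟨c' * ι d / c, by rw [map_smul', smul_smul, smul_smul, div_mul_cancel₀ _ hc]⟩
  mul := by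
    rintro g h _ _ ⟨B, c, hc, h, rfl⟩ ⟨B', c', hc', h', rfl⟩
    exact ⟨B * B', c * c', mul_ne_zero hc hc', ρ.mul h h', by
      rw [Matrix.map_mul, smul_mul_smul_comm]⟩
  inj := by
    rintro g ⟨B, c, hc, h, e⟩
    obtain ⟨c', -, e'⟩ := exists_scal ι (A := 1) (B := B) (c := c⁻¹) one_ne_zero (by
      rw [map_one', e, smul_smul, inv_mul_cancel₀ hc, one_smul])
    exact ρ.eq_one (e' ▸ h)

section Up

variable {ρ : PR Γ F} {ι : F →+* k}

theorem up_of {g : Γ} {B : Mt F} (h : ρ.L g B) : (ρ.up ι).L g (B.map ι) :=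
  ⟨B, 1, one_ne_zero, h, (one_smul _ _).symm⟩

theorem of_up {g : Γ} {B : Mt F} (h : (ρ.up ι).L g (B.map ι)) : ρ.L g B := by
  obtain ⟨B', c, hc, h, e⟩ := h
  obtain ⟨c', rfl, rfl⟩ := exists_scal ι (ne_zero_of_det (ρ.det h)) e
  exact ρ.smul h ((map_ne_zero ι).1 hc)

theorem up_tr : ρ.tr.up ι = (ρ.up ι).tr := ext' fun g A =>
  ⟨fun ⟨B, c, hc, h, e⟩ => ⟨Bᵀ, c, hc, h, by rw [e, transpose_smul, transpose_map]⟩,
    fun ⟨B, c, hc, h, e⟩ => ⟨Bᵀ, c, hc, h, by rw [transpose_map, ← transpose_smul, ← e]; rfl⟩⟩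

theorem up_sub (H : Subgroup Γ) : (ρ.sub H).up ι = (ρ.up ι).sub H := rfl

theorem NoPt.of_up (h : (ρ.up ι).NoPt) : ρ.NoPt := fun v hv => by
  obtain ⟨_, ⟨g, B, c, hc, hB, rfl⟩, h1⟩ := h (ι ∘ v) fun e => hv (by
    ext i; exact (map_eq_zero ι).1 (congrFun e i))
  refine ⟨B, ⟨g, hB⟩, fun d hd => h1 (c * ι d) ?_⟩
  rw [smul_mulVec, map_mulVec', hd]
  ext i; simp [mul_assoc]

theorem Irr.of_up (h : (ρ.up ι).Irr) : ρ.Irr := ⟨h.pt.of_up, NoPt.of_up (ι := ι) (by rw [up_tr]; exact h.ln)⟩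

/-- a fixed point of a non-soluble group is rational -/
theorem NoPt.up [Finite Γ] [Finite F] (p : ℕ) [Fact p.Prime] [CharP k p] {K : Subgroup Γ}
    (hK : ⁅K, K⁆ = K) (h0 : K ≠ ⊥) (h : ρ.NoPt) : (ρ.up ι).NoPt := by
  intro v hv
  by_contra hc
  push Not at hc
  haveI : CharP F p := ι.charP ι.injective p
  obtain ⟨n, -, hn⟩ := FF.card_eq_pow (F := F) p
  have hφ : ∀ x, iterateFrobenius k p n x = x ↔ x ∈ ι.fieldRange := fun x => by
    rw [mem_range_iff, hn, iterateFrobenius_def]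
  obtain ⟨i, hi⟩ := Function.ne_iff.1 hv
  have hi : v i ≠ 0 := hi
  set φ := iterateFrobenius k p n
  have hv' : (v i)⁻¹ • v ≠ 0 := smul_ne_zero (inv_ne_zero hi) hv
  have h1 : ((v i)⁻¹ • v) i = 1 := inv_mul_cancel₀ hi
  have hc' : ∀ A, (ρ.up ι).In A → ∃ c : k, A *ᵥ ((v i)⁻¹ • v) = c • ((v i)⁻¹ • v) := fun A hA => by
    obtain ⟨c, e⟩ := hc A hA
    exact ⟨c, by rw [mulVec_smul, e, smul_comm]⟩
  generalize (v i)⁻¹ • v = u at hv' h1 hc'
  have h2 : u ⨯₃ (φ ∘ u) = 0 := by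
    by_contra hne
    refine h0 ((ρ.up ι).perfect_two hK hne (fun g _ A hA => hc' A ⟨g, hA⟩) ?_)
    rintro g - _ ⟨B, c, hc, hB, rfl⟩
    obtain ⟨d, hd⟩ := hc' _ ⟨g, up_of hB⟩
    refine ⟨c * φ d, ?_⟩
    have e : (B.map ι).map φ = B.map ι := by
      ext i j; exact (hφ _).2 ⟨_, rfl⟩
    rw [smul_mulVec, ← e, map_mulVec', hd]
    ext i; simp [mul_assoc]
  obtain ⟨c, hc⟩ := eq_smul_of_cross hv' h2
  have h3 : c = 1 := by simpa [h1] using (congrFun hc i).symm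
  rw [h3, one_smul] at hc
  choose w hw using fun j => (hφ (u j)).1 (congrFun hc j)
  obtain rfl : u = ι ∘ w := funext fun j => (hw j).symm
  obtain ⟨B, ⟨g, hB⟩, h4⟩ := h w (by rintro rfl; simp at h1)
  obtain ⟨d, hd⟩ := hc' _ ⟨g, up_of hB⟩
  rw [map_mulVec'] at hd
  have h5 := congrFun hd i
  simp only [Function.comp, Pi.smul_apply, smul_eq_mul] at h5 h1
  rw [h1, mul_one] at h5
  refine h4 ((B *ᵥ w) i) (funext fun j => ι.injective ?_)
  simpa [h5] using congrFun hd j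

theorem Irr.up [Finite Γ] [Finite F] (p : ℕ) [Fact p.Prime] [CharP k p] {K : Subgroup Γ}
    (hK : ⁅K, K⁆ = K) (h0 : K ≠ ⊥) (h : ρ.Irr) : (ρ.up ι).Irr :=
  ⟨h.pt.up p hK h0, by rw [← up_tr]; exact h.ln.up p hK h0⟩

end Up

theorem NoPt.normal [Finite Γ] (h : ρ.NoPt) {T K : Subgroup Γ} (hT : T.Normal) (hle : K ≤ T)
    (hK : ⁅K, K⁆ = K) (h0 : K ≠ ⊥) : (ρ.sub T).NoPt := by
  intro v hv
  by_contra hc
  push Not at hc
  obtain ⟨A, ⟨g, hA⟩, h1⟩ := h v hv
  obtain ⟨A', e1, e2⟩ := exists_inv (ρ.det hA)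
  refine h0 (ρ.perfect_two hK (cross_ne_zero hv h1) (fun t ht B hB => hc B ⟨⟨t, hle ht⟩, hB⟩)
    fun t ht B hB => ?_)
  obtain ⟨c, hc⟩ := hc (A' * B * A) ⟨⟨g⁻¹ * t * g, by simpa using hT.conj_mem t (hle ht) g⁻¹⟩,
    ρ.mul (ρ.mul (ρ.inv hA e1) hB) hA⟩
  refine ⟨c, ?_⟩
  rw [← mulVec_smul, ← hc, mulVec_mulVec, mulVec_mulVec, ← mul_assoc, ← mul_assoc, e1, one_mul]

theorem Irr.normal [Finite Γ] (h : ρ.Irr) {T K : Subgroup Γ} (hT : T.Normal) (hle : K ≤ T)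
    (hK : ⁅K, K⁆ = K) (h0 : K ≠ ⊥) : (ρ.sub T).Irr :=
  ⟨h.pt.normal hT hle hK h0, h.ln.normal hT hle hK h0⟩

theorem Irr.mono {T K : Subgroup Γ} (h : (ρ.sub K).Irr) (hle : K ≤ T) : (ρ.sub T).Irr :=
  ⟨fun v hv => (h.pt v hv).imp fun _ ⟨⟨g, hg⟩, h⟩ => ⟨⟨⟨g, hle g.2⟩, hg⟩, h⟩,
    fun v hv => (h.ln v hv).imp fun _ ⟨⟨g, hg⟩, h⟩ => ⟨⟨⟨g, hle g.2⟩, hg⟩, h⟩⟩

/-- Schur's lemma -/
theorem NoPt.schur [IsAlgClosed k] (h : ρ.NoPt) {X : Mt k} (hX : ∀ A, ρ.In A → X * A = A * X) :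
    ∃ c : k, X = c • 1 := by
  have key : ∀ M : Mt k, M.adjugate = 0 → (∀ A, ρ.In A → M * A = A * M) → M = 0 := by
    intro M h1 h2
    obtain ⟨v, φ, rfl⟩ := rank_one h1
    by_contra h0
    obtain ⟨A, hA, h3⟩ := h v (by rintro rfl; simp at h0)
    obtain ⟨w, hw⟩ := exists_dot_ne (φ := φ) (by rintro rfl; simp at h0)
    have := congrArg (· *ᵥ w) (h2 A hA)
    simp only [← mulVec_mulVec, vecMulVec_mulVec, hw, op_smul_eq_smul, one_smul] at this
    exact h3 _ this.symm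
  obtain ⟨a, b, c, he⟩ := exists_eig X
  have h1 : (X - a • 1).det = 0 := by rw [det_sub, he.tr, he.ad, he.det]; ring
  have h2 : ∀ A, ρ.In A → (X - a • 1) * A = A * (X - a • 1) := fun A hA => by
    rw [sub_mul, mul_sub, hX A hA, smul_mul_assoc, mul_smul_comm, one_mul, mul_one]
  refine ⟨a, sub_eq_zero.1 (key _ (key _ ?_ fun A hA => ?_) h2)⟩
  · rw [adjugate_adjugate _ (by simp), h1]; simp
  · rw [adj_eq]
    generalize X - a • 1 = N at h2
    simp only [add_mul, mul_add, sub_mul, mul_sub, smul_mul_assoc, mul_smul_comm, one_mul, mul_one,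
      h2 A hA]
    rw [mul_assoc, h2 A hA, ← mul_assoc, h2 A hA, mul_assoc]

theorem Pr.of_perfect {g : Γ} {K : Subgroup Γ} (hK : ⁅K, K⁆ = K) (h : ∀ m ∈ K, g * m = m * g)
    {m : Γ} (hm : m ∈ K) : ρ.Pr g m 1 := by
  choose c hc using fun m : K => ρ.exists_pr (h m m.2)
  let f : K →* kˣ := MonoidHom.mk' (fun m => Units.mk0 (c m) (hc m).ne) fun a b =>
    Units.ext ((hc (a * b)).uniq ((hc a).mul (hc b)))
  have := congrArg Units.val (H9.perfect_hom_eq_one hK f ⟨m, hm⟩)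
  exact (show c ⟨m, hm⟩ = 1 from this) ▸ hc ⟨m, hm⟩

theorem cent_eq_one [IsAlgClosed k] {K : Subgroup Γ} (hK : ⁅K, K⁆ = K) (hi : (ρ.sub K).NoPt) {g : Γ}
    (h : ∀ m ∈ K, g * m = m * g) : g = 1 := by
  obtain ⟨X, hX⟩ := ρ.ex g
  obtain ⟨c, rfl⟩ := hi.schur (X := X) fun A ⟨m, hA⟩ => by
    simpa using ((Pr.of_perfect hK h m.2).all hX hA).symm
  exact ρ.eq_one hX

theorem Irr.simple [IsAlgClosed k] [Finite Γ] (h : ρ.Irr) {T : Subgroup Γ} (hT : MinN T)
    (hp : ⁅T, T⁆ = T) : IsSimpleGroup T := by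
  refine hT.simple hp fun M hle hn hM h0 g hg => cent_eq_one (ρ := ρ) hM ?_ hg
  have h1 := (h.normal hT.nor le_rfl hp hT.ne).pt.normal (T := M.subgroupOf T)
    (K := M.subgroupOf T) ⟨fun m hm t => hn t t.2 m hm⟩ le_rfl ?_ ?_
  · exact fun v hv => (h1 v hv).imp fun _ ⟨⟨g, hg⟩, h⟩ => ⟨⟨⟨g.1.1, g.2⟩, hg⟩, h⟩
  · apply Subgroup.map_injective T.subtype_injective
    rw [map_commutator, map_subgroupOf_eq_of_le hle, hM]
  · intro e
    exact h0 (by rw [← map_subgroupOf_eq_of_le hle, e, Subgroup.map_bot])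

end PR

end Cfsg.Agent.H6.M3
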