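import Cfsg.Agent.H6.N1

/-! Groups embedded in `PGL₂`: the reducible and the orthogonal case. -/

set_option autoImplicit false

namespace Cfsg.Agent.H6.M3

open Matrix Subgroup OnePoint MulAction Cfsg.Agent.H6.Pg
open scoped commutatorElement MatrixGroups

variable {k : Type*} [Field k] {F : Type*} [Field F]

theorem exists_model' (L : Subfield k) [Finite L] : ∃ (K : Type) (_ : Field K) (_ : Fintype K)
    (f : K →+* k), f.fieldRange = L ∧ Fintype.card K = Nat.card L := by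
  have e := (Finite.equivFin L).symm
  letI := e.field
  refine ⟨Fin (Nat.card L), inferInstance, inferInstance, L.subtype.comp e.ringEquiv.toRingHom,
    ?_, by simp⟩
  ext x
  exact ⟨fun ⟨y, hy⟩ => hy ▸ (e y).2, fun hx => ⟨e.symm ⟨x, hx⟩, by simp⟩⟩

instance factFive : Fact (Nat.Prime 5) := ⟨by norm_num⟩

theorem psl25 : Nonempty (alternatingGroup (Fin 5) ≃* PSL(2, ZMod 5)) := by
  have h1 := card_S (F := ZMod 5) (by simp) (by simp; decide)
  have h2 : ∀ g : S (ZMod 5), g ^ 2 = 1 ∨ g ^ 3 = 1 ∨ g ^ 5 = 1 := by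
    rintro ⟨g, hg⟩
    by_cases h0 : g = 1
    · subst h0; left; ext; simp
    simp only [Subtype.ext_iff, SubmonoidClass.coe_pow, OneMemClass.coe_one]
    rw [pow_two_iff h0, pow_three_iff h0, pow_five_iff h0]
    obtain ⟨A, hA, rfl⟩ := mem_S.1 hg
    rw [tau_pg (by simp [hA]), hA, div_one]
    generalize A.trace = t
    revert t; decide
  obtain ⟨e⟩ := SmallId.iso_A5 (G := S (ZMod 5)) (by rw [Nat.card_zmod] at h1; omega)
    (fun g hg => by simpa [← orderOf_dvd_iff_pow_eq_one, hg] using h2 g)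
    (fun g hg => by simpa [← orderOf_dvd_iff_pow_eq_one, hg] using h2 g)
  obtain ⟨e'⟩ := equiv_PS (RingHom.id (ZMod 5))
  have : PS (RingHom.id (ZMod 5)).fieldRange = S (ZMod 5) := by
    rw [← PS_top]; congr 1; ext x; simp
  exact ⟨e.symm.trans ((MulEquiv.subgroupCongr this).symm.trans e')⟩

theorem perfect_stab {p : ℕ} {G X : Type*} [Group G] [MulAction G X] (m : Mob p G X) {K : Subgroup G}
    (hK : ⁅K, K⁆ = K) {x : X} (h : ∀ g ∈ K, g • x = x) : K = ⊥ := by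
  have : K ≤ m.P x := hK ▸ commutator_le.2 fun a ha b hb =>
    ⟨h _ (hK ▸ commutator_mem_commutator ha hb), m.comm a b x (h a ha) (h b hb)⟩
  exact H9.perfect_eq_bot_of_comm hK fun a ha b hb =>
    m.pcomm a b x (this ha).1 (this hb).1 (this ha).2 (this hb).2

theorem dickson' [Finite F] (p : ℕ) [Fact p.Prime] [CharP F p] (M : Subgroup PGL(2, F))
    {K : Subgroup PGL(2, F)} (hK : ⁅K, K⁆ = K) (h0 : K ≠ ⊥) (hle : K ≤ M) :
    (p ≠ 2 ∧ p ≠ 5 ∧ Nonempty (M ≃* alternatingGroup (Fin 5))) ∨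
      ∃ (h : PGL(2, F)) (L : Subfield F), 4 ≤ Nat.card L ∧ (cj h M = PS L ∨ cj h M = PG L) := by
  have sol : ∀ (A : Type) [Group A] [Group.IsSolvable A] (j : M →* A), ¬ Function.Injective j :=
    fun A _ _ j hj => h0 (eq_bot_iff.2 fun g hg => congrArg Subtype.val (hj
      ((H9.perfect_hom_eq_one hK (j.comp (inclusion hle)) ⟨g, hg⟩).trans j.map_one.symm)))
  haveI := H9.isSolvable_perm_fin_four
  rcases dickson p M with ⟨x, hx⟩ | ⟨x, y, hxy, hx⟩ | ⟨-, ⟨e⟩⟩ | ⟨-, ⟨e⟩⟩ | h | ⟨h, L, h3, h1, h2⟩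
  · exact absurd (perfect_stab (mobF F p) hK fun g hg => hx (hle hg)) h0
  · refine absurd (perfect_stab (mobF F p) hK (x := x) fun g hg => ?_) h0
    have := H9.perfect_fix (X := Prop) (by simp) hK (fun v => v = x ∨ v = y) ?_ (fun v => v = x) ?_
      hg (Or.inl rfl)
    · simpa using this
    · rintro g hg v (rfl | rfl) <;> rcases hx (hle hg) with ⟨a, b⟩ | ⟨a, b⟩ <;> simp [a, b]
    · rintro g hg v w (rfl | rfl) (rfl | rfl) e
      · rfl
      · exact absurd (e ▸ rfl : w = v).symm hxy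
      · exact absurd (e.symm ▸ rfl : v = w).symm hxy
      · rfl
  · exact absurd e.injective (sol _ e.toMonoidHom)
  · exact absurd e.injective (sol _ e.toMonoidHom)
  · exact Or.inl h
  refine Or.inr ⟨h, L, ?_, ?_⟩
  · by_contra h4
    have e1 : Nat.card (OnePoint L) ≤ 4 := by
      rw [show Nat.card (OnePoint L) = Nat.card L + 1 from Finite.card_option]; omega
    haveI : Finite (OnePoint L) := inferInstanceAs (Finite (Option L))
    haveI := H9.isSolvable_perm_of_card_le_four e1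
    obtain ⟨e⟩ := equiv_PG L.subtype
    have e2 : PG L = PG L.subtype.fieldRange := by simp
    let j := (toPermHom PGL(2, L) (OnePoint L)).comp (e.toMonoidHom.comp
      ((inclusion (h2.trans e2.le)).comp (cjEquiv h M).toMonoidHom))
    refine h0 (eq_bot_iff.2 fun g hg => ?_)
    have e3 := H9.perfect_hom_eq_one hK (j.comp (inclusion hle)) ⟨g, hg⟩
    have e4 := three (e (inclusion (h2.trans e2.le) (cjEquiv h M ⟨g, hle hg⟩))) ∞
      ((0 : L) : OnePoint L) ((1 : L) : OnePoint L) (by simp) (by simp) (by simp)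
      (DFunLike.congr_fun e3 _) (DFunLike.congr_fun e3 _) (DFunLike.congr_fun e3 _)
    rw [map_eq_one_iff _ e.injective, map_eq_one_iff _ (inclusion_injective _),
      map_eq_one_iff _ (cjEquiv h M).injective] at e4
    exact congrArg Subtype.val e4
  · have e1 := map_comap_eq_self (f := ProjGenLinGroup.map L.subtype) h2
    have e2 : S L ≤ (cj h M).comap (ProjGenLinGroup.map L.subtype) := map_le_iff_le_comap.1 h1
    generalize (cj h M).comap (ProjGenLinGroup.map L.subtype) = N at e1 e2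
    rw [← e1]
    rcases card_cases e2 h3 with e | e
    · right
      rw [(card_eq_iff_eq_top N).1 (e.trans (card_PGL h3).symm), ← MonoidHom.range_eq_map]; rfl
    · rcases card_cases (F := L) le_rfl h3 with e' | e'
      · have := card_le_of_le e2
        have : 0 < Nat.card N := Nat.card_pos
        omega
      · left
        rw [← eq_of_le_of_card_ge e2 (by omega)]; rfl

theorem pgl2_case [Finite F] (p α : ℕ) [Fact p.Prime] [CharP F p] (hF : Nat.card F = p ^ α)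
    {Γ : Type*} [Group Γ] (j : Γ →* PGL(2, F)) (hj : Function.Injective j) {K : Subgroup Γ}
    (hK : ⁅K, K⁆ = K) (h0 : K ≠ ⊥) :
    (∃ (K : Type) (_ : Field K) (_ : Fintype K) (β : ℕ), Fintype.card K = p ^ β ∧ β ∣ α ∧
      p ^ β ≠ 3 ∧ (Nonempty (Γ ≃* PSL(2, K)) ∨
        Nonempty (Γ ≃* (GL (Fin 2) K ⧸ Subgroup.center (GL (Fin 2) K))))) ∨
    ((p ^ α % 10 = 1 ∨ p ^ α % 10 = 9) ∧ ∃ (K : Type) (_ : Field K) (_ : Fintype K),
      Fintype.card K = 5 ∧ Nonempty (Γ ≃* PSL(2, K))) := by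
  have e0 := MonoidHom.ofInjective hj
  rcases dickson' p j.range (perfect_map j hK)
    (fun e => h0 ((map_eq_bot_iff_of_injective _ hj).1 e)) (map_le_range j K) with
    ⟨h2, h5, ⟨e⟩⟩ | ⟨h, L, h4, hL⟩
  · obtain ⟨e'⟩ := psl25
    refine Or.inr ⟨?_, ZMod 5, inferInstance, inferInstance, by simp, ⟨e0.trans (e.trans e')⟩⟩
    obtain ⟨g, hg⟩ := exists_prime_orderOf_dvd_card' (G := j.range) 5 (by
      rw [Nat.card_congr e.toEquiv, card_a5]; norm_num)
    have h1 : Odd (Nat.card F) := (FF.odd_iff p).2 h2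
    have h3 := Finite.one_lt_card (α := F)
    rw [← orderOf_coe] at hg
    have := order_cases (p := p) (by rcases h1 with ⟨r, hr⟩; omega) g.1
    rw [← orderOf_dvd_iff_pow_eq_one, hg,
      Nat.prime_dvd_prime_iff_eq (by norm_num) Fact.out] at this
    rw [← hF]
    rcases h1 with ⟨r, hr⟩
    omega
  · obtain ⟨K, _, _, f, rfl, hc⟩ := FF.exists_model L
    haveI : CharP K p := f.charP f.injective p
    obtain ⟨β, -, hβ⟩ := FF.card_eq_pow (F := K) p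
    obtain ⟨a, ha⟩ := FF.card_pow f
    rw [hF, hβ, ← pow_mul, Nat.pow_right_inj (Fact.out : p.Prime).one_lt] at ha
    rw [Nat.card_eq_fintype_card] at hβ
    refine Or.inl ⟨K, inferInstance, inferInstance, β, hβ, ⟨a, ha⟩, by omega, hL.imp ?_ ?_⟩
    · exact fun e => (equiv_PS f).map fun e' =>
        e0.trans ((cjEquiv h _).trans ((MulEquiv.subgroupCongr e).trans e'))
    · exact fun e => (equiv_PG f).map fun e' =>
        e0.trans ((cjEquiv h _).trans ((MulEquiv.subgroupCongr e).trans e'))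

namespace PR

variable {Γ : Type*} [Group Γ] {ρ : PR Γ k}

theorem red_pt [Finite Γ] (hs : NS Γ) (h : ¬ ρ.NoPt) :
    ∃ j : Γ →* PGL(2, k), Function.Injective j := by
  simp only [NoPt, not_forall, not_exists, not_and, not_not] at h
  obtain ⟨v, hv, h⟩ := h
  obtain ⟨u, hu⟩ := exists_second hv
  obtain ⟨w, hw⟩ := exists_third hu
  have hw' : Ind u w v := fun x y z e => by
    have := hw z x y (by rw [← e]; abel)
    tauto
  obtain ⟨B', hB⟩ := hw'.inv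
  have key : ∀ g A, (ρ.cj hB).L g A → A 0 2 = 0 ∧ A 1 2 = 0 := fun g A hA => by
    obtain ⟨c, hc⟩ := h _ ⟨g, hA⟩
    have e1 : v = cols u w v *ᵥ ![0, 0, 1] := by simp [cols_mulVec]
    generalize cols u w v = B at *
    rw [e1, mulVec_mulVec, mul_assoc, mul_eq_one_comm.1 hB, mul_one, ← mulVec_mulVec, ← mulVec_smul,
      ← sub_eq_zero, ← mulVec_sub] at hc
    have k1 := eq_zero_of_mulVec_eq_zero (det_of_mul hB).1 hc
    simpa [mulVec, dotProduct, Fin.sum_univ_three] using And.intro (congrFun k1 0) (congrFun k1 1)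
  generalize ρ.cj hB = τ at key
  obtain ⟨π, hπ⟩ := τ.exists_pi ⊤ (Or.inl fun g _ => key g)
  refine ⟨π.comp topEquiv.symm.toMonoidHom, (MonoidHom.ker_eq_bot_iff _).1 ?_⟩
  by_contra hne
  obtain ⟨K, hle, hK, h0⟩ := hs.exists inferInstance hne
  have k2 : ∀ g ∈ K, ∀ A, τ.tr.L g A → A 2 0 = 0 ∧ A 2 1 = 0 ∧ A 0 1 = 0 ∧ A 1 0 = 0 := by
    intro g hg A hA
    obtain ⟨d, e⟩ := hπ ⟨g⁻¹, trivial⟩ _ hA
    have e1 : π ⟨g⁻¹, trivial⟩ = 1 := hle (K.inv_mem hg)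
    rw [e1, eq_comm, pg_eq_one d] at e
    exact ⟨(key _ _ hA).1, (key _ _ hA).2, e.2.1, e.1⟩
  refine h0 (τ.tr.perfect_two hK (u := ![1, 0, 0]) (v := ![0, 1, 0]) (by simp [cr3, zv3])
    (fun g hg A hA => ⟨A 0 0, ?_⟩) fun g hg A hA => ⟨A 1 1, ?_⟩) <;>
  simp [eq3, mulVec, dotProduct, Fin.sum_univ_three, k2 g hg A hA]

theorem red [Finite Γ] (hs : NS Γ) (h : ¬ ρ.Irr) : ∃ j : Γ →* PGL(2, k), Function.Injective j := by
  by_cases h1 : ρ.NoPt
  · exact red_pt (ρ := ρ.tr) hs fun h2 => h ⟨h1, h2⟩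
  · exact red_pt hs h1

/-- the projective representation given by a linear representation of a central extension -/
def ofHom {G : Type*} [Group G] (m : G →* Mt k) (f : G →* Γ) (hf : Function.Surjective f)
    (hk : ∀ x, f x = 1 ↔ ∃ c : k, m x = c • 1) : PR Γ k where
  L g A := ∃ (x : G) (c : k), c ≠ 0 ∧ f x = g ∧ A = c • m x
  ex g := (hf g).elim fun x h => ⟨_, x, 1, one_ne_zero, h, rfl⟩
  det := by
    rintro g _ ⟨x, c, hc, -, rfl⟩
    simp [hc, (det_of_mul (show m x * m x⁻¹ = 1 by rw [← map_mul, mul_inv_cancel, map_one])).1]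
  smul := by
    rintro g _ d ⟨x, c, hc, h, rfl⟩ hd
    exact ⟨x, d * c, mul_ne_zero hd hc, h, smul_smul _ _ _⟩
  uniq := by
    rintro g _ _ ⟨x, c, hc, h, rfl⟩ ⟨y, c', hc', h', rfl⟩
    obtain ⟨d, hd⟩ := (hk (x⁻¹ * y)).1 (by rw [map_mul, map_inv, h, h', inv_mul_cancel])
    refine ⟨c' * d / c, ?_⟩
    rw [smul_smul, div_mul_cancel₀ _ hc, ← mul_inv_cancel_left x y, map_mul, hd, mul_smul_comm,
      mul_one, smul_smul]
  mul := by
    rintro g h _ _ ⟨x, c, hc, h, rfl⟩ ⟨y, c', hc', h', rfl⟩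
    exact ⟨x * y, c * c', mul_ne_zero hc hc', by rw [map_mul, h, h'], by
      rw [map_mul, smul_mul_smul_comm]⟩
  inj := by
    rintro g ⟨x, c, hc, rfl, e⟩
    exact (hk x).2 ⟨c⁻¹, by rw [e, smul_smul, inv_mul_cancel₀ hc, one_smul]⟩

theorem ofHom_L {G : Type*} [Group G] {m : G →* Mt k} {f : G →* Γ} {hf : Function.Surjective f}
    {hk : ∀ x, f x = 1 ↔ ∃ c : k, m x = c • 1} (x : G) : (ofHom m f hf hk).L (f x) (m x) :=
  ⟨x, 1, one_ne_zero, rfl, (one_smul _ _).symm⟩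

theorem hom_of_le {Δ : Type*} [Group Δ] (τ : PR Δ k) (h : ∀ g, ∃ A, ρ.L g A ∧ τ.In A) :
    ∃ j : Γ →* Δ, Function.Injective j ∧ ∀ g A, τ.L (j g) A ↔ ρ.L g A := by
  choose r hr j hj using h
  have h1 : ∀ g A, τ.L (j g) A ↔ ρ.L g A := fun g A => by
    constructor <;> intro hA
    · obtain ⟨c, hc, rfl⟩ := τ.uniq' (hj g) hA
      exact ρ.smul (hr g) hc
    · obtain ⟨c, hc, rfl⟩ := ρ.uniq' (hr g) hA
      exact τ.smul (hj g) hc
  refine ⟨MonoidHom.mk' j fun a b => τ.eq_of ((h1 _ _).2 (ρ.mul (hr a) (hr b)))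
    (τ.mul (hj a) (hj b)), (injective_iff_map_eq_one _).2 fun g hg => ρ.inj ((h1 g 1).1 ?_), h1⟩
  exact (show j g = 1 from hg) ▸ τ.one

theorem equiv_of {Δ : Type*} [Group Δ] (τ : PR Δ k) (h : ∀ g, ∃ A, ρ.L g A ∧ τ.In A)
    (h' : ∀ g, ∃ A, τ.L g A ∧ ρ.In A) : Nonempty (Γ ≃* Δ) := by
  obtain ⟨j, h1, h2⟩ := hom_of_le τ h
  refine ⟨MulEquiv.ofBijective j ⟨h1, fun g => ?_⟩⟩
  obtain ⟨A, hA, x, hx⟩ := h' g
  exact ⟨x, τ.eq_of ((h2 _ _).2 hx) hA⟩

end PR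

/-- the symmetric square -/
def sy (M : Matrix (Fin 2) (Fin 2) k) : Mt k :=
  !![M 0 0 ^ 2, 2 * M 0 0 * M 0 1, M 0 1 ^ 2;
    M 0 0 * M 1 0, M 0 0 * M 1 1 + M 0 1 * M 1 0, M 0 1 * M 1 1;
    M 1 0 ^ 2, 2 * M 1 0 * M 1 1, M 1 1 ^ 2]

/-- the symmetric square as a homomorphism -/
def syH : GL (Fin 2) k →* Mt k where
  toFun M := sy M.1
  map_one' := by simp [sy, eq9]
  map_mul' M N := by
    simp only [sy, mul_fin_three, em3, Units.val_mul, mul_apply, Fin.sum_univ_two]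
    refine ⟨?_, ?_, ?_, ?_, ?_, ?_, ?_, ?_, ?_⟩ <;> ring

variable (k) in
/-- `PGL₂` as an orthogonal group -/
noncomputable def so3 : PR PGL(2, k) k :=
  PR.ofHom syH ProjGenLinGroup.mk ProjGenLinGroup.mk_surjective fun x => by
    have hx : x.1.det ≠ 0 := x.det_ne_zero
    rw [← pg_coe, pg_eq_one hx]
    rw [det_fin_two] at hx
    constructor
    · rintro ⟨h1, h2, h3⟩
      exact ⟨x.1 0 0 ^ 2, by simp [syH, sy, eq9, h1, h2, h3, sq]⟩
    · rintro ⟨c, hc⟩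
      simp [syH, sy, eq9] at hc
      grind

theorem conic {x y z : k} (h : x * z = y ^ 2) : ∃ l a c : k, x = l * a ^ 2 ∧ y = l * a * c ∧
    z = l * c ^ 2 := by
  by_cases h0 : x = 0
  · exact ⟨z, 0, 1, by simp [h0], by simpa [h0] using h.symm, by simp⟩
  · exact ⟨x⁻¹, x, y, by field_simp, by field_simp, by field_simp; grind⟩

theorem so3_in (h2 : (2 : k) ≠ 0) {A : Mt k} (hA : A.det ≠ 0) {c : k}
    (h : Aᵀ * !![0, 0, 1; 0, -2, 0; 1, 0, 0] * A = c • !![0, 0, 1; 0, -2, 0; 1, 0, 0]) :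
    (so3 k).In A := by
  have hc : c ≠ 0 := by
    rintro rfl
    have := congrArg det h
    simp [dm3, hA, h2] at this
  obtain ⟨x0, y0, z0, x1, y1, z1, x2, y2, z2, rfl⟩ := ex9 A
  simp only [tm3, mul_fin_three, sm3, em3] at h
  obtain ⟨l, a, c', rfl, rfl, rfl⟩ := conic (x := x0) (y := x1) (z := x2) (by grind)
  obtain ⟨m, b, d, rfl, rfl, rfl⟩ := conic (x := z0) (y := z1) (z := z2) (by grind)
  have h1 : l * m * (a * d - b * c') ^ 2 = c := by grind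
  have hl : l ≠ 0 := by rintro rfl; simp_all
  have hm : m ≠ 0 := by rintro rfl; simp_all
  have hd : a * d - b * c' ≠ 0 := fun e => hc (by rw [← h1, e]; simp)
  have e1 : ![c' ^ 2, -2 * a * c', a ^ 2] ⨯₃ ![d ^ 2, -2 * b * d, b ^ 2] =
      (a * d - b * c') • ![2 * a * b, a * d + b * c', 2 * c' * d] := by
    simp only [cr3, sv3, ev3]; grind
  obtain ⟨n, hn⟩ := eq_smul_cross (φ := ![c' ^ 2, -2 * a * c', a ^ 2])
    (ψ := ![d ^ 2, -2 * b * d, b ^ 2]) (v := ![y0, y1, y2])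
    (by rw [e1]; simp only [sv3, Ne, zv3]; grind)
    (by rw [dot3]; exact mul_left_cancel₀ hl (by grind))
    (by rw [dot3]; exact mul_left_cancel₀ hm (by grind))
  rw [e1, smul_smul] at hn
  generalize n * (a * d - b * c') = n at hn
  simp only [sv3, ev3] at hn
  obtain ⟨rfl, rfl, rfl⟩ := hn
  have h3 : n ^ 2 = l * m := mul_left_cancel₀ (mul_ne_zero h2 (pow_ne_zero 2 hd)) (by grind)
  have hn : n ≠ 0 := by rintro rfl; simp_all
  obtain ⟨M, hM⟩ := exists_GL (A := !![a * l, b * n; c' * l, d * n]) (by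
    rw [det_fin_two_of]; exact fun e => mul_ne_zero hd (mul_ne_zero hl hn) (by grind))
  refine ⟨_, M, l⁻¹, inv_ne_zero hl, rfl, ?_⟩
  simp only [syH, MonoidHom.coe_mk, OneHom.coe_mk, hM, sy, sm3, em3, of_apply, cons_val',
    cons_val_zero, cons_val_one, cons_val_fin_one]
  grind

theorem exists_iso [Finite k] (h2 : (2 : k) ≠ 0) (G : Mt k) (hG : Gᵀ = G) :
    ∃ u : Vc k, u ≠ 0 ∧ u ⬝ᵥ G *ᵥ u = 0 := by
  obtain ⟨a, b, c, b', d, e, c', e', f, rfl⟩ := ex9 G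
  simp only [tm3, em3] at hG
  obtain ⟨-, rfl, rfl, -, -, rfl, -⟩ := hG
  by_cases h0 : a = 0
  · exact ⟨![1, 0, 0], by simp [zv3], by simp only [mv3, dot3]; grind⟩
  by_cases h1 : a * d - b' ^ 2 = 0
  · exact ⟨![-b', a, 0], by simp [zv3, h0], by simp only [mv3, dot3]; grind⟩
  haveI := Fintype.ofFinite k
  obtain ⟨x, y, h⟩ := FiniteField.exists_root_sum_quadratic
    (f := Polynomial.C 1 * Polynomial.X ^ 2 + Polynomial.C 0 * Polynomial.X + Polynomial.C 0)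
    (g := Polynomial.C (a * d - b' ^ 2) * Polynomial.X ^ 2 +
      Polynomial.C (2 * (a * e' - b' * c')) * Polynomial.X + Polynomial.C (a * f - c' ^ 2))
    (Polynomial.degree_quadratic one_ne_zero) (Polynomial.degree_quadratic h1)
    (Nat.odd_iff.1 (Asch.odd_card_iff.2 h2))
  simp only [Polynomial.eval_add, Polynomial.eval_mul, Polynomial.eval_C, Polynomial.eval_pow,
    Polynomial.eval_X] at h
  exact ⟨![x - b' * y - c', a * y, a], by simp [zv3, h0], by simp only [mv3, dot3]; grind⟩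

theorem exists_conic [Finite k] (h2 : (2 : k) ≠ 0) {G : Mt k} (hG : Gᵀ = G) (hd : G.det ≠ 0) :
    ∃ (B : Mt k) (d : k), B.det ≠ 0 ∧ d ≠ 0 ∧ Bᵀ * G * B = d • !![0, 0, 1; 0, -2, 0; 1, 0, 0] := by
  have sym : ∀ x y : Vc k, x ⬝ᵥ G *ᵥ y = y ⬝ᵥ G *ᵥ x := fun x y => by
    rw [dotProduct_mulVec, ← mulVec_transpose, hG, dotProduct_comm]
  have gram : ∀ u v w : Vc k, (cols u v w)ᵀ * G * cols u v w =
      !![u ⬝ᵥ G *ᵥ u, u ⬝ᵥ G *ᵥ v, u ⬝ᵥ G *ᵥ w; v ⬝ᵥ G *ᵥ u, v ⬝ᵥ G *ᵥ v, v ⬝ᵥ G *ᵥ w;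
        w ⬝ᵥ G *ᵥ u, w ⬝ᵥ G *ᵥ v, w ⬝ᵥ G *ᵥ w] := fun u v w => by
    rw [mul_assoc, mul_cols]
    simp [eq9, cols, mul_apply, dotProduct]
  obtain ⟨u, hu, uu⟩ := exists_iso h2 G hG
  obtain ⟨w0, hw0⟩ := exists_dot_ne (mulVec_ne_zero hd hu)
  rw [dotProduct_comm] at hw0
  obtain ⟨w, wu, ww'⟩ : ∃ w : Vc k, w ⬝ᵥ G *ᵥ u = 1 ∧ w ⬝ᵥ G *ᵥ w = 0 :=
    ⟨w0 - ((w0 ⬝ᵥ G *ᵥ w0) / 2) • u, by simp [uu, hw0], by
      simp only [mulVec_sub, mulVec_smul, sub_dotProduct, dotProduct_sub, smul_dotProduct,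
        dotProduct_smul, smul_eq_mul, uu, hw0, sym u w0]
      field_simp; ring⟩
  have hne : (G *ᵥ u) ⨯₃ (G *ᵥ w) ≠ 0 := cross_ne_zero (mulVec_ne_zero hd hu) fun c hc => by
    have := congrArg (u ⬝ᵥ ·) hc
    simp [uu, sym u w, wu] at this
  have zu : ((G *ᵥ u) ⨯₃ (G *ᵥ w)) ⬝ᵥ G *ᵥ u = 0 := by rw [dotProduct_comm, dot_self_cross]
  have zw : ((G *ᵥ u) ⨯₃ (G *ᵥ w)) ⬝ᵥ G *ᵥ w = 0 := by rw [dotProduct_comm, dot_cross_self]
  generalize (G *ᵥ u) ⨯₃ (G *ᵥ w) = z at hne zu zw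
  have hi : Ind u z w := fun x y t e => by
    have e1 := congrArg (· ⬝ᵥ G *ᵥ u) e
    have e2 := congrArg (· ⬝ᵥ G *ᵥ w) e
    simp [uu, zu, wu, zw, ww', sym u w] at e1 e2
    simpa [e1, e2, hne] using e
  have zz : z ⬝ᵥ G *ᵥ z ≠ 0 := fun e => by
    have := congrArg det (gram u z w)
    simp [dm3, uu, zu, wu, zw, ww', sym u, sym w z, e, hi.det, hd] at this
  have hd' : -(z ⬝ᵥ G *ᵥ z) / 2 ≠ 0 := div_ne_zero (neg_ne_zero.2 zz) h2
  refine ⟨cols u z ((-(z ⬝ᵥ G *ᵥ z) / 2) • w), _, Ind.det fun x y t e => ?_, hd', ?_⟩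
  · rw [smul_smul] at e
    simpa [zz, h2] using hi _ _ _ e
  · rw [gram]
    simp only [mulVec_smul, dotProduct_smul, smul_dotProduct, uu, zu, wu, zw, ww', sym u z, sym u w,
      sym w z, sm3, em3, smul_eq_mul]
    simp [h2]

theorem PR.so3_hom {Γ : Type*} [Group Γ] {ρ : PR Γ k} [Finite k] (h2 : (2 : k) ≠ 0) {G : Mt k}
    (hG : Gᵀ = G) (hd : G.det ≠ 0) (h : ∀ g, ∃ A c, ρ.L g A ∧ Aᵀ * G * A = (c : k) • G) :
    ∃ j : Γ →* PGL(2, k), Function.Injective j := by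
  obtain ⟨B, d, hB, h0, e⟩ := exists_conic h2 hG hd
  obtain ⟨B', h1, h3⟩ := exists_inv hB
  refine ((ρ.cj h1).hom_of_le (so3 k) fun g => ?_).imp fun _ h => h.1
  obtain ⟨A, c, hA, e'⟩ := h g
  have hA' := (ρ.cj_L' h1).2 hA
  refine ⟨_, hA', so3_in h2 ((ρ.cj h1).det hA') (c := c) (smul_right_injective _ h0 ?_)⟩
  have h4 : B'ᵀ * Bᵀ = 1 := by rw [← transpose_mul, h1, transpose_one]
  simp only
  rw [smul_comm, ← smul_mul_assoc, ← mul_smul_comm, ← e, ← smul_mul_assoc, ← mul_smul_comm, ← e']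
  simp only [transpose_mul, mul_assoc]
  rw [← mul_assoc B, h1, one_mul, ← mul_assoc B'ᵀ, h4, one_mul]

end Cfsg.Agent.H6.M3
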