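import Cfsg.Agent.H6.N2

/-! Linear covering groups, the orthogonal case. -/

set_option autoImplicit false

namespace Cfsg.Agent.H6.M3

open Matrix Subgroup Cfsg.Agent.H6.Pg Cfsg.Agent.Asch
open scoped commutatorElement MatrixGroups

variable {k : Type*} [Field k] {F : Type*} [Field F]

namespace PR

variable {Γ : Type*} [Group Γ] {ρ : PR Γ F} {ι : F →+* k} {P : Subgroup (GL (Fin 3) F)}

variable (ρ) in
/-- there are lifts of determinant one -/
def SLr : Prop := ∀ g, ∃ B, ρ.L g B ∧ B.det = 1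

variable (ρ P) in
/-- a linear group covering `Γ` -/
structure Cov : Prop where
  mem : ∀ B ∈ P, ρ.In B.1
  det : ∀ B ∈ P, B.1.det = 1
  ex : ∀ g, ∃ B ∈ P, ρ.L g B.1

variable (ρ) in
/-- all lifts of determinant one -/
def hat : Subgroup (GL (Fin 3) F) where
  carrier := {B | ρ.In B.1 ∧ B.1.det = 1}
  one_mem' := ⟨In.one, det_one⟩
  mul_mem' := fun h h' => ⟨h.1.mul h'.1, by rw [Units.val_mul, det_mul, h.2, h'.2, one_mul]⟩
  inv_mem' := fun {B} h => ⟨h.1.inv B.mul_inv, by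
    have := congrArg Matrix.det B.mul_inv
    rwa [det_mul, h.2, one_mul, det_one] at this⟩

theorem SLr.cov (h : ρ.SLr) : ρ.Cov ρ.hat := ⟨fun _ h => h.1, fun _ h => h.2, fun g => by
  obtain ⟨B, h1, h2⟩ := h g
  exact ⟨GeneralLinearGroup.mkOfDetNeZero B (ρ.det h1), ⟨⟨g, h1⟩, h2⟩, h1⟩⟩

theorem Cov.slr (h : ρ.Cov P) : ρ.SLr := fun g => (h.ex g).elim fun B hB => ⟨_, hB.2, h.det B hB.1⟩

theorem SLr.sub (h : ρ.SLr) (T : Subgroup Γ) : (ρ.sub T).SLr := fun g => h g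

theorem Cov.hom (h : ρ.Cov P) : ∃ π : P →* Γ, Function.Surjective π ∧ ∀ B, ρ.L (π B) B.1.1 := by
  choose f hf using fun B : P => h.mem B B.2
  refine ⟨MonoidHom.mk' f fun a b => ρ.eq_of (hf (a * b)) (ρ.mul (hf a) (hf b)), fun g => ?_, hf⟩
  obtain ⟨B, hB, e⟩ := h.ex g
  exact ⟨⟨B, hB⟩, ρ.eq_of (hf _) e⟩

theorem Cov.comm (h : ρ.Cov P) (hp : ⁅(⊤ : Subgroup Γ), (⊤ : Subgroup Γ)⁆ = ⊤) : ρ.Cov ⁅P, P⁆ := by
  have hle : ⁅P, P⁆ ≤ P := commutator_le.2 fun a ha b hb =>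
    P.mul_mem (P.mul_mem (P.mul_mem ha hb) (P.inv_mem ha)) (P.inv_mem hb)
  refine ⟨fun B hB => h.mem B (hle hB), fun B hB => h.det B (hle hB), fun g => ?_⟩
  obtain ⟨π, h1, h2⟩ := h.hom
  have : g ∈ (commutator P).map π := by
    rw [_root_.commutator_def, map_commutator, map_top_of_surjective π h1, hp]; trivial
  obtain ⟨B, hB, rfl⟩ := this
  exact ⟨B, map_subtype_commutator P ▸ mem_map_of_mem P.subtype hB, h2 B⟩

theorem Cov.lift (h : ρ.Cov P) {A : Mt F} (hA : ρ.In A) : ∃ B ∈ P, ∃ c : F, A = c • B.1 := by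
  obtain ⟨g, hA⟩ := hA
  obtain ⟨B, hB, e⟩ := h.ex g
  exact ⟨B, hB, ρ.uniq e hA⟩

theorem Cov.irred (h : ρ.Cov P) (hi : ρ.Irr) : Irred P := by
  intro W hW
  by_contra hc
  push Not at hc
  have hW' : ∀ A, ρ.In A → ∀ v ∈ W, A *ᵥ v ∈ W := fun A hA v hv => by
    obtain ⟨B, hB, c, rfl⟩ := h.lift hA
    rw [smul_mulVec]; exact W.smul_mem _ (hW B hB v hv)
  obtain ⟨v, hv, h0⟩ := (Submodule.ne_bot_iff W).1 hc.1
  obtain ⟨f, hf, hle⟩ := W.exists_le_ker_of_lt_top (lt_top_iff_ne_top.2 hc.2)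
  obtain ⟨φ, hφ⟩ : ∃ φ : Vc F, ∀ x, f x = φ ⬝ᵥ x := ⟨fun i => f (Pi.single i 1), fun x => by
    conv_lhs => rw [eq_sum_smul_single x]
    simp [dotProduct, mul_comm]⟩
  obtain ⟨A, hA, h1⟩ := hi.pt v h0
  have h2 := cross_ne_zero h0 h1
  have h3 : ∀ ψ : Vc F, (∀ x ∈ W, ψ ⬝ᵥ x = 0) → ∃ c : F, ψ = c • (v ⨯₃ (A *ᵥ v)) := fun ψ hψ =>
    eq_smul_cross h2 (by rw [dotProduct_comm, hψ v hv])
      (by rw [dotProduct_comm, hψ _ (hW' A hA v hv)])
  have h4 : φ ≠ 0 := by rintro rfl; exact hf (by ext x; simp [hφ])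
  have h5 : ∀ x ∈ W, φ ⬝ᵥ x = 0 := fun x hx => hφ x ▸ hle hx
  obtain ⟨C, hC, h6⟩ := hi.ln' φ h4
  obtain ⟨c, hc⟩ := h3 φ h5
  obtain ⟨d, hd⟩ := h3 (φ ᵥ* C) fun x hx => by rw [← dotProduct_mulVec, h5 _ (hW' C hC x hx)]
  have h7 : c ≠ 0 := by rintro rfl; simp [hc] at h4
  exact h6 (d / c) (by rw [hd, hc, smul_smul, div_mul_cancel₀ _ h7])

theorem Cov.absIrr [Finite F] [IsAlgClosed k] (h : ρ.Cov P) (hi : (ρ.up ι).Irr) : AbsIrr P := by
  refine absIrr_of_irred (h.irred hi.of_up) fun z hz => ?_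
  obtain ⟨c, hc⟩ := hi.pt.schur (X := z.map ι) (by
    rintro _ ⟨g, B, c, -, hB, rfl⟩
    obtain ⟨B, hB', d, rfl⟩ := h.lift ⟨g, hB⟩
    rw [map_smul', smul_smul, mul_smul_comm, smul_mul_assoc, ← Matrix.map_mul, hz B hB',
      Matrix.map_mul])
  rw [← map_one' ι] at hc
  exact (exists_scal ι one_ne_zero hc).elim fun c h => ⟨c, h.2⟩

theorem Cov.irr (h : ρ.Cov P) (hi : AbsIrr P) : (ρ.up ι).Irr := by
  have key : ∀ (v : Vc k) (f : Mt F →ₗ[F] Mt F), v ≠ 0 → Function.Surjective f →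
      ¬ ∀ x ∈ P, ∃ c : k, (f x.1).map ι *ᵥ v = c • v := fun v f hv hf H => by
    have h1 : ∀ x : Mt F, ∃ c : k, x.map ι *ᵥ v = c • v := fun x => by
      obtain ⟨x, rfl⟩ := hf x
      refine spanAlg_induction (p := fun x => ∃ c : k, (f x).map ι *ᵥ v = c • v) H ⟨0, by simp⟩
        ?_ ?_ (hi x)
      · rintro x y ⟨c, hc⟩ ⟨d, hd⟩
        exact ⟨c + d, by rw [map_add, Matrix.map_add _ ι.map_add, add_mulVec, hc, hd, add_smul]⟩
      · rintro a x ⟨c, hc⟩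
        exact ⟨ι a * c, by rw [map_smul, map_smul', smul_mulVec, hc, smul_smul]⟩
    obtain ⟨a, b, c, rfl⟩ := ex3 v
    obtain ⟨c1, e1⟩ := h1 !![0, 0, 0; 1, 0, 0; 0, 0, 0]
    obtain ⟨c2, e2⟩ := h1 !![0, 0, 0; 0, 0, 0; 0, 1, 0]
    obtain ⟨c3, e3⟩ := h1 !![0, 0, 1; 0, 0, 0; 0, 0, 0]
    simp [eq3, mulVec, dotProduct, Fin.sum_univ_three] at e1 e2 e3 hv
    grind
  refine Irr.mk' (fun v hv => ?_) fun v hv => ?_
  · by_contra hc
    push Not at hc
    exact key v LinearMap.id hv Function.surjective_id fun x hx =>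
      hc _ ((h.mem x hx).imp fun g => up_of)
  · by_contra hc
    push Not at hc
    refine key v (transposeLinearEquiv _ _ F F).toLinearMap hv (transposeLinearEquiv _ _ F F).surjective
      fun x hx => (hc _ ((h.mem x hx).imp fun g => up_of)).imp fun c hc => ?_
    rw [← hc, ← mulVec_transpose]; rfl

variable (p : ℕ) [Fact p.Prime] [CharP k p] [IsAlgClosed k]

include p in
theorem Cov.scal [Finite F] [Finite Γ] (h : ρ.Cov P) (hs : (ρ.up ι).SA) (hr : ∀ x c, ¬ (ρ.up ι).RP x c)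
    {z : GL (Fin 3) F} (hz : z ∈ ⁅P, P⁆) (h1 : ρ.L 1 z.1) : z = 1 := by
  obtain ⟨π, -, hπ⟩ := h.hom
  rw [← map_subtype_commutator] at hz
  obtain ⟨z, hz, rfl⟩ := hz
  obtain ⟨c, hc⟩ := ρ.uniq ρ.one h1
  have hc : z.1.1 = c • 1 := hc
  have h3 : z ^ 3 = 1 := by
    have := h.det z.1 z.2
    ext1; ext1
    simp only [hc, det_smul, Fintype.card_fin, det_one, mul_one] at this
    simp [hc, smul_pow, this]
  have hcen : ∀ g : P, z * g = g * z := fun g => by ext1; ext1; simp [hc]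
  haveI : Fact (Nat.Prime 3) := ⟨by norm_num⟩
  obtain ⟨Q, hQ⟩ := (show IsPGroup 3 (zpowers z) from IsPGroup.of_card_dvd_pow (n := 1) (by
    rw [Nat.card_zpowers]; exact orderOf_dvd_of_pow_eq_one h3)).exists_le_sylow
  have ab : ∀ a b : Q, a * b = b * a := by
    have key : ∀ a b : Q, π b ∈ (ρ.up ι).T0 (π a) := fun a b => by
      by_cases h0 : Q.1.map π = ⊥
      · rw [show π b = 1 from mem_bot.1 (h0 ▸ mem_map_of_mem π b.2)]; exact one_mem _
      haveI := (nontrivial_iff_ne_bot _).2 h0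
      have hQ' := Q.2.map π
      haveI := hQ'.center_nontrivial
      obtain ⟨y, hy⟩ := exists_ne (1 : center (Q.1.map π))
      have y1 : ∀ a : Q, π a ∈ (ρ.up ι).T0 y.1.1 := fun a => by_contra fun hn => hr _ _ (rp_of
        (congrArg Subtype.val (mem_center_iff.1 y.2 ⟨_, mem_map_of_mem π a.2⟩)).symm hn)
      refine T0_ab p hs (g := y.1.1) (fun e => hy ?_) (y1 a) (y1 b)
      obtain ⟨n, hn⟩ := hQ' y.1
      have e1 : orderOf y.1 ∣ 2 := orderOf_dvd_of_pow_eq_one (by rw [sq]; exact Subtype.ext e)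
      have := Nat.dvd_gcd e1 (orderOf_dvd_of_pow_eq_one hn)
      rw [(show Nat.Coprime 2 (3 ^ n) from Nat.Coprime.pow_right _ (by norm_num)), Nat.dvd_one,
        orderOf_eq_one_iff] at this
      exact Subtype.ext this
    intro a b
    have := Pr.all (key a b) (up_of (hπ a)) (up_of (hπ b))
    rw [one_smul, ← Matrix.map_mul, ← Matrix.map_mul] at this
    ext1; ext1; ext1
    exact (map_inj ι this).symm
  letI : CommGroup Q := { (inferInstance : Group Q) with mul_comm := ab }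
  have e1 := MonoidHom.transfer_eq_pow (MonoidHom.id Q) z fun n g _ => by
    rw [mul_assoc, (show Commute z g from hcen g).pow_left n, inv_mul_cancel_left]
  rw [Abelianization.commutator_subset_ker _ hz] at e1
  have e2 : z ^ Q.1.index = 1 := congrArg Subtype.val e1.symm
  have := Nat.dvd_gcd (orderOf_dvd_of_pow_eq_one h3) (orderOf_dvd_of_pow_eq_one e2)
  rw [(Nat.Prime.coprime_iff_not_dvd (by norm_num)).2 Q.not_dvd_index, Nat.dvd_one,
    orderOf_eq_one_iff] at this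
  rw [this]; rfl

include ι in
theorem Cov.trace_inv (h : ρ.Cov P) (hz : ∀ z ∈ P, ρ.L 1 z.1 → z = 1) {B : GL (Fin 3) F}
    (hB : B ∈ P) {g : Γ} (hg : ρ.L g B.1) (H : (∃ s, s * g * s⁻¹ = g⁻¹) ∨ g ^ p = 1) :
    (B⁻¹).1.trace = B.1.trace := by
  rcases H with ⟨s, hs⟩ | hp
  · obtain ⟨C, hC, e⟩ := h.ex s
    have := ρ.mul (ρ.conj e C.mul_inv hg) hg
    rw [hs, inv_mul_cancel] at this
    have := hz (C * B * C⁻¹ * B) (P.mul_mem (P.mul_mem (P.mul_mem hC hB) (P.inv_mem hC)) hB) this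
    rw [← eq_inv_of_mul_eq_one_left this]
    exact trace_units_conj C B.1
  · have e := hz (B ^ p) (P.pow_mem hB p) (hp ▸ ρ.pow hg p)
    have key : ∀ C : GL (Fin 3) F, C ^ p = 1 → ι C.1.trace ^ p = (1 : Mt k).trace := fun C hC => by
      have := trace_pow_char p (C.1.map ι) 1
      rwa [pow_one, ← Matrix.map_pow, ← Units.val_pow_eq_pow_val, hC, Units.val_one, map_one',
        trace_map, eq_comm] at this
    exact ι.injective (frobenius_inj k p ((key _ (by rw [inv_pow, e, inv_one])).trans (key _ e).symm))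

include p in
theorem Real.form [Finite F] [Finite Γ] (h : ρ.Cov P) (hP : ⁅(⊤ : Subgroup Γ), (⊤ : Subgroup Γ)⁆ = ⊤)
    (hs : (ρ.up ι).SA) (hr : (ρ.up ι).Real) {B : GL (Fin 3) F} (hB : B ∈ ⁅P, P⁆) :
    (B⁻¹).1.trace = B.1.trace := by
  obtain ⟨g, hg⟩ := (h.comm hP).mem B hB
  refine (h.comm hP).trace_inv (ι := ι) p (fun z hz => h.scal p hs hr.rp hz) hB hg ?_
  by_cases h2 : g * g = 1
  · exact Or.inl ⟨1, by simpa using eq_inv_of_mul_eq_one_left h2⟩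
  · exact (reg_or_jb p hs h2).imp (hr.real g) fun hj => hj.pow p hs (self_mem_T0 g)

theorem real_case [Finite F] [Finite Γ] (hp : p ≠ 2) (h : ρ.SLr) {T : Subgroup Γ} (hT : T.Normal)
    (hP : ⁅T, T⁆ = T) (hi : ((ρ.up ι).sub T).Irr) (hs : ((ρ.up ι).sub T).SA)
    (hr : ((ρ.up ι).sub T).Real) : ∃ j : Γ →* PGL(2, F), Function.Injective j := by
  have h2 : (2 : F) ≠ 0 := fun e => two_ne (k := k) hp (by rw [← map_ofNat ι, e, map_zero])
  have c1 := (h.sub T).cov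
  have c2 := (c1.comm (perfect_top hP)).absIrr (ι := ι) hi
  obtain ⟨G, hG, hf⟩ := c2.exists_gram_of_trace (σ := RingEquiv.refl F) (fun _ => rfl)
    fun x hx => Real.form (ι := ι) p c1 (perfect_top hP) hs hr hx
  have hd : G.det ≠ 0 := ((isUnit_iff_isUnit_det G).1 hG).ne_zero
  have hsym : Gᵀ = G := (c2.symm_or_skew hG hf).resolve_right fun e => by
    have := congrArg Matrix.det e
    rw [det_transpose, det_neg] at this
    simp only [Fintype.card_fin] at this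
    exact mul_ne_zero h2 hd (by linear_combination this)
  have hn : GNorms ρ.hat (ρ.sub T).hat := fun A ⟨⟨g, hg⟩, a⟩ B ⟨⟨t, ht⟩, b⟩ =>
    ⟨⟨⟨g * t * g⁻¹, hT.conj_mem _ t.2 g⟩, ρ.conj hg A.mul_inv ht⟩, by
      rw [Units.val_mul, Units.val_mul, det_units_conj, b]⟩
  have hn' : GNorms ρ.hat ⁅(ρ.sub T).hat, (ρ.sub T).hat⁆ := fun A hA B hB => by
    have : (ρ.sub T).hat.map (MulAut.conj A).toMonoidHom ≤ (ρ.sub T).hat := by
      rintro _ ⟨x, hx, rfl⟩; exact hn A hA x hx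
    exact commutator_mono this this (map_commutator _ _ (MulAut.conj A).toMonoidHom ▸
      mem_map_of_mem (MulAut.conj A).toMonoidHom hB)
  refine PR.so3_hom (ρ := ρ) h2 hsym hd fun g => ?_
  obtain ⟨B, hB, e⟩ := h.cov.ex g
  obtain ⟨c, hc⟩ := mem_similarityGroup_gf.1 (c2.le_similarityGroup hn' hG hf hB)
  exact ⟨B, c, e, by rwa [map_refl] at hc⟩

end PR

end Cfsg.Agent.H6.M3
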