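import Cfsg.Agent.H6.N3

/-! The linear and the unitary case: identification and field conditions. -/

set_option autoImplicit false

namespace Cfsg.Agent.H6.M3

open Matrix Subgroup
open scoped commutatorElement MatrixGroups

variable {k : Type*} [Field k] {F : Type*} [Field F]

theorem herm_iff (p n : ℕ) [Fact p.Prime] [CharP k p] (y : Mt k) :
    (∀ u v, hermForm 3 k (p ^ n) (y *ᵥ u) (y *ᵥ v) = hermForm 3 k (p ^ n) u v) ↔
      (y.map (iterateFrobenius k p n))ᵀ * y = 1 := by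
  have e : ∀ u v, hermForm 3 k (p ^ n) u v = (iterateFrobenius k p n ∘ v) ⬝ᵥ u := fun u v => by
    simp [hermForm, dotProduct, iterateFrobenius_def, mul_comm]
  have e' : ∀ u v, hermForm 3 k (p ^ n) (y *ᵥ u) (y *ᵥ v) = (iterateFrobenius k p n ∘ v) ⬝ᵥ
      ((y.map (iterateFrobenius k p n))ᵀ * y) *ᵥ u := fun u v => by
    rw [e, ← map_mulVec', ← mulVec_mulVec, dotProduct_mulVec _ _ (y *ᵥ u), vecMul_transpose]
  simp only [e']
  refine ⟨fun h => ?_, fun h u v => by rw [h, one_mulVec, e]⟩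
  ext i j
  have := h (Pi.single j 1) (Pi.single i 1)
  rw [e, show iterateFrobenius k p n ∘ Pi.single i 1 = Pi.single i 1 by
    ext l; by_cases h : l = i <;> simp [h]] at this
  simpa [one_apply, Pi.single_apply, eq_comm] using this

theorem pow_iter {t η : k} {Q : ℕ} (h : t ^ Q = η * t) (h' : η ^ Q = η) (j : ℕ) :
    t ^ Q ^ j = η ^ j * t := by
  induction j with
  | zero => simp
  | succ j ih => rw [pow_succ, pow_mul, ih, mul_pow, ← pow_mul, mul_comm j, pow_mul, h', h]; ring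

theorem three_dvd_of {t η : k} {Q j : ℕ} (h : t ^ Q = η * t) (h' : η ^ Q = η) (h0 : t ≠ 0)
    (h1 : η ≠ 1) (h3 : η ^ 3 = 1) (e : t ^ Q ^ j = t) : 3 ∣ j := by
  rw [pow_iter h h', mul_eq_right₀ h0] at e
  by_contra hc
  exact h1 (eq_one_of_cube h3 e hc)

theorem card_pow_of_le [Finite F] {K : Type*} [Field K] (e : K →+* k) (ι : F →+* k)
    (h : e.fieldRange ≤ ι.fieldRange) : ∃ j, Nat.card F = Nat.card K ^ j :=
  FF.card_pow (ι.rangeRestrictFieldEquiv.symm.toRingHom.comp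
    ((Subfield.inclusion h).comp e.rangeRestrictField))

theorem exists_sp (h2 : (2 : k) ≠ 0) {A : Mt k} (h : A ≠ 0) : ∃ Y : Mt k, Y.det = 1 ∧ Yᵀ * Y = 1 ∧
    (∀ σ : k →+* k, Y.map σ = Y) ∧ (∀ (L : Subfield k) i j, Y i j ∈ L) ∧ (A * Y).trace ≠ 0 := by
  by_contra hc
  push Not at hc
  have key : ∀ a b c d e f g h i : ℤ, (!![a, b, c; d, e, f; g, h, i]).det = 1 →
      (!![a, b, c; d, e, f; g, h, i])ᵀ * !![a, b, c; d, e, f; g, h, i] = 1 →
      (A * !![(a : k), b, c; d, e, f; g, h, i]).trace = 0 := fun a b c d e f g h i h1 h2 => by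
    have e0 : !![(a : k), b, c; d, e, f; g, h, i] =
        (!![a, b, c; d, e, f; g, h, i]).map (Int.castRingHom k) := by simp [eq9]
    refine hc _ ?_ ?_ (fun σ => by simp [eq9]) fun L i j => by
      fin_cases i <;> fin_cases j <;> simp
    · rw [e0, ← RingHom.mapMatrix_apply, ← RingHom.map_det, h1, map_one]
    · rw [e0, ← transpose_map, ← Matrix.map_mul, h2]; simp
  have k1 := key 1 0 0 0 1 0 0 0 1 (by decide) (by decide)
  have k2 := key 1 0 0 0 (-1) 0 0 0 (-1) (by decide) (by decide)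
  have k3 := key (-1) 0 0 0 1 0 0 0 (-1) (by decide) (by decide)
  have k4 := key 0 1 0 0 0 1 1 0 0 (by decide) (by decide)
  have k5 := key 0 1 0 0 0 (-1) (-1) 0 0 (by decide) (by decide)
  have k6 := key 0 (-1) 0 0 0 1 (-1) 0 0 (by decide) (by decide)
  have k7 := key 0 0 1 1 0 0 0 1 0 (by decide) (by decide)
  have k8 := key 0 0 1 (-1) 0 0 0 (-1) 0 (by decide) (by decide)
  have k9 := key 0 0 (-1) 1 0 0 0 (-1) 0 (by decide) (by decide)
  obtain ⟨a, b, c, d, e, f, g, h', i, rfl⟩ := ex9 A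
  simp only [mul_fin_three, trm3] at k1 k2 k3 k4 k5 k6 k7 k8 k9
  push_cast at k1 k2 k3 k4 k5 k6 k7 k8 k9
  refine h ?_
  simp only [eq9, of_apply, cons_val', cons_val_zero, cons_val_one, cons_val, cons_val_fin_one,
    Matrix.zero_apply]
  grind

theorem adj_smul3 (c : k) (A : Mt k) : (c • A).adjugate = c ^ 2 • A.adjugate := by
  simp [adjugate_smul]

namespace PR

variable {Γ : Type*} [Group Γ] {ρ : PR Γ k}

theorem cube_of {g : Γ} {A B : Mt k} (hA : ρ.L g A) (hB : ρ.L g B) (h1 : A.det = 1) (h2 : B.det = 1) :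
    ∃ c : k, c ^ 3 = 1 ∧ B = c • A := by
  obtain ⟨c, rfl⟩ := ρ.uniq hA hB
  exact ⟨c, by simpa [h1] using h2, rfl⟩

variable (ρ) in
/-- trace conditions -/
structure TrF (L : Subfield k) : Prop where
  tr : ∀ A, ρ.In A → A.det = 1 → ∃ c : k, c ^ 3 = 1 ∧ c * A.trace ∈ L ∧ c ^ 2 * A.adjugate.trace ∈ L
  pr : ∀ g h c, ρ.Pr g h c → c ∈ L

theorem TrF.cj {L : Subfield k} (h : ρ.TrF L) {B B' : Mt k} (hB : B * B' = 1) : (ρ.cj hB).TrF L := by
  refine ⟨fun A hA h1 => ?_, fun g g' c H => h.pr g g' c ((pr_cj hB).1 H)⟩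
  have e := congrArg Matrix.det hB
  rw [det_mul, det_one] at e
  have := h.tr _ hA (by rw [det_mul, det_mul, h1, mul_one, e])
  rwa [trace_mul_cycle, mul_eq_one_comm.1 hB, one_mul, adjugate_mul_distrib, adjugate_mul_distrib,
    trace_mul_comm, mul_assoc, ← adjugate_mul_distrib, mul_eq_one_comm.1 hB, adjugate_one,
    mul_one] at this

theorem SLr.trF {ρ : PR Γ F} (h : ρ.SLr) (ι : F →+* k) : (ρ.up ι).TrF ι.fieldRange := by
  refine ⟨fun A ⟨g, hA⟩ h1 => ?_, fun g g' c H => ?_⟩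
  · obtain ⟨B, hB, e⟩ := h g
    obtain ⟨c, hc, e'⟩ := cube_of hA (up_of hB) h1 (by rw [det_map, e, map_one])
    refine ⟨c, hc, ⟨B.trace, ?_⟩, B.adjugate.trace, ?_⟩
    · rw [← trace_map, e', trace_smul, smul_eq_mul]
    · rw [← trace_map, ← RingHom.mapMatrix_apply, RingHom.map_adjugate, RingHom.mapMatrix_apply, e',
        adj_smul3, trace_smul, smul_eq_mul]
  · obtain ⟨A, hA⟩ := ρ.ex g
    obtain ⟨B, hB⟩ := ρ.ex g'
    have := H.all (up_of hA) (up_of hB)
    rw [← Matrix.map_mul, ← Matrix.map_mul] at this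
    obtain ⟨c, rfl, -⟩ := exists_scal ι (ne_zero_of_det (ρ.det (ρ.mul hA hB))) this
    exact ⟨c, rfl⟩

theorem iso_center [IsAlgClosed k] {G : Type*} [Group G] (m : G →* Mt k) (hm : Function.Injective m)
    (hi : ρ.NoPt) (h1 : ∀ g, ∃ y, ρ.L g (m y)) (h2 : ∀ y, ρ.In (m y)) :
    Nonempty (Γ ≃* G ⧸ center G) := by
  refine equiv_of (ρ := ρ) (ofHom m (QuotientGroup.mk' (center G)) (QuotientGroup.mk'_surjective _)
    fun x => ?_) (fun g => (h1 g).elim fun y hy => ⟨_, hy, _, ofHom_L y⟩) fun g => ?_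
  · rw [QuotientGroup.mk'_apply, QuotientGroup.eq_one_iff, mem_center_iff]
    refine ⟨fun h => hi.schur fun A ⟨g, hA⟩ => ?_, fun ⟨c, hc⟩ y => hm (by simp [hc])⟩
    obtain ⟨y, hy⟩ := h1 g
    obtain ⟨c, rfl⟩ := ρ.uniq hy hA
    rw [mul_smul_comm, smul_mul_assoc, ← map_mul, ← h y, map_mul]
  · obtain ⟨y, rfl⟩ := QuotientGroup.mk'_surjective _ g
    exact ⟨_, ofHom_L y, h2 y⟩

theorem tw_split (tw : Mt k → k → Prop) (m : ℕ)
    (ex : ∀ g, ∃ A η, ρ.L g A ∧ A.det = 1 ∧ tw A η)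
    (mul : ∀ A B η η', tw A η → tw B η' → tw (A * B) (η * η'))
    (cube : ∀ A η, A.det = 1 → tw A η → η ^ 3 = 1)
    (smul : ∀ A η c, tw A η → tw (c • A) (c ^ m * η))
    (uniq : ∀ A η η', A.det = 1 → tw A η → tw A η' → η = η') :
    ∃ f : Γ →* kˣ, (∀ g ∈ f.ker, ∃ A, ρ.L g A ∧ A.det = 1 ∧ tw A 1) ∧
      (∀ g A, ρ.L g A → A.det = 1 → tw A 1 → g ∈ f.ker) ∧ (f.ker = ⊤ ∨
      3 ∣ m ∧ f.ker.index = 3 ∧ ∃ A η, ρ.In A ∧ A.det = 1 ∧ tw A η ∧ η ≠ 1) := by
  by_cases h3 : 3 ∣ m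
  · choose r η h1 h2 h4 using ex
    have key : ∀ g A e, ρ.L g A → A.det = 1 → tw A e → e = η g := fun g A e hA d t => by
      obtain ⟨c, hc, rfl⟩ := cube_of (h1 g) hA (h2 g) d
      obtain ⟨m, rfl⟩ := h3
      simpa [pow_mul, hc] using uniq _ _ _ d t (smul _ _ c (h4 g))
    have h5 : ∀ g, η g ≠ 0 := fun g e => by simpa [e] using cube _ _ (h2 g) (h4 g)
    let f : Γ →* kˣ := MonoidHom.mk' (fun g => Units.mk0 (η g) (h5 g)) fun a b => Units.ext
      (key _ _ _ (ρ.mul (h1 a) (h1 b)) (by rw [det_mul, h2, h2, one_mul])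
        (mul _ _ _ _ (h4 a) (h4 b))).symm
    have hf : ∀ g, g ∈ f.ker ↔ η g = 1 := fun g => Units.ext_iff
    refine ⟨f, fun g hg => ⟨_, h1 g, h2 g, (hf g).1 hg ▸ h4 g⟩,
      fun g A hA d t => (hf g).2 (key g A 1 hA d t).symm, or_iff_not_imp_left.2 fun hne => ?_⟩
    obtain ⟨g, hg⟩ : ∃ g, g ∉ f.ker := by
      by_contra hc
      push Not at hc
      exact hne (eq_top_iff.2 fun g _ => hc g)
    refine ⟨h3, ?_, _, _, ⟨g, h1 g⟩, h2 g, h4 g, fun e => hg ((hf g).2 e)⟩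
    have h6 : ∀ g, f g ^ 3 = 1 := fun g => Units.ext (cube _ _ (h2 g) (h4 g))
    have h7 : f.range ≤ rootsOfUnity 3 k := by rintro _ ⟨g, rfl⟩; exact h6 g
    haveI : Fact (Nat.Prime 3) := ⟨by norm_num⟩
    have h8 := orderOf_dvd_natCard (⟨f g, g, rfl⟩ : f.range)
    rw [orderOf_eq_prime (x := (⟨f g, g, rfl⟩ : f.range)) (p := 3) (Subtype.ext (h6 g))
      fun e => hg (congrArg Subtype.val e)] at h8
    have h9 := card_le_of_le h7
    have h10 := card_rootsOfUnity k 3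
    haveI := Finite.of_injective _ (inclusion_injective h7)
    have : 0 < Nat.card f.range := Nat.card_pos
    rw [index_ker]
    omega
  · refine ⟨1, fun g _ => ?_, fun _ _ _ _ _ => rfl, Or.inl MonoidHom.ker_one⟩
    obtain ⟨A, η, h1, h2, h4⟩ := ex g
    have h5 := cube _ _ h2 h4
    have h6 : η ≠ 0 := fun e => by simp [e] at h5
    refine ⟨η ^ (2 * m) • A, ρ.smul h1 (pow_ne_zero _ h6), ?_, ?_⟩
    · rw [det_smul, h2, Fintype.card_fin, ← pow_mul, mul_comm (2 * m), pow_mul, h5]; simp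
    · convert smul _ _ (η ^ (2 * m)) h4 using 1
      obtain ⟨j, hj⟩ : 3 ∣ 2 * m * m + 1 := by
        rcases (by omega : m % 3 = 1 ∨ m % 3 = 2) with h | h <;>
          simp [Nat.dvd_iff_mod_eq_zero, Nat.add_mod, Nat.mul_mod, h]
      rw [← pow_mul, ← pow_succ, hj, pow_mul, h5, one_pow]

theorem Lin.le_of {L F0 : Subfield k} (h : ρ.Lin F0) (hT : ρ.TrF L) : F0 ≤ L := fun a ha => by
  obtain ⟨c, h1, h2, h3⟩ := hT.tr !![0, 0, 1; 1, 0, -1; 0, 1, a] (h.le _ (fun i j => by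
    fin_cases i <;> fin_cases j <;> simp [ha]) (by simp [dm3])) (by simp [dm3])
  have := L.mul_mem h2 h3
  simp [adjugate_fin_three, trm3] at this
  convert this using 1
  linear_combination (-a) * h1

theorem _root_.Cfsg.Agent.H6.M3.tw_uni {σ : k →+* k} {A : Mt k} {η : k} (d : A.det = 1)
    (h : (A.map σ)ᵀ * A = η • 1) :
    A.map σ = η • A.adjugateᵀ ∧ A.adjugate.map σ = η ^ 2 • Aᵀ := by
  have h1 : A.map σ = η • A.adjugateᵀ := by
    rw [← transpose_smul, ← transpose_transpose (A.map σ)]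
    congr 1
    exact cancel_right (A := A) (by simp [d]) (by rw [h, smul_mul_assoc, adjugate_mul, d, one_smul])
  refine ⟨h1, ?_⟩
  rw [← RingHom.mapMatrix_apply, RingHom.map_adjugate, RingHom.mapMatrix_apply, h1, adj_smul3,
    ← adjugate_transpose, adjugate_adjugate _ (by simp), d]
  simp

theorem Uni.dg {σ : k →+* k} (h : ρ.Uni σ) {a b c : k} (ha : σ a * a = 1) (hb : σ b * b = 1)
    (hc : σ c * c = 1) (d : a * b * c = 1) : ρ.In (dg a b c) :=
  h.le _ (by simp [dm3, d]) (by simp [eq9, mul_apply, Fin.sum_univ_three, ha, hb, hc])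

theorem Uni.cube_mem {σ : k →+* k} {L : Subfield k} (h : ρ.Uni σ) (hT : ρ.TrF L) {c : k}
    (h1 : c ^ 3 = 1) (h2 : σ c * c = 1) : c ∈ L := by
  obtain ⟨g, hg⟩ := h.dg (a := 1) (b := c) (c := c ^ 2) (by simp) h2
    (by rw [map_pow, ← mul_pow, h2, one_pow]) (by linear_combination h1)
  obtain ⟨g', hg'⟩ := h.le !![0, 0, 1; 1, 0, 0; 0, 1, 0] (by simp [dm3])
    (by simp [eq9, mul_apply, Fin.sum_univ_three])
  exact hT.pr g' g c ⟨_, _, hg', hg, by simp only [mul_fin_three, sm3, em3]; grind⟩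

theorem Uni.mu {p : ℕ} [Fact p.Prime] [CharP k p] (hp : p ≠ 2) {n : ℕ} {L : Subfield k}
    (h : ρ.Uni (iterateFrobenius k p n)) (hT : ρ.TrF L) {a : k} (ha : a ^ (p ^ n + 1) = 1) :
    a ∈ L := by
  have h2 : (2 : k) ≠ 0 := two_ne hp
  set σ := iterateFrobenius k p n
  have e1 : σ a * a = 1 := by rw [iterateFrobenius_def, ← pow_succ, ha]
  have e2 : σ (σ a) * σ a = 1 := by rw [← map_mul, e1, map_one]
  have e3 : σ (σ a ^ 2) * σ a ^ 2 = 1 := by rw [map_pow, ← mul_pow, e2, one_pow]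
  obtain ⟨c, c1, c2, -⟩ := hT.tr _ (h.dg (a := a) (b := -a) (c := -σ a ^ 2) e1 (by simpa using e1)
    (by simpa using e3) (by grind)) (by rw [dm3]; grind)
  obtain ⟨d, d1, d2, d3⟩ := hT.tr _ (h.dg (a := a) (b := a) (c := σ a ^ 2) e1 e1 e3 (by grind))
    (by rw [dm3]; grind)
  simp only [adjugate_fin_three_of, trm3] at c2 d2 d3
  generalize σ a = b at *
  have a3 : a ^ 3 ∈ L := by
    have := L.mul_mem (L.inv_mem (natCast_mem L 2)) (L.add_mem (L.add_mem (L.sub_mem (L.pow_mem d2 3)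
      (L.mul_mem (natCast_mem L 3) (L.mul_mem d2 d3))) (L.pow_mem c2 3)) (natCast_mem L 3))
    convert this using 1
    push_cast
    field_simp
    grind
  by_cases h3 : 3 ∣ p ^ n + 1
  · have c3 : c ∈ L := h.cube_mem hT c1 (by
      obtain ⟨m, hm⟩ := h3
      rw [iterateFrobenius_def, ← pow_succ, hm, pow_mul, c1, one_pow])
    convert L.neg_mem (L.mul_mem a3 (L.mul_mem (L.pow_mem c3 2) c2)) using 1
    grind
  · obtain ⟨j, -, hj⟩ := Nat.exists_mul_mod_eq_one_of_coprime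
      ((Nat.Prime.coprime_iff_not_dvd Nat.prime_three).2 h3) (by
        have := Nat.one_le_pow n p (Fact.out : p.Prime).pos; omega)
    have := L.pow_mem a3 j
    rwa [← pow_mul, pow_eq_pow_mod _ ha, hj, pow_one] at this

theorem _root_.Cfsg.Agent.H6.M3.top_of_mu [Finite F] {q : ℕ} (hq : Nat.card F = q ^ 2)
    {L : Subfield F} (h : ∀ a : F, a ^ (q + 1) = 1 → a ∈ L) : L = ⊤ := by
  by_contra hne
  have h1 := FF.sq_le_of_ne_top hne
  rw [hq, Nat.pow_le_pow_iff_left two_ne_zero] at h1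
  have h2 : 2 ≤ q := by
    have := Finite.one_lt_card (α := F)
    by_contra hc
    interval_cases q <;> omega
  obtain ⟨g, hg⟩ := IsCyclic.exists_ofOrder_eq_natCard (α := Fˣ)
  obtain ⟨r, rfl⟩ := Nat.exists_eq_add_of_le' (show 1 ≤ q by omega)
  rw [Nat.card_units, hq, show (r + 1) ^ 2 - 1 = r * (r + 2) by
    rw [show (r + 1) ^ 2 = r * (r + 2) + 1 by ring, Nat.add_sub_cancel]] at hg
  have h3 : orderOf (g ^ r) = r + 2 := by
    rw [orderOf_pow_of_dvd (by omega) (hg ▸ dvd_mul_right _ _), hg, Nat.mul_div_cancel_left _ (by omega)]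
  have h4 : (g ^ r).1 ∈ L := h _ (by rw [← Units.val_pow_eq_pow_val, ← h3, pow_orderOf_eq_one]; rfl)
  have h5 := orderOf_dvd_natCard (Units.mk0 (⟨_, h4⟩ : L) fun e => (g ^ r).ne_zero (congrArg Subtype.val e))
  rw [← orderOf_units, ← orderOf_injective L.subtype.toMonoidHom L.subtype.injective] at h5
  change orderOf (g ^ r).1 ∣ _ at h5
  rw [orderOf_units, h3, Nat.card_units] at h5
  have := Finite.one_lt_card (α := L)
  have := Nat.le_of_dvd (by omega) h5
  omega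

variable (p : ℕ) [Fact p.Prime] [CharP k p] [IsAlgClosed k] [Finite Γ] [Finite F]
  {ι : F →+* k} {α : ℕ} {K : Subgroup Γ}

theorem ker_noPt (hi : ρ.NoPt) (hK : ⁅K, K⁆ = K) (h0 : K ≠ ⊥) (f : Γ →* kˣ) : (ρ.sub f.ker).NoPt :=
  hi.normal inferInstance (fun g hg => H9.perfect_hom_eq_one hK (f.comp K.subtype) ⟨g, hg⟩) hK h0

theorem Lin.case (hp : p ≠ 2) (hF : Nat.card F = p ^ α) (hT : ρ.TrF ι.fieldRange) (hi : ρ.NoPt)
    (hK : ⁅K, K⁆ = K) (h0 : K ≠ ⊥) {F0 : Subfield k} (h : ρ.Lin F0) :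
    (∃ (K : Type) (_ : Field K) (_ : Fintype K) (β : ℕ), Fintype.card K = p ^ β ∧ β ∣ α ∧
      Nonempty (Γ ≃* PSL(3, K))) ∨
    ∃ (K : Type) (_ : Field K) (_ : Fintype K) (β : ℕ), Fintype.card K = p ^ β ∧ 3 ∣ p ^ β - 1 ∧
      3 * β ∣ α ∧ ∃ L : Subgroup Γ, L.index = 3 ∧ Nonempty (L ≃* PSL(3, K)) := by
  haveI := h.fin
  obtain ⟨K0, _, _, e, rfl, -⟩ := exists_model' F0
  haveI : CharP K0 p := e.charP e.injective p
  obtain ⟨β, -, hβ⟩ := FF.card_eq_pow (F := K0) p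
  have hle := h.le_of hT
  obtain ⟨j, hj⟩ := card_pow_of_le e ι hle
  have hα : α = β * j := by
    rwa [hF, hβ, ← pow_mul, Nat.pow_right_inj (Fact.out : p.Prime).one_lt] at hj
  set θ := iterateFrobenius k p β
  have hθ : ∀ x, x ∈ e.fieldRange ↔ θ x = x := fun x => by
    rw [mem_range_iff, hβ, iterateFrobenius_def]
  have hq : p ^ β - 1 + 1 = p ^ β := Nat.sub_add_cancel (Nat.pos_of_ne_zero (by
    rw [← hβ]; exact Nat.card_pos.ne'))
  obtain ⟨f, f1, f2, f3⟩ := tw_split (ρ := ρ) (fun A η => A.map θ = η • A) (p ^ β - 1)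
    (fun g => by
      obtain ⟨A, hA, d⟩ := ρ.ex_det g
      obtain ⟨c, hc, h1⟩ := h.ge A ⟨g, hA⟩
      refine ⟨A, c / θ c, hA, d, smul_right_injective _ ((map_ne_zero θ).2 hc) ?_⟩
      simp only
      rw [← map_smul', smul_smul, mul_div_cancel₀ _ ((map_ne_zero θ).2 hc)]
      ext i j; exact (hθ _).1 (h1 i j))
    (fun A B η η' h1 h2 => by rw [Matrix.map_mul, h1, h2, smul_mul_smul_comm])
    (fun A η d h1 => by simpa [det_map, d] using (congrArg Matrix.det h1).symm)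
    (fun A η c h1 => by
      rw [map_smul', h1, smul_smul, smul_smul, iterateFrobenius_def, ← hq, pow_succ,
        Nat.add_sub_cancel, mul_right_comm])
    (fun A η η' d h1 h2 => smul_cancel (by simp [d]) (h1.symm.trans h2))
  have iso : Nonempty (f.ker ≃* PSL(3, K0)) := iso_center (ρ := ρ.sub f.ker)
    (e.mapMatrix.toMonoidHom.comp (slToMat 3 K0))
    (fun a b hab => Subtype.ext (map_inj e hab)) (ker_noPt hi hK h0 f) (fun g => by
      obtain ⟨A, h1, h2, h3⟩ := f1 g g.2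
      choose y hy using fun i j => (hθ (A i j)).2 (by simpa using congrFun (congrFun h3 i) j)
      obtain rfl : A = (Matrix.of y).map e := by ext i j; exact (hy i j).symm
      exact ⟨⟨Matrix.of y, e.injective (by rw [← det_map, h2, map_one])⟩, h1⟩) fun y => by
      have d : (y.1.map e).det = 1 := by rw [det_map, y.2, map_one]
      obtain ⟨g, hg⟩ := h.le (y.1.map e) (fun i j => ⟨_, rfl⟩) d
      exact ⟨⟨g, f2 g _ hg d (by ext i j; simpa using (hθ _).1 ⟨_, rfl⟩)⟩, hg⟩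
  rw [Nat.card_eq_fintype_card] at hβ
  rcases f3 with f3 | ⟨h3, f3, A, η, hA, d, t, h1⟩
  · exact Or.inl ⟨K0, inferInstance, inferInstance, β, hβ, ⟨j, hα⟩,
      iso.map fun i => topEquiv.symm.trans ((MulEquiv.subgroupCongr f3.symm).trans i)⟩
  refine Or.inr ⟨K0, inferInstance, inferInstance, β, hβ, h3, ?_, _, f3, iso⟩
  obtain ⟨Y, y1, -, y2, y3, y4⟩ := exists_sp (two_ne hp) (ne_zero_of_det (A := A) (by simp [d]))
  have c3 : ∀ c : k, c ^ 3 = 1 → c ^ p ^ β = c := fun c hc => by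
    obtain ⟨m, hm⟩ := h3
    rw [← hq, hm, pow_succ, pow_mul, hc]; simp
  obtain ⟨c, c1, c2, -⟩ := hT.tr _ (hA.mul (h.le Y (y3 _) y1)) (by rw [det_mul, d, y1, one_mul])
  have c0 : c ≠ 0 := by rintro rfl; simp at c1
  have t1 : (A * Y).trace ∈ ι.fieldRange := by
    simpa [c0] using ι.fieldRange.mul_mem (ι.fieldRange.inv_mem (hle ((hθ c).2 (c3 c c1)))) c2
  have t2 : (A * Y).trace ^ p ^ β = η * (A * Y).trace := by
    rw [← iterateFrobenius_def, ← trace_map, Matrix.map_mul, y2, t, smul_mul_assoc, trace_smul,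
      smul_eq_mul]
  have e3 : η ^ 3 = 1 := by simpa [det_map, d] using (congrArg Matrix.det t).symm
  rw [mem_range_iff, hj, Nat.card_eq_fintype_card, hβ] at t1
  obtain ⟨i, rfl⟩ := three_dvd_of t2 (c3 η e3) y4 h1 e3 t1
  exact ⟨i, by rw [hα]; ring⟩

theorem Uni.case (hp : p ≠ 2) (hF : Nat.card F = p ^ α) (hT : ρ.TrF ι.fieldRange) (hi : ρ.NoPt)
    (hK : ⁅K, K⁆ = K) (h0 : K ≠ ⊥) {n : ℕ} (hn : n ≠ 0) (h : ρ.Uni (iterateFrobenius k p n)) :
    (∃ (K : Type) (_ : Field K) (_ : Fintype K) (β : ℕ), Fintype.card K = p ^ (2 * β) ∧ 2 * β ∣ α ∧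
      Nonempty (Γ ≃* PSU 3 K (p ^ β))) ∨
    ∃ (K : Type) (_ : Field K) (_ : Fintype K) (β : ℕ), Fintype.card K = p ^ (2 * β) ∧
      3 ∣ p ^ β + 1 ∧ 6 * β ∣ α ∧ ∃ L : Subgroup Γ, L.index = 3 ∧ Nonempty (L ≃* PSU 3 K (p ^ β)) := by
  have hβ := GaloisField.card p (2 * n) (by omega)
  letI := ZMod.algebra k p
  let e : GaloisField p (2 * n) →+* k :=
    (IsAlgClosed.lift : GaloisField p (2 * n) →ₐ[ZMod p] k).toRingHom
  letI := Fintype.ofFinite (GaloisField p (2 * n))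
  have hle : e.fieldRange ≤ ι.fieldRange := by
    rintro _ ⟨x, rfl⟩
    have := top_of_mu (q := p ^ n) (by rw [hβ, ← pow_mul, mul_comm]) (L := ι.fieldRange.comap e)
      fun a ha => h.mu hp hT (by rw [← map_pow, ha, map_one])
    exact (this ▸ Subfield.mem_top x : x ∈ ι.fieldRange.comap e)
  obtain ⟨j, hj⟩ := card_pow_of_le e ι hle
  have hα : α = 2 * n * j := by
    rwa [hF, hβ, ← pow_mul, Nat.pow_right_inj (Fact.out : p.Prime).one_lt] at hj
  set σ := iterateFrobenius k p n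
  have hσ : ∀ x, σ (σ x) = x ^ p ^ (2 * n) := fun x => by
    rw [iterateFrobenius_def, iterateFrobenius_def, ← pow_mul, ← pow_add, two_mul]
  have hθ : ∀ x, x ∈ e.fieldRange ↔ σ (σ x) = x := fun x => by rw [mem_range_iff, hβ, hσ]
  obtain ⟨f, f1, f2, f3⟩ := tw_split (ρ := ρ) (fun A η => (A.map σ)ᵀ * A = η • 1) (p ^ n + 1)
    (fun g => by
      obtain ⟨A, hA, d⟩ := ρ.ex_det g
      obtain ⟨c, hc, h1⟩ := h.ge A ⟨g, hA⟩
      have h2 := mul_ne_zero ((map_ne_zero σ).2 hc) hc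
      refine ⟨A, (σ c * c)⁻¹, hA, d, smul_right_injective _ h2 ?_⟩
      simp only
      rw [smul_smul, mul_inv_cancel₀ h2, one_smul, ← h1, map_smul', transpose_smul,
        smul_mul_smul_comm])
    (fun A B η η' h1 h2 => by
      rw [Matrix.map_mul, transpose_mul, mul_assoc, ← mul_assoc _ A, h1, smul_mul_assoc, one_mul,
        mul_smul_comm, h2, smul_smul])
    (fun A η d h1 => by simpa [det_map, d] using (congrArg Matrix.det h1).symm)
    (fun A η c h1 => by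
      rw [map_smul', transpose_smul, smul_mul_smul_comm, h1, smul_smul, iterateFrobenius_def,
        pow_succ])
    (fun A η η' d h1 h2 => smul_cancel (A := 1) (by simp) (h1.symm.trans h2))
  have hm : ∀ y : Mt (GaloisField p (2 * n)), (y.map (iterateFrobenius _ p n))ᵀ * y = 1 ↔
      ((y.map e).map σ)ᵀ * y.map e = (1 : k) • 1 := fun y => by
    rw [show (y.map e).map σ = (y.map (iterateFrobenius _ p n)).map e by
      ext i j; simp [σ, iterateFrobenius_def], ← transpose_map (f := e), ← Matrix.map_mul, one_smul,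
      ← map_one' e]
    exact ⟨fun h => by rw [h], map_inj e⟩
  have iso : Nonempty (f.ker ≃* PSU 3 (GaloisField p (2 * n)) (p ^ n)) := iso_center (ρ := ρ.sub f.ker)
    (e.mapMatrix.toMonoidHom.comp ((slToMat 3 _).comp (Cfsg.SU 3 _ (p ^ n)).subtype))
    (fun a b hab => Subtype.ext (Subtype.ext (map_inj e hab))) (ker_noPt hi hK h0 f) (fun g => by
      obtain ⟨A, h1, h2, h3⟩ := f1 g g.2
      obtain ⟨h4, h5⟩ := tw_uni h2 h3
      choose y hy using fun i j => (hθ (A i j)).2 (by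
        have e1 := congrFun (congrFun h4 i) j
        have e2 := congrFun (congrFun h5 j) i
        simp only [map_apply, one_smul, one_pow, transpose_apply] at e1 e2
        rw [e1, e2])
      obtain rfl : A = (Matrix.of y).map e := by ext i j; exact (hy i j).symm
      exact ⟨⟨⟨Matrix.of y, e.injective (by rw [← det_map, h2, map_one])⟩,
        (herm_iff p n _).2 ((hm _).2 h3)⟩, h1⟩) fun y => by
      have d : (y.1.1.map e).det = 1 := by rw [det_map, y.1.2, map_one]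
      have t := (hm _).1 ((herm_iff p n _).1 y.2)
      obtain ⟨g, hg⟩ := h.le (y.1.1.map e) d (by rw [← one_smul k (1 : Mt k)]; exact t)
      exact ⟨⟨g, f2 g _ hg d t⟩, hg⟩
  rw [Nat.card_eq_fintype_card] at hβ
  rcases f3 with f3 | ⟨h3, f3, A, η, hA, d, t, h1⟩
  · exact Or.inl ⟨_, inferInstance, inferInstance, n, hβ, ⟨j, hα⟩,
      iso.map fun i => topEquiv.symm.trans ((MulEquiv.subgroupCongr f3.symm).trans i)⟩
  refine Or.inr ⟨_, inferInstance, inferInstance, n, hβ, h3, ?_, _, f3, iso⟩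
  obtain ⟨Y, y1, y0, y2, -, y4⟩ := exists_sp (two_ne hp) (ne_zero_of_det (A := A) (by simp [d]))
  have c3 : ∀ c : k, c ^ 3 = 1 → σ c * c = 1 := fun c hc => by
    obtain ⟨m, hm⟩ := h3
    rw [iterateFrobenius_def, ← pow_succ, hm, pow_mul, hc, one_pow]
  have d' : (A * Y).det = 1 := by rw [det_mul, d, y1, one_mul]
  obtain ⟨c, c1, c2, -⟩ := hT.tr _ (hA.mul (h.le Y y1 (by rw [y2, y0]))) d'
  have c0 : c ≠ 0 := by rintro rfl; simp at c1
  have t1 : (A * Y).trace ∈ ι.fieldRange := by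
    simpa [c0] using ι.fieldRange.mul_mem (ι.fieldRange.inv_mem (h.cube_mem hT c1 (c3 c c1))) c2
  have e3 : η ^ 3 = 1 := by simpa [det_map, d] using (congrArg Matrix.det t).symm
  have e4 := c3 η e3
  obtain ⟨h4, h5⟩ := tw_uni (σ := σ) (η := η) d' (by
    rw [Matrix.map_mul, transpose_mul, mul_assoc, ← mul_assoc _ A, t, smul_mul_assoc, one_mul,
      mul_smul_comm, y2, y0])
  have t2 : (A * Y).trace ^ p ^ (2 * n) = η * (A * Y).trace := by
    rw [← hσ, ← trace_map, h4, trace_smul, trace_transpose, smul_eq_mul, map_mul, ← trace_map, h5,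
      trace_smul, trace_transpose, smul_eq_mul]
    linear_combination η * (A * Y).trace * e4
  have e5 : η ^ p ^ (2 * n) = η := by
    have := congrArg σ e4
    rw [map_mul, map_one, hσ] at this
    linear_combination η * this - η ^ p ^ (2 * n) * e4
  rw [mem_range_iff, hj, Nat.card_eq_fintype_card, hβ] at t1
  obtain ⟨i, rfl⟩ := three_dvd_of t2 e5 y4 h1 e3 t1
  exact ⟨i, by rw [hα]; ring⟩

end PR

end Cfsg.Agent.H6.M3
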