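import Cfsg.Agent.H6.N4

/-! Traces of normalised lifts; overgroups of the exceptional simple groups. -/

set_option autoImplicit false

namespace Cfsg.Agent.H6.M3

open Matrix Subgroup Cfsg.Agent.H4 Cfsg.Agent.H4.CABasic Cfsg.Agent.H6.MG
open scoped commutatorElement

variable {k : Type*} [Field k] {F : Type*} [Field F]

theorem Eig.pow_eq_one {A : Mt k} {a b c : k} (h : Eig A a b c) {n : ℕ} (hn : A ^ n = 1) :
    a ^ n = 1 := by
  obtain ⟨v, hv, e⟩ := h.vec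
  have key : ∀ m, A ^ m *ᵥ v = a ^ m • v := fun m => by
    induction m with
    | zero => simp
    | succ m ih => rw [pow_succ', ← mulVec_mulVec, ih, mulVec_smul, e, smul_smul, pow_succ]
  have := key n
  rw [hn, one_mulVec] at this
  exact smul_left_injective k hv (this.symm.trans (one_smul k v).symm)

theorem Eig.conj {A B B' : Mt k} (hB : B * B' = 1) {a b c : k} (h : Eig A a b c) :
    Eig (B * A * B') a b c := by
  have e := congrArg Matrix.det hB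
  rw [det_mul, det_one] at e
  refine ⟨?_, ?_, ?_⟩
  · rw [trace_mul_cycle, mul_eq_one_comm.1 hB, one_mul, h.tr]
  · rw [adjugate_mul_distrib, adjugate_mul_distrib, trace_mul_comm, mul_assoc,
      ← adjugate_mul_distrib, mul_eq_one_comm.1 hB, adjugate_one, mul_one, h.ad]
  · rw [det_mul, det_mul, mul_right_comm, e, one_mul, h.det]

theorem Eig.smul {A : Mt k} {a b c : k} (h : Eig A a b c) (r : k) :
    Eig (r • A) (r * a) (r * b) (r * c) :=
  ⟨by rw [trace_smul, h.tr, smul_eq_mul]; ring, by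
    rw [adj_smul3, trace_smul, h.ad, smul_eq_mul]; ring, by simp [h.det]; ring⟩

theorem eig_dg (a b c : k) : Eig (dg a b c) a b c :=
  ⟨trm3 .., by simp [adjugate_fin_three_of, trm3]; ring, by simp [dm3]⟩

namespace PR

variable {Γ : Type*} [Group Γ] {ρ : PR Γ k} {g g' : Γ} {n : ℕ} {t t' : k}

theorem cj_inv {B B' : Mt k} (hB : B * B' = 1) : (ρ.cj hB).cj (mul_eq_one_comm.1 hB) = ρ :=
  ext' fun _ _ => ρ.cj_L' hB

theorem Sm.cj {P : PR Γ k → Prop} (H : ρ.Sm P) {B B' : Mt k} (hB : B * B' = 1) : (ρ.cj hB).Sm P :=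
  Sm.of_cj (mul_eq_one_comm.1 hB) (by rwa [cj_inv])

theorem Reg.eig (hg : ρ.Reg g) {A : Mt k} (hA : ρ.L g A) :
    ∃ a b c, a ≠ b ∧ a ≠ c ∧ b ≠ c ∧ Eig A a b c := by
  obtain ⟨B, B', hB, a, b, c, h1, h2, h3, e⟩ := hg
  obtain ⟨r, hr, rfl⟩ := ρ.uniq' e hA
  exact ⟨_, _, _, by simp [hr, h1], by simp [hr, h2], by simp [hr, h3],
    ((eig_dg a b c).conj hB).smul r⟩

variable (ρ n g t) in
/-- the trace of the lift of determinant one and order dividing `n` -/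
def Ch : Prop := ∃ A, ρ.L g A ∧ A.det = 1 ∧ A ^ n = 1 ∧ A.trace = t

theorem ex_pow {A : Mt k} (hA : ρ.L g A) (d : A.det = 1) (hn : g ^ n = 1) (h3 : ¬ 3 ∣ n) :
    ∃ A, ρ.L g A ∧ A.det = 1 ∧ A ^ n = 1 := by
  obtain ⟨c, h1, h2⟩ := cube_of ρ.one (hn ▸ ρ.pow hA n) det_one (by rw [det_pow, d, one_pow])
  have h0 : c ≠ 0 := by rintro rfl; simp at h1
  refine ⟨c ^ (2 * n) • A, ρ.smul hA (pow_ne_zero _ h0), ?_, ?_⟩
  · rw [det_smul, d, Fintype.card_fin, ← pow_mul, mul_comm (2 * n), pow_mul, h1]; simp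
  · obtain ⟨j, hj⟩ : 3 ∣ 2 * n * n + 1 := by
      rcases (by omega : n % 3 = 1 ∨ n % 3 = 2) with h | h <;>
        simp [Nat.dvd_iff_mod_eq_zero, Nat.add_mod, Nat.mul_mod, h]
    rw [smul_pow, h2, smul_smul, ← pow_mul, ← pow_succ, hj, pow_mul, h1, one_pow, one_smul]

theorem lift_uniq (h3 : ¬ 3 ∣ n) {A B : Mt k} (hA : ρ.L g A) (hB : ρ.L g B) (d : A.det = 1)
    (d' : B.det = 1) (e : A ^ n = 1) (e' : B ^ n = 1) : B = A := by
  obtain ⟨c, h1, rfl⟩ := cube_of hA hB d d'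
  rw [smul_pow, e] at e'
  rw [eq_one_of_cube h1 (smul_cancel (A := 1) (by simp) (e'.trans (one_smul k _).symm)) h3, one_smul]

theorem Ch.uniq (h3 : ¬ 3 ∣ n) (h : ρ.Ch g n t) (h' : ρ.Ch g n t') : t = t' := by
  obtain ⟨A, a1, a2, a3, rfl⟩ := h
  obtain ⟨B, b1, b2, b3, rfl⟩ := h'
  rw [lift_uniq h3 a1 b1 a2 b2 a3 b3]

theorem Ch.conj (h : ρ.Ch g n t) (e : IsConj g g') : ρ.Ch g' n t := by
  obtain ⟨A, a1, a2, a3, rfl⟩ := h
  obtain ⟨x, rfl⟩ := isConj_iff.1 e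
  obtain ⟨X, hX⟩ := ρ.ex x
  obtain ⟨X', e1, e2⟩ := exists_inv (ρ.det hX)
  refine ⟨_, ρ.conj hX e1 a1, ?_, ?_, by rw [trace_mul_cycle, e2, one_mul]⟩
  · rw [det_mul, det_mul, a2, mul_one, ← det_mul, e1, det_one]
  · exact (Units.conj_pow (⟨X, X', e1, e2⟩ : (Mt k)ˣ) A n).trans (by rw [a3, mul_one]; exact e1)

theorem Reg.no_ch (hg : ρ.Reg g) (h3 : ¬ 3 ∣ n) (h : ρ.Ch g n t) (h1 : ρ.Ch g⁻¹ n t)
    (h2 : ρ.Ch (g ^ 2) n t) : False := by
  obtain ⟨A, a1, a2, a3, rfl⟩ := h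
  have e1 := h1.uniq h3 ⟨_, ρ.inv_adj a1, by rw [det_adjugate, a2, one_pow],
    by rw [← adjugate_pow, a3, adjugate_one], rfl⟩
  have e2 := h2.uniq h3 ⟨_, ρ.pow a1 2, by rw [det_pow, a2, one_pow],
    by rw [← pow_mul, mul_comm, pow_mul, a3, one_pow], rfl⟩
  obtain ⟨a, b, c, n1, -, -, e⟩ := hg.eig a1
  rw [e.trace_pow, e.tr] at e2
  rw [e.ad, e.tr] at e1
  rw [e.det] at a2
  have : a + b + c = 0 ∨ a + b + c = 3 := by grind
  rcases this with h | h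
  · exact n1 ((eq_one_of_cube (by grind) (e.pow_eq_one a3) h3).trans
      (eq_one_of_cube (by grind) (e.swap.pow_eq_one a3) h3).symm)
  · have h4 : (a - 1) ^ 3 = 0 := by grind
    have h5 : (b - 1) ^ 3 = 0 := by grind
    grind

theorem exists_ch [IsAlgClosed k] (hn : g ^ n = 1) (h3 : ¬ 3 ∣ n) : ∃ t, ρ.Ch g n t := by
  obtain ⟨A, hA, d⟩ := ρ.ex_det g
  obtain ⟨B, h1, h2, h4⟩ := ex_pow hA d hn h3
  exact ⟨_, B, h1, h2, h4, rfl⟩

theorem Reg.no_conj [IsAlgClosed k] (hg : ρ.Reg g) (hn : g ^ n = 1) (h3 : ¬ 3 ∣ n)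
    (h1 : IsConj g g⁻¹) (h2 : IsConj g (g ^ 2)) : False :=
  (exists_ch hn h3).elim fun _ h => hg.no_ch h3 h (h.conj h1) (h.conj h2)

theorem Ch.frob (p : ℕ) [Fact p.Prime] [CharP k p] [IsAlgClosed k] (h : ρ.Ch g n t) (m : ℕ) :
    ρ.Ch (g ^ p ^ m) n (t ^ p ^ m) := by
  obtain ⟨A, a1, a2, a3, rfl⟩ := h
  exact ⟨_, ρ.pow a1 _, by rw [det_pow, a2, one_pow],
    by rw [← pow_mul, mul_comm, pow_mul, a3, one_pow], trace_pow_char p A m⟩

theorem SLr.ch {ρ : PR Γ F} (h : ρ.SLr) (ι : F →+* k) (hn : g ^ n = 1) (h3 : ¬ 3 ∣ n) :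
    ∃ t, (ρ.up ι).Ch g n (ι t) := by
  obtain ⟨A, hA, d⟩ := h g
  obtain ⟨B, h1, h2, h4⟩ := ex_pow hA d hn h3
  exact ⟨_, _, up_of h1, by rw [det_map, h2, map_one], by rw [← Matrix.map_pow, h4, map_one'],
    trace_map ι B⟩

theorem SLr.ch' (p : ℕ) [Fact p.Prime] [CharP k p] [IsAlgClosed k] [Finite F] {ρ : PR Γ F}
    (h : ρ.SLr) (ι : F →+* k) {α : ℕ} (hF : Nat.card F = p ^ α) (hn : g ^ n = 1) (h3 : ¬ 3 ∣ n) :
    ∃ t, (ρ.up ι).Ch g n t ∧ (ρ.up ι).Ch (g ^ (p ^ α % n)) n t := by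
  obtain ⟨t, ht⟩ := h.ch ι hn h3
  have := ht.frob p α
  rw [pow_eq_pow_mod _ hn, ← hF, (mem_range_iff ι).1 ⟨t, rfl⟩, hF] at this
  exact ⟨_, ht, this⟩

theorem RP.dvd [Finite F] {ι : F →+* k} (hT : ρ.TrF ι.fieldRange) {x c : Γ} (h : ρ.RP x c) :
    Nat.card F % 3 = 1 := by
  obtain ⟨ω, h1, h2⟩ := h
  have h3 := (mem_range_iff ι).1 (hT.pr _ _ _ h2)
  rw [pow_eq_pow_mod _ h2.cube] at h3
  have := h2.ne
  rcases (by omega : Nat.card F % 3 = 0 ∨ Nat.card F % 3 = 1 ∨ Nat.card F % 3 = 2) with e | e | e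
  · simp [e, h1.symm] at h3
  · exact e
  · rw [e] at h3; grind

variable (p : ℕ) [Fact p.Prime] [CharP k p] [IsAlgClosed k] [Finite Γ]

include p in
theorem frob_rp (hs : ρ.SA) (hg : ρ.Reg g) (h7 : g ^ 7 = 1) {y d : Γ} (hy : y * g * y⁻¹ = g ^ 2)
    (d1 : d ≠ 1) (d2 : d * g = g * d) (d3 : d * y = y * d) : ρ.RP d y := by
  refine rp_of d3 fun hm => ?_
  have h1 : g ∈ ρ.T0 d := mem_T0_of_pow d2 h7 (by norm_num)
  by_cases h2 : d * d = 1
  · obtain ⟨h2, B, B', hB, hd⟩ := iv_of_sq p hs d1 h2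
    obtain ⟨A, hA, a⟩ := bk_of_comm h2 hd (mem_centralizer_singleton_iff.2 d2.symm)
    obtain ⟨Y, hY, b⟩ := bk_of_comm h2 hd (mem_centralizer_singleton_iff.2 d3.symm)
    obtain ⟨l, hl⟩ := ((ρ.cj hB).conj_iff hY hA ((ρ.cj hB).pow hA 2)).1 hy
    have a2 : Bk (A ^ 2) := sq A ▸ a.mul a
    have l1 : l = 1 := by
      have := congrFun (congrFun hl 2) 2
      rwa [(b.mul a).2.2.2.2, Matrix.smul_apply, (a2.mul b).2.2.2.2, smul_eq_mul, mul_one, eq_comm] at this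
    have d := congrArg Matrix.det hl
    rw [l1, one_smul, det_mul, det_mul, mul_comm, mul_left_inj' ((ρ.cj hB).det hY), det_pow, sq,
      left_eq_mul₀ ((ρ.cj hB).det hA)] at d
    have e7 : A ^ 7 = 1 := by
      obtain ⟨c, hc⟩ := (ρ.cj hB).uniq (ρ.cj hB).one (h7 ▸ (ρ.cj hB).pow hA 7)
      have a7 : Bk (A ^ 7) := by
        rw [show A ^ 7 = A ^ 2 * A ^ 2 * A ^ 2 * A by simp only [← pow_add, ← pow_succ]]
        exact ((a2.mul a2).mul a2).mul a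
      have := a7.2.2.2.2
      rw [hc] at this ⊢
      simp at this
      simp [this]
    have hg' : (ρ.cj hB).Reg g := Sm.cj hg hB
    have c1 : (ρ.cj hB).Ch g 7 A.trace := ⟨A, hA, d, e7, rfl⟩
    refine hg'.no_ch (by norm_num) c1 ⟨_, (ρ.cj hB).inv_adj hA, by rw [det_adjugate, d, one_pow],
      by rw [← adjugate_pow, e7, adjugate_one], ?_⟩ (c1.conj (isConj_iff.2 ⟨y, hy⟩))
    obtain ⟨a, b, c, e, rfl⟩ := a.ex
    simp only [dm3, adjugate_fin_three_of, trm3] at d ⊢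
    grind
  · rw [← T0_comm (T0_ab p hs h2 h1 hm), mul_inv_cancel_right, sq, left_eq_mul] at hy
    exact hg.sq (by simp [hy])

include p in
theorem over7 (hs : ρ.SA) {T : Subgroup Γ} [hT : T.Normal] (hg : ρ.Reg g) (h7 : g ^ 7 = 1) {y : Γ}
    (hy : y * g * y⁻¹ = g ^ 2) (g1 : g ∈ T) (y1 : y ∈ T)
    (hc : ∀ a ∈ T, a * g = g * a → ∃ j : ℕ, g ^ j = a)
    (hf : ∀ b ∈ T, b ^ 7 = 1 → ∃ t ∈ T, ∃ j : ℕ, g ^ j = t * b * t⁻¹) (h : Γ) :
    h ∈ T ∨ ∃ d, d ∉ T ∧ ρ.RP d y := by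
  refine or_iff_not_imp_left.2 fun hn => ?_
  obtain ⟨t, ht, j, hj⟩ := hf _ (hT.conj_mem g g1 h) (by rw [conj_pow, h7]; simp)
  have y2 : ∀ i, y * g ^ i * y⁻¹ = g ^ (2 * i % 7) := fun i => by
    rw [← conj_pow, hy, ← pow_mul, ← pow_eq_pow_mod _ h7]
  have key : ∀ x i, x * g * x⁻¹ = g ^ i → y * x * g * (y * x)⁻¹ = g ^ (2 * i % 7) := fun x i e => by
    rw [← y2, ← e]; group
  have n6 : ∀ x, x * g * x⁻¹ ≠ g ^ 6 := fun x e => hg.no_conj h7 (by norm_num)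
    (isConj_iff.2 ⟨x, e.trans (eq_inv_of_mul_eq_one_left (by rw [← pow_succ, h7]))⟩)
    (isConj_iff.2 ⟨y, hy⟩)
  obtain ⟨d, d1, d2⟩ : ∃ d, d ∉ T ∧ d * g * d⁻¹ = g ^ 1 := by
    have e : t * h * g * (t * h)⁻¹ = g ^ (j % 7) := by
      rw [← pow_eq_pow_mod _ h7, hj]; group
    have k1 : t * h ∉ T := fun e => hn ((mul_mem_cancel_left ht).1 e)
    have k2 : ∀ x, x ∉ T → y * x ∉ T := fun x hx e => hx ((mul_mem_cancel_left y1).1 e)
    have := Nat.mod_lt j (show 0 < 7 by norm_num)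
    generalize j % 7 = j at *
    interval_cases j
    · exact absurd (conj_eq_one_iff.1 (e.trans (pow_zero g))) fun e : g = 1 => hg.sq (by simp [e])
    · exact ⟨_, k1, e⟩
    · exact ⟨_, k2 _ (k2 _ k1), key _ _ (key _ _ e)⟩
    · exact absurd (key _ _ e) (n6 _)
    · exact ⟨_, k2 _ k1, key _ _ e⟩
    · exact absurd (key _ _ (key _ _ e)) (n6 _)
    · exact absurd e (n6 _)
  rw [pow_one, mul_inv_eq_iff_eq_mul] at d2
  have d3 : Commute d g := d2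
  have y4 : g = y * g ^ 4 * y⁻¹ := by rw [y2]; simp
  obtain ⟨i, hi⟩ := hc (d * y * d⁻¹ * y⁻¹) (mul_mem (hT.conj_mem y y1 d) (inv_mem y1)) (by
    calc _ = d * y * (d⁻¹ * g ^ 4) * y⁻¹ := by conv_lhs => rw [y4]
                                               group
      _ = d * (y * g ^ 4 * y⁻¹) * y * d⁻¹ * y⁻¹ := by rw [(d3.inv_left.pow_right 4).eq]; group
      _ = _ := by rw [← y4, d2]; group)
  refine ⟨g ^ i * d, fun e => d1 ((mul_mem_cancel_left (pow_mem g1 i)).1 e), frob_rp p hs hg h7 hy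
    (fun e => d1 ((mul_mem_cancel_left (pow_mem g1 i)).1 (e ▸ one_mem T)))
    (((Commute.refl g).pow_left i).mul_left d3) ?_⟩
  calc _ = g ^ i * (d * y * d⁻¹ * y⁻¹) * y * d := by group
    _ = y * g ^ i * y⁻¹ * y * d := by rw [← hi, ← conj_pow, hy, ← pow_mul, two_mul, pow_add]
    _ = _ := by group

theorem no168 {T : Subgroup Γ} [hT : T.Normal] {d y s : Γ} (h : ρ.RP d y) (s1 : s ∈ T)
    (hs : s * y * s⁻¹ = y⁻¹) (hr : ∀ c ∈ T, ¬ ρ.RP y c) : False := by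
  obtain ⟨ω, h1, h2⟩ := h.symm
  have h3 := h2.conj s
  rw [hs] at h3
  have h4 : ρ.Pr y (s * d * s⁻¹) ω⁻¹ := by simpa using h3.symm.inv.symm
  have h5 := h2.inv.mul h4
  have h6 := h2.cube
  refine hr _ ?_ ⟨_, fun e => h1 ?_, h5⟩
  · simpa [mul_assoc] using mul_mem (hT.conj_mem s s1 d⁻¹) (inv_mem s1)
  · have := h2.ne
    grind

omit [Fact p.Prime] [CharP k p] in
theorem SA.rdvd (hs : ρ.SA) {x c : Γ} (h : ρ.RP x c) :
    (RR x c).relIndex (normalizer (RR x c : Set Γ)) ∣ 8 := by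
  letI : MulAction (normalizer (RR x c : Set Γ)) (RR x c) :=
    MulAction.compHom _ (RR x c).normalizerMonoidHom
  have := dvd_of_orbits (H := normalizer (RR x c : Set Γ)) (1 : RR x c)
    (fun h => map_one ((RR x c).normalizerMonoidHom h))
    ((RR x c).relIndex (normalizer (RR x c : Set Γ))) fun y hy => by
      rw [Subgroup.relIndex]
      congr 1
      ext n
      rw [MulAction.mem_stabilizer_iff, Subgroup.mem_subgroupOf, Subtype.ext_iff]
      exact mul_inv_eq_iff_eq_mul.trans ⟨h.free hs n.2 y.2 fun e => hy (Subtype.ext e),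
        fun hn => h.ab hn y.2⟩
  rwa [h.card] at this

theorem SA.sylow (hs : ρ.SA) {x c : Γ} (h : ρ.RP x c) : ¬ 3 ∣ (RR x c).index := fun h3 => by
  haveI : Fact (Nat.Prime 3) := ⟨Nat.prime_three⟩
  have h1 := Sylow.prime_pow_dvd_card_normalizer (p := 3) (n := 2) (H := RR x c) (by
    rw [← (RR x c).card_mul_index, h.card]; exact mul_dvd_mul_left 9 h3) h.card
  rw [← card_mul_relIndex, h.card] at h1
  exact absurd ((Nat.dvd_of_mul_dvd_mul_left (k := 9) (by norm_num) h1).trans (hs.rdvd h))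
    (by norm_num)

theorem SA.mem_of_cube (hs : ρ.SA) {x c : Γ} (h : ρ.RP x c) {T : Subgroup Γ} [T.Normal]
    (h9 : 9 ∣ Nat.card T) {d : Γ} (hd : d ^ 3 = 1) : d ∈ T := by
  refine mem_of_pows (hd ▸ one_mem T) (pow_index_mem T d)
    ((Nat.Prime.coprime_iff_not_dvd Nat.prime_three).2 fun h3 => hs.sylow h ?_)
  have := mul_dvd_mul h9 h3
  rw [T.card_mul_index, ← (RR x c).card_mul_index, h.card] at this
  exact Nat.dvd_of_mul_dvd_mul_left (by norm_num) this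

theorem SA.exists_W (hs : ρ.SA) {x c : Γ} (h : ρ.RP x c)
    (h8 : (RR x c).relIndex (normalizer (RR x c : Set Γ)) = 8) : ∃ (W : Subgroup Γ) (z : Γ),
    Nat.card W = 8 ∧ z * z = 1 ∧ z ≠ 1 ∧ z ∈ normalizer (RR x c : Set Γ) ∧ z * x * z⁻¹ = x⁻¹ ∧
      ∀ w ∈ W, w ^ 4 = 1 ∧ w * z = z * w ∧ (w * w = 1 → w = 1 ∨ w = z) := by
  haveI : Fact (Nat.Prime 3) := ⟨Nat.prime_three⟩
  haveI : Fact (Nat.Prime 2) := ⟨Nat.prime_two⟩
  obtain ⟨K, hK⟩ := Sylow.exists_subgroup_card_pow_prime (G := normalizer (RR x c : Set Γ)) 2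
    (n := 3) (by rw [← card_mul_relIndex, h8]; exact dvd_mul_left _ _)
  rw [← card_subtype _ K] at hK
  have hle : K.map (normalizer (RR x c : Set Γ)).subtype ≤ _ := map_subtype_le K
  generalize K.map (normalizer (RR x c : Set Γ)).subtype = W at *
  have k1 : ∀ w ∈ W, w ∈ RR x c → w = 1 := fun w hw hw' =>
    orderOf_eq_one_iff.1 (Nat.eq_one_of_dvd_coprimes (show Nat.Coprime (2 ^ 3) 3 by norm_num)
      (hK ▸ orderOf_dvd_natCard _ hw) (orderOf_dvd_of_pow_eq_one (h.cube' hw')))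
  have k2 : ∀ z ∈ W, z * z = 1 → z ≠ 1 → ∀ a ∈ RR x c, z * a * z⁻¹ = a⁻¹ := fun z hz z1 z2 a ha => by
    have hn := fun a => (mem_normalizer_iff.1 (hle hz) a).1
    by_contra e
    exact z2 (k1 z hz (h.free hs (hle hz) (mul_mem ha (hn a ha))
      (fun e' => e (eq_inv_of_mul_eq_one_right e')) (inverts' (fun _ h1 _ h2 => h.ab h1 h2) hn z1 ha)))
  obtain ⟨z, hz, z1, z2⟩ := Basic.exists_involution_of_even W (by rw [hK]; decide)
  have k3 : ∀ w ∈ W, w * w = 1 → w = 1 ∨ w = z := fun w hw e => by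
    refine or_iff_not_imp_left.2 fun e' => (inv_mul_eq_one.1 (k1 _ (mul_mem (inv_mem hz) hw)
      (h.free hs (hle (mul_mem (inv_mem hz) hw)) h.mem_left h.ne ?_))).symm
    calc z⁻¹ * w * x = z⁻¹ * (w * x * w⁻¹) * w := by group
      _ = _ := by rw [k2 w hw e e' x h.mem_left, ← k2 z hz z1 z2 x h.mem_left]; group
  refine ⟨W, z, hK, z1, z2, hle hz, k2 z hz z1 z2 x h.mem_left, fun w hw => ⟨?_, ?_, k3 w hw⟩⟩
  · rcases h.four hs (hle hw) with e | e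
    · exact k1 _ (pow_mem hw _) e
    · have e2 : w ^ 8 = 1 := orderOf_dvd_iff_pow_eq_one.1 ((orderOf_dvd_natCard _ hw).trans hK.dvd)
      have e3 := k1 _ (pow_mem hw _) e
      have := pow_gcd_eq_one.2 ⟨e3, e2⟩
      rw [show 4 = Nat.gcd 6 8 * 2 from rfl, pow_mul, this, one_pow]
  · rcases k3 (w * z * w⁻¹) (mul_mem (mul_mem hw hz) (inv_mem hw))
      (by simp [mul_assoc, ← mul_assoc z z, z1]) with e | e
    · exact absurd (by simpa using e) z2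
    · exact mul_inv_eq_iff_eq_mul.1 e

include p in
theorem no720 (hs : ρ.SA) {T : Subgroup Γ} [hT : T.Normal] (h2 : T.index = 2) {t : T}
    {K : Subgroup T} (h : Di t K) (h4 : Nat.card K = 4) {W : Subgroup Γ} (h8 : Nat.card W = 8)
    (hW : ∀ w ∈ W, w ^ 4 = 1 ∧ w * t = t * w ∧ (w * w = 1 → w = 1 ∨ w = t)) {u : Γ} (u1 : u ∉ T)
    (u2 : u * u = 1) (u3 : u * t = t * u) : False := by
  have hle : W ≤ centralizer {t.1} := fun w hw => mem_centralizer_singleton_iff.2 (hW w hw).2.1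
  have uW : u ∉ W := fun e => ((hW u e).2.2 u2).elim (fun e => u1 (e ▸ one_mem T))
    fun e => u1 (e ▸ t.2)
  have c1 : W.relIndex (centralizer {t.1}) = 2 := by
    have e1 := (T.subgroupOf (centralizer {t.1})).card_mul_index
    have e2 := (W.subgroupOf (centralizer {t.1})).card_mul_index
    have e3 : Nat.card (T.subgroupOf (centralizer {t.1})) = Nat.card (centralizer {t}) :=
      Nat.card_congr ⟨fun x => ⟨⟨x.1.1, x.2⟩, mem_centralizer_singleton_iff.2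
        (Subtype.ext (mem_centralizer_singleton_iff.1 x.1.2))⟩, fun x => ⟨⟨x.1.1,
          mem_centralizer_singleton_iff.2 (congrArg Subtype.val
            (mem_centralizer_singleton_iff.1 x.2))⟩, x.1.2⟩, fun _ => rfl, fun _ => rfl⟩
    have e4 := Nat.le_of_dvd two_pos (h2 ▸ relIndex_dvd_index_of_normal T (centralizer {t.1}))
    have e5 : W.relIndex (centralizer {t.1}) ≠ 1 := fun e =>
      uW (relIndex_eq_one.1 e (mem_centralizer_singleton_iff.2 u3))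
    have e6 : 0 < Nat.card (centralizer {t.1}) := Nat.card_pos
    rw [Nat.card_congr (subgroupOfEquivOfLe hle).toEquiv, h8] at e2
    rw [e3, h.card, h4] at e1
    unfold relIndex at *
    omega
  have c2 : ∀ a b : Γ, a * t = t * a → b * t = t * b → a ∉ W → b ∉ W → a * b ∈ W :=
    fun a b ha hb ha' hb' => (mul_mem_iff_of_index_two c1 (a := ⟨a, mem_centralizer_singleton_iff.2 ha⟩)
      (b := ⟨b, mem_centralizer_singleton_iff.2 hb⟩)).2 (iff_of_false ha' hb')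
  obtain ⟨e, e1, e2⟩ := h.ex
  obtain ⟨s, s1, s2⟩ := h.exists_out
  have k4 : ∀ x ∈ K, x * x ≠ 1 → x * x = t := fun x hx h1 =>
    (h.uniq _ (mul_mem hx hx) (by
      have := orderOf_dvd_iff_pow_eq_one.1 (h4 ▸ orderOf_dvd_natCard _ hx)
      rwa [pow_succ, pow_succ, sq, mul_assoc] at this)).resolve_left h1
  have t2 : t * t = 1 := by
    have := orderOf_dvd_iff_pow_eq_one.1 (h4 ▸ orderOf_dvd_natCard _ e1)
    rwa [pow_succ, pow_succ, sq, mul_assoc, k4 e e1 e2] at this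
  have c3 : ∀ s : T, s * t = t * s → s ∉ K → s.1 ∉ W := fun s s1 s2 hw =>
    ((hW s hw).2.2 (congrArg Subtype.val (h.out s s1 s2))).elim
      (fun e => s2 ((Subtype.ext e : s = 1) ▸ one_mem K)) fun e => s2 ((Subtype.ext e : s = t) ▸ h.mem)
  have s3 : s * e * t = t * (s * e) := by rw [mul_assoc, h.le e e1, ← mul_assoc, s1, mul_assoc]
  have eW : e.1 ∈ W := by
    have := c2 _ _ (congrArg Subtype.val s1) (congrArg Subtype.val s3) (c3 s s1 s2)
      (c3 _ s3 fun h => s2 ((mul_mem_cancel_right e1).1 h))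
    rwa [← coe_mul, ← mul_assoc, h.out s s1 s2, one_mul] at this
  have fW := c2 _ _ u3 (congrArg Subtype.val s1) uW (c3 s s1 s2)
  have ee : e.1 * e.1 = t := congrArg Subtype.val (k4 e e1 e2)
  have tt : t.1 * t.1 = 1 := congrArg Subtype.val t2
  have se : s.1 * e * s.1⁻¹ = e.1⁻¹ := congrArg Subtype.val (h.inv s1 s2 e1)
  obtain ⟨x, hx⟩ : ∃ x : T, x.1 = u * e * u⁻¹ := ⟨⟨_, hT.conj_mem _ e.2 u⟩, rfl⟩
  have x1 : x * x = t := Subtype.ext (by rw [coe_mul, hx, conj_mul, ee, u3, mul_inv_cancel_right])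
  have t1 : t ≠ 1 := k4 e e1 e2 ▸ e2
  have x2 := h.memK (x1 ▸ t1) (by rw [← x1, mul_assoc])
  have ue : u * e * u⁻¹ = e.1⁻¹ := by
    rcases h.uniq _ (mul_mem x2 e1) (by
      rw [mul_assoc, ← mul_assoc e, h.ab e1 x2, mul_assoc, k4 e e1 e2, ← mul_assoc, x1, t2])
      with k | k
    · exact hx ▸ eq_inv_of_mul_eq_one_left (congrArg Subtype.val k)
    · have k : x.1 * e = t.1 := congrArg Subtype.val k
      rw [← ee, mul_left_inj, hx, mul_inv_eq_iff_eq_mul] at k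
      have := four_uniq p hs (g := e.1) (fun h => t1 (Subtype.ext (ee ▸ h))) (by rw [ee, tt])
        (fun k : u = 1 => u1 (k ▸ one_mem T)) u2 k.symm
      exact absurd (this ▸ mul_mem e.2 e.2) u1
  have fe : u * s * e = e * (u * s) := by
    calc _ = u * (s * e * s.1⁻¹) * u⁻¹ * (u * s) := by group
      _ = _ := by rw [se, ← conj_inv, ue, inv_inv]
  have fT : ∀ w ∈ W, w * w = 1 → w ∈ T := fun w hw e =>
    ((hW w hw).2.2 e).elim (fun e => e ▸ one_mem T) fun e => e ▸ t.2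
  refine u1 ((mul_mem_cancel_right s.2).1 ?_)
  generalize u * s = f at fe fW
  rcases (hW _ (mul_mem fW fW)).2.2 (by
    rw [← (hW f fW).1, pow_succ, pow_succ, sq]; simp only [mul_assoc]) with k | k
  · exact fT f fW k
  · refine (mul_mem_cancel_right e.2).1 (fT _ (mul_mem fW eW) ?_)
    rw [mul_assoc, ← mul_assoc e.1, ← fe, mul_assoc, ee, ← mul_assoc, k, tt]

include p in
theorem outer5 (hs : ρ.SA) {T : Subgroup Γ} [hT : T.Normal] (h2 : T.index = 2) (hg : ρ.Reg g)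
    (h5 : g ^ 5 = 1) {s : Γ} (s2 : s * s = 1) (hy : s * g * s⁻¹ = g⁻¹) (g1 : g ∈ T) (s1 : s ∈ T)
    (hc : ∀ a ∈ T, a * g = g * a → a ^ 5 = 1)
    (hf : ∀ b ∈ T, b ^ 5 = 1 → ∃ t ∈ T, ∃ j : ℕ, g ^ j = t * b * t⁻¹) :
    ∃ u, u ∉ T ∧ u * u = 1 ∧ u * s = s * u := by
  obtain ⟨h, hn⟩ : ∃ h, h ∉ T := by
    by_contra hc
    push Not at hc
    rw [show T = ⊤ from eq_top_iff.2 fun g _ => hc g, index_top] at h2
    omega
  obtain ⟨t, ht, j, hj⟩ := hf _ (hT.conj_mem g g1 h) (by rw [conj_pow, h5]; simp)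
  have g4 : g⁻¹ = g ^ 4 := (eq_inv_of_mul_eq_one_left (by rw [← pow_succ, h5])).symm
  have key : ∀ x i, x * g * x⁻¹ = g ^ i → s * x * g * (s * x)⁻¹ = g ^ (4 * i % 5) := fun x i e => by
    rw [← pow_eq_pow_mod _ h5, pow_mul, ← g4, ← hy, conj_pow, ← e]; group
  have n2 : ∀ x, x * g * x⁻¹ ≠ g ^ 2 := fun x e => hg.no_conj h5 (by norm_num)
    (isConj_iff.2 ⟨s, hy⟩) (isConj_iff.2 ⟨x, e⟩)
  obtain ⟨d, d1, d2⟩ : ∃ d, d ∉ T ∧ d * g * d⁻¹ = g ^ 1 := by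
    have e : t * h * g * (t * h)⁻¹ = g ^ (j % 5) := by
      rw [← pow_eq_pow_mod _ h5, hj]; group
    have k1 : t * h ∉ T := fun e => hn ((mul_mem_cancel_left ht).1 e)
    have := Nat.mod_lt j (show 0 < 5 by norm_num)
    generalize j % 5 = j at *
    interval_cases j
    · exact absurd (conj_eq_one_iff.1 (e.trans (pow_zero g))) fun e : g = 1 => hg.sq (by simp [e])
    · exact ⟨_, k1, e⟩
    · exact absurd e (n2 _)
    · exact absurd (key _ _ e) (n2 _)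
    · exact ⟨_, fun e => k1 ((mul_mem_cancel_left s1).1 e), key _ _ e⟩
  rw [pow_one, mul_inv_eq_iff_eq_mul] at d2
  have d3 : Commute d g := d2
  have d4 := sq_mem_of_index_two h2 d
  have u2 : d ^ 5 * d ^ 5 = 1 := by
    rw [← hc _ d4 (d3.pow_left 2), ← pow_add, ← pow_mul]
  have u1 : d ^ 5 ∉ T := fun e => d1 (mem_of_pows d4 e (by norm_num))
  have u3 := d3.pow_left 5
  generalize d ^ 5 = u at *
  have v2 : s * u * s⁻¹ * (s * u * s⁻¹) = 1 := by rw [conj_mul, u2]; simp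
  have v3 : Commute (s * u * s⁻¹) g := by
    have : Commute (s * u * s⁻¹) (s * g * s⁻¹) := by
      rw [Commute, SemiconjBy, conj_mul, conj_mul, u3.eq]
    simpa [hy] using this
  have v4 := inv_comm p hs hg.sq u2 v2 u3.symm v3.symm
  have v5 := hc (u * (s * u * s⁻¹)) (by
    simpa [mul_assoc, inv_eq_of_mul_eq_one_right u2] using mul_mem (hT.conj_mem s s1 u) (inv_mem s1))
    (u3.mul_left v3)
  have v6 : (u * (s * u * s⁻¹)) ^ 2 = 1 := by
    rw [(show Commute _ _ from v4).mul_pow, sq, sq, u2, v2, one_mul]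
  have := pow_gcd_eq_one.2 ⟨v5, v6⟩
  rw [show Nat.gcd 5 2 = 1 from rfl, pow_one, mul_eq_one_iff_inv_eq,
    inv_eq_of_mul_eq_one_right u2, eq_mul_inv_iff_mul_eq] at this
  exact ⟨u, u1, u2, this⟩

end PR

end Cfsg.Agent.H6.M3
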