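import Cfsg.Agent.H6.N5

/-! Mitchell's theorem in odd characteristic. -/

set_option autoImplicit false

namespace Cfsg.Agent.H6.M3

open Matrix Subgroup Cfsg.Agent.H4 Cfsg.Agent.H4.CABasic Cfsg.Agent.H6.MG
open scoped commutatorElement MatrixGroups

variable {k : Type*} [Field k] {F : Type*} [Field F]

namespace PR

variable {Γ : Type*} [Group Γ] {ρ : PR Γ k} {p : ℕ} [Fact p.Prime] [CharP k p] [IsAlgClosed k]

section Simple

variable [Fintype Γ] [IsSimpleGroup Γ] (S : St p ρ) {g : Γ}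
include S

theorem St.cyc (h : ρ.XX g) {q : ℕ} (hq : q.Prime) (hd : dd g = q) : g ^ q = 1 ∧
    (∀ a, a * g = g * a → ∃ j : ℕ, g ^ j = a) ∧ ∀ b, b ^ q = 1 → ∃ t, ∃ j : ℕ, g ^ j = t * b * t⁻¹ := by
  haveI : Fact q.Prime := ⟨hq⟩
  have h0 : g ∈ centralizer {g} := mem_centralizer_singleton_iff.2 rfl
  have h1 : g ^ q = 1 := orderOf_dvd_iff_pow_eq_one.1 (hd ▸ orderOf_dvd_natCard _ h0)
  have h2 : zpowers g = centralizer {g} := eq_of_le_of_card_ge (by simpa using h0) (by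
    rw [Nat.card_zpowers, orderOf_eq_prime h1 h.ne, hd])
  have h3 : ∀ a, a * g = g * a → ∃ j : ℕ, g ^ j = a := fun a ha =>
    (mem_powers_iff_mem_zpowers.2 (h2 ▸ mem_centralizer_singleton_iff.2 ha) : a ∈ Submonoid.powers g)
  refine ⟨h1, h3, fun b hb => ?_⟩
  by_cases b1 : b = 1
  · exact ⟨1, 0, by simp [b1]⟩
  obtain ⟨y, a, ha, -, rfl⟩ := mem_conjs.1 (mem_conjs_of_prime (S.ca h) hq hd.symm.dvd hb b1)
  obtain ⟨j, rfl⟩ := h3 a (mem_centralizer_singleton_iff.1 ha)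
  exact ⟨y⁻¹, j, by group⟩

theorem St.frob21 (h : ρ.XX g) (hd : dd g = 7) (hw : ww g = 3) :
    ∃ y, y ^ 3 = 1 ∧ y ≠ 1 ∧ y * g * y⁻¹ = g ^ 2 := by
  obtain ⟨h7, h1, -⟩ := S.cyc h (by norm_num) hd
  obtain ⟨n, hn, n1⟩ : ∃ n ∈ normalizer ((centralizer {g} : Subgroup Γ) : Set Γ),
      n ∉ centralizer {g} := by
    by_contra hc
    push Not at hc
    rw [relIndex_eq_one.2 hc] at hw
    omega
  have n2 := pow_relIndex hn
  rw [hw] at n2
  have y1 : (n ^ 7) ^ 3 = 1 := by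
    rw [← pow_mul, mul_comm, pow_mul]
    exact orderOf_dvd_iff_pow_eq_one.1 (hd ▸ orderOf_dvd_natCard _ n2)
  have y2 : n ^ 7 ∉ centralizer {g} := fun e => n1 (mem_of_pows e n2 (by norm_num))
  have y3 := pow_mem hn 7
  generalize n ^ 7 = y at *
  obtain ⟨j, hj⟩ := h1 _ (mem_centralizer_singleton_iff.1 ((mem_normalizer_iff.1 y3 g).1
    (mem_centralizer_singleton_iff.2 rfl)))
  have y0 : y ≠ 1 := fun e => y2 (e ▸ one_mem _)
  have k1 : ∀ i, y * g ^ i * y⁻¹ = g ^ (j * i) := fun i => by rw [← conj_pow, ← hj, pow_mul]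
  have k2 : y ^ 2 * g * (y ^ 2)⁻¹ = g ^ (j * j) := by rw [← k1, hj]; simp [sq, mul_assoc]
  have k3 : g ^ 1 = g ^ (j * (j * j)) := by
    rw [← k1, ← k2]
    calc _ = y ^ 3 * g * (y ^ 3)⁻¹ := by simp [y1]
      _ = _ := by simp [pow_succ, mul_assoc]
  haveI : Fact (Nat.Prime 7) := ⟨by norm_num⟩
  rw [pow_eq_pow_iff_modEq, orderOf_eq_prime h7 h.ne, Nat.ModEq, Nat.mul_mod j,
    Nat.mul_mod j j] at k3
  rw [pow_eq_pow_mod _ h7] at hj k2
  rw [Nat.mul_mod] at k2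
  have := Nat.mod_lt j (show 0 < 7 by norm_num)
  generalize j % 7 = j at *
  interval_cases j <;> try omega
  · exact absurd (mem_centralizer_singleton_iff.2 (mul_inv_eq_iff_eq_mul.1 (by simpa using hj.symm))) y2
  · exact ⟨y, y1, y0, hj.symm⟩
  · refine ⟨_, by rw [← pow_mul, mul_comm, pow_mul, y1, one_pow], fun e => y0 ?_, k2⟩
    rwa [pow_succ, e, one_mul] at y1

end Simple

section Field

variable {ρ : PR Γ F} {ι : F →+* k} {g : Γ} [Finite F] {α : ℕ}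

theorem field7 (h : ρ.SLr) (hF : Nat.card F = p ^ α) (hg : (ρ.up ι).Reg g) (h7 : g ^ 7 = 1)
    (hy : IsConj g (g ^ 2)) : (p ^ α) ^ 3 % 7 = 1 := by
  obtain ⟨t, h1, h2⟩ := h.ch' p ι hF h7 (by norm_num)
  have k : ∀ i, IsConj (g ^ i) (g ^ (2 * i % 7)) := fun i => by
    rw [← pow_eq_pow_mod _ h7, pow_mul]; exact hy.pow i
  have n6 : ¬ (ρ.up ι).Ch (g ^ 6) 7 t := fun e => hg.no_ch (by norm_num) h1
    (eq_inv_of_mul_eq_one_left (show g ^ 6 * g = 1 by rw [← pow_succ, h7]) ▸ e) (h1.conj hy)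
  have n0 : p ^ α % 7 ≠ 0 := fun e => hg.pow p (by
    rwa [← (Nat.prime_dvd_prime_iff_eq (by norm_num) Fact.out).1 (Nat.Prime.dvd_of_dvd_pow
      (by norm_num) (Nat.dvd_of_mod_eq_zero e))])
  rw [Nat.pow_mod]
  have := Nat.mod_lt (p ^ α) (show 0 < 7 by norm_num)
  generalize p ^ α % 7 = j at *
  interval_cases j <;> try omega
  · exact absurd (h2.conj (k 3)) n6
  · exact absurd ((h2.conj (k 5)).conj (k 3)) n6
  · exact absurd h2 n6

theorem field5 (h : ρ.SLr) (hF : Nat.card F = p ^ α) (hg : (ρ.up ι).Reg g) (h5 : g ^ 5 = 1)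
    (hy : IsConj g g⁻¹) : p ^ α % 5 = 1 ∨ p ^ α % 5 = 4 := by
  obtain ⟨t, h1, h2⟩ := h.ch' p ι hF h5 (by norm_num)
  have n2 : ¬ (ρ.up ι).Ch (g ^ 2) 5 t := hg.no_ch (by norm_num) h1 (h1.conj hy)
  have n0 : p ^ α % 5 ≠ 0 := fun e => hg.pow p (by
    rwa [← (Nat.prime_dvd_prime_iff_eq (by norm_num) Fact.out).1 (Nat.Prime.dvd_of_dvd_pow
      (by norm_num) (Nat.dvd_of_mod_eq_zero e))])
  have := Nat.mod_lt (p ^ α) (show 0 < 5 by norm_num)
  generalize p ^ α % 5 = j at *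
  interval_cases j <;> try omega
  · exact absurd h2 n2
  · refine absurd (h2.conj ((hy.pow 3).trans ?_)) n2
    rw [inv_pow, inv_eq_of_mul_eq_one_right (show g ^ 3 * g ^ 2 = 1 by rw [← pow_add, h5])]

end Field

variable [Finite Γ] {T : Subgroup Γ} [hT : T.Normal] [Fintype T] [IsSimpleGroup T]

theorem over7' (hs : ρ.SA) (S : St p (ρ.sub T)) {g : T} (h : (ρ.sub T).XX g) (hg : (ρ.sub T).Reg g)
    (hd : dd g = 7) {y : T} (hy : y * g * y⁻¹ = g ^ 2) : T = ⊤ ∨ ∃ d, d ∉ T ∧ ρ.RP d y := by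
  obtain ⟨h7, h1, h2⟩ := S.cyc h (by norm_num) hd
  refine or_iff_not_imp_right.2 fun hn => eq_top_iff.2 fun x _ => (over7 p hs (g := g.1) hg
    (congrArg Subtype.val h7) (congrArg Subtype.val hy) g.2 y.2 (fun a ha e => ?_)
    (fun b hb e => ?_) x).resolve_right hn
  · exact (h1 ⟨a, ha⟩ (Subtype.ext e)).imp fun j hj => congrArg Subtype.val hj
  · obtain ⟨t, j, hj⟩ := h2 ⟨b, hb⟩ (Subtype.ext e)
    exact ⟨t, t.2, j, congrArg Subtype.val hj⟩

theorem O168.top (hs : ρ.SA) (S : St p (ρ.sub T)) {t g : T} {K : Subgroup T}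
    (h : (ρ.sub T).O168 t K g) : T = ⊤ := by
  obtain ⟨y, y3, y1, hy⟩ := S.frob21 h.xx h.d7 h.w3
  refine (over7' hs S h.xx h.reg h.d7 hy).resolve_right fun ⟨d, _, hd⟩ => ?_
  obtain ⟨-, s, hs⟩ := h.ord y fun e => y1 (by
    have := pow_of_mem_conjs e
    rw [h.d7] at this
    simpa using pow_gcd_eq_one.2 ⟨y3, this⟩)
  exact no168 hd s.2 (congrArg Subtype.val hs) fun c hc => h.rp y ⟨c, hc⟩

theorem O2520.top [DecidableEq T] (hs : ρ.SA) (S : St p (ρ.sub T)) {t t1 x c g : T}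
    (h : (ρ.sub T).O2520 p t t1 x c g) : T = ⊤ := by
  obtain ⟨y, y3, y1, hy⟩ := S.frob21 h.xx h.d7 h.w3
  refine (over7' hs S h.xx h.reg h.d7 hy).resolve_right fun ⟨d, hd, hd'⟩ => ?_
  exact hd (hs.mem_of_cube hd' (by rw [h.card]; norm_num) hd'.cube)

theorem O360.top (hs : ρ.SA) (S : St p (ρ.sub T)) {t x c g : T} {K : Subgroup T}
    (h : (ρ.sub T).O360 t K x c g) : T = ⊤ ∨ p = 5 ∧ T.index = 2 := by
  haveI : Fact (Nat.Prime 3) := ⟨Nat.prime_three⟩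
  have hr : ρ.RP x c := h.rp
  have e1 : (RR x c).map T.subtype = RR x.1 c.1 := eq_of_le_of_card_ge (by
    rintro _ ⟨n, hn, rfl⟩
    exact mem_RR.2 ⟨congrArg Subtype.val (mem_RR.1 hn).1, congrArg Subtype.val (mem_RR.1 hn).2⟩)
    (by rw [card_subtype, hr.card, h.rp.card])
  have hle : RR x.1 c.1 ≤ T := e1 ▸ map_subtype_le _
  have e2 := Sylow.normalizer_sup_eq_top' ((IsPGroup.of_card (n := 2) hr.card).toSylow (hs.sylow hr)) hle
  change normalizer (RR x.1 c.1 : Set Γ) ⊔ T = ⊤ at e2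
  have e3 : T.index = T.relIndex (normalizer (RR x.1 c.1 : Set Γ)) := by
    rw [← relIndex_sup_right, e2, relIndex_top_right]
  have e4 := (T.subgroupOf (normalizer (RR x.1 c.1 : Set Γ))).card_mul_index
  have e5 : Nat.card (T.subgroupOf (normalizer (RR x.1 c.1 : Set Γ))) = 36 := by
    rw [← inf_subgroupOf_right, Nat.card_congr (subgroupOfEquivOfLe inf_le_right).toEquiv,
      ← Nat.card_congr (subgroupOfEquivOfLe (inf_le_left (a := T))).toEquiv, inf_subgroupOf_left,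
      subgroupOf_normalizer_eq hle, ← card_mul_relIndex, ← e1, subgroupOf,
      comap_map_eq_self_of_injective T.subtype_injective, h.s4, h.rp.card]
  rw [e5, ← card_mul_relIndex, hr.card, ← relIndex, ← e3] at e4
  have e6 := Nat.le_of_dvd (by norm_num) (hs.rdvd hr)
  have e7 := T.index_ne_zero_of_finite
  refine or_iff_not_imp_left.2 fun hne => ?_
  have e8 : T.index = 2 := by have := mt index_eq_one.1 hne; omega
  refine ⟨by_contra fun h5 => ?_, e8⟩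
  obtain ⟨g5, g1, g2⟩ := S.cyc h.xx (by norm_num) h.d5
  have hg := (reg_or_jb p S.sa h.xx.sq).resolve_right fun hj => h.xx.ne (by
    simpa [(Nat.coprime_primes (by norm_num) Fact.out).2 (Ne.symm h5)] using
      pow_gcd_eq_one.2 ⟨g5, hj.pow p S.sa (self_mem_T0 g)⟩)
  obtain ⟨s, s1, -, s2, s3⟩ := S.real_two h.xx h.w2
  obtain ⟨u, u1, u2, u3⟩ := outer5 p hs e8 (g := g.1) hg (congrArg Subtype.val g5)
    (congrArg Subtype.val s1) (congrArg Subtype.val s3) g.2 s.2 (fun a ha e => by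
      obtain ⟨j, hj⟩ := g1 ⟨a, ha⟩ (Subtype.ext e)
      rw [← show g.1 ^ j = a from congrArg Subtype.val hj, ← pow_mul, mul_comm, pow_mul,
        show g.1 ^ 5 = 1 from congrArg Subtype.val g5, one_pow]) fun b hb e => by
      obtain ⟨t, j, hj⟩ := g2 ⟨b, hb⟩ (Subtype.ext e)
      exact ⟨t, t.2, j, congrArg Subtype.val hj⟩
  obtain ⟨W, z, w1, z1, z2, z3, z4, hW⟩ := hs.exists_W hr (by omega)
  have zT : z ∈ T := by
    obtain ⟨W, hW, -, -, z', a, -, -, b, -⟩ := S.exists_W h.rp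
    have b : z'.1 * x * z'.1⁻¹ = x.1⁻¹ := congrArg Subtype.val (b x h.rp.mem_left)
    have a : z'.1 ∈ normalizer (RR x.1 c.1 : Set Γ) :=
      e1 ▸ le_normalizer_map T.subtype ⟨z', hW a, rfl⟩
    refine (mul_mem_cancel_left (inv_mem z'.2)).1 (hle (hr.free hs (mul_mem (inv_mem a) z3)
      hr.mem_left hr.ne ?_))
    calc _ = z'.1⁻¹ * (z * x * z⁻¹) * z := by group
      _ = _ := by rw [z4, ← b]; group
  obtain ⟨e, e1, e2⟩ := h.di.ex
  have e4 := orderOf_dvd_iff_pow_eq_one.1 (h.cardK ▸ orderOf_dvd_natCard _ e1)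
  rw [pow_succ, pow_succ, sq, mul_assoc] at e4
  have t0 := (h.di.uniq _ (mul_mem e1 e1) e4).resolve_left e2
  have t3 : Odd (centralizer {t}).index := by
    have := (centralizer {t}).card_mul_index
    rw [h.di.card, h.cardK, h.card] at this
    exact ⟨22, by omega⟩
  obtain ⟨a, ha⟩ := isConj_iff.1 (S.one_class (t0 ▸ e4) (t0 ▸ e2) t3 s1 fun e => s2 (e ▸ one_mem _)).symm
  obtain ⟨b, hb⟩ := isConj_iff.1 (S.one_class (t0 ▸ e4) (t0 ▸ e2) t3 (s := ⟨z, zT⟩) (Subtype.ext z1)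
    fun e => z2 (congrArg Subtype.val e)).symm
  have ha : a.1 * s * a.1⁻¹ = t := congrArg Subtype.val ha
  have hb : b.1 * z * b.1⁻¹ = t := congrArg Subtype.val hb
  refine no720 p hs e8 h.di h.cardK (W := Pg.cj b.1 W) (by rw [Pg.card_cj, w1]) ?_
    (u := a * u * a.1⁻¹) (fun e => u1 (by simpa [mul_assoc] using hT.conj_mem _ e a.1⁻¹))
    (by rw [conj_mul, u2]; simp) (by rw [← ha, conj_mul, conj_mul, u3])
  rintro _ ⟨w, hw, rfl⟩
  obtain ⟨k1, k2, k3⟩ := hW w hw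
  simp only [MulEquiv.coe_toMonoidHom, MulAut.conj_apply, ← hb, conj_mul, conj_pow, k1, k2,
    conj_eq_one_iff, mul_left_inj, mul_right_inj]
  exact ⟨by simp, trivial, k3⟩

omit hT [Fintype T] [IsSimpleGroup T] in
theorem trichotomy (hp : p ≠ 2) (hi : ρ.Irr) {K : Subgroup Γ} (hK : ⁅K, K⁆ = K) (h0 : K ≠ ⊥) :
    (ρ.Sm fun τ => ∃ F0, τ.Lin F0) ∨
      (∃ n, 3 ≤ p ^ n ∧ ρ.Sm fun τ => τ.Uni (iterateFrobenius k p n)) ∨ ρ.SA := by
  by_cases ho : ρ.Opp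
  swap
  · exact Or.inl (lin_of_odd p hp hi ho)
  by_cases he : ρ.HasEl
  · refine Or.inr (Or.inl (uni_of_opp p hi ho he fun hs => ?_))
    obtain ⟨v, φ, h1, h2, h3⟩ := he
    exact two_ne hp (hs.two h1 h2 h3)
  refine Or.inr (Or.inr fun v φ h h1 h2 => ⟨by_contra fun h3 => h0 (perfect_of_hm p hi
    (fun v φ a h1 h2 h _ => absurd ⟨v, φ, h1, h2, h⟩ he) (ξ := φ ⬝ᵥ v + 1) (fun e => ?_)
    ⟨by ring, h⟩ hK), two_ne hp⟩)
  exact he ⟨v, φ, h1, h2, by grind, h⟩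

end PR

theorem mitchell_odd [Finite F] (p α : ℕ) [Fact p.Prime] (hp : p ≠ 2) [CharP F p]
    (hF : Nat.card F = p ^ α) {Γ : Type*} [Group Γ] [Finite Γ] [Nontrivial Γ] (hs : NS Γ)
    {ρ : PR Γ F} (h : ρ.SLr) :
    (∃ (K : Type) (_ : Field K) (_ : Fintype K) (β : ℕ), Fintype.card K = p ^ β ∧ β ∣ α ∧
      Nonempty (Γ ≃* PSL(3, K))) ∨
    (∃ (K : Type) (_ : Field K) (_ : Fintype K) (β : ℕ), Fintype.card K = p ^ (2 * β) ∧ 2 * β ∣ α ∧
      Nonempty (Γ ≃* PSU 3 K (p ^ β))) ∨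
    (∃ (K : Type) (_ : Field K) (_ : Fintype K) (β : ℕ), Fintype.card K = p ^ β ∧ 3 ∣ p ^ β - 1 ∧
      3 * β ∣ α ∧ ∃ L : Subgroup Γ, L.index = 3 ∧ Nonempty (L ≃* PSL(3, K))) ∨
    (∃ (K : Type) (_ : Field K) (_ : Fintype K) (β : ℕ), Fintype.card K = p ^ (2 * β) ∧
      3 ∣ p ^ β + 1 ∧ 6 * β ∣ α ∧ ∃ L : Subgroup Γ, L.index = 3 ∧ Nonempty (L ≃* PSU 3 K (p ^ β))) ∨
    (∃ (K : Type) (_ : Field K) (_ : Fintype K) (β : ℕ), Fintype.card K = p ^ β ∧ β ∣ α ∧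
      p ^ β ≠ 3 ∧ (Nonempty (Γ ≃* PSL(2, K)) ∨
        Nonempty (Γ ≃* (GL (Fin 2) K ⧸ Subgroup.center (GL (Fin 2) K))))) ∨
    ((p ^ α % 10 = 1 ∨ p ^ α % 10 = 9) ∧ ∃ (K : Type) (_ : Field K) (_ : Fintype K),
      Fintype.card K = 5 ∧ Nonempty (Γ ≃* PSL(2, K))) ∨
    ((p ^ α) ^ 3 % 7 = 1 ∧ ∃ (K : Type) (_ : Field K) (_ : Fintype K), Fintype.card K = 7 ∧
      Nonempty (Γ ≃* PSL(2, K))) ∨
    (p = 5 ∧ Even α ∧ (Nonempty (Γ ≃* alternatingGroup (Fin 6)) ∨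
      Nonempty (Γ ≃* alternatingGroup (Fin 7)) ∨
      ∃ L : Subgroup Γ, L.index = 2 ∧ Nonempty (L ≃* alternatingGroup (Fin 6)))) ∨
    ((p ^ α % 30 = 1 ∨ p ^ α % 30 = 19) ∧ Nonempty (Γ ≃* alternatingGroup (Fin 6))) := by
  classical
  obtain ⟨T, -, hT⟩ := exists_minN (N := (⊤ : Subgroup Γ)) inferInstance top_ne_bot
  have hP := hT.perfect hs
  let ι := algebraMap F (AlgebraicClosure F)
  by_cases hi : ρ.Irr
  swap
  · obtain ⟨j, hj⟩ := PR.red hs hi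
    rcases pgl2_case p α hF j hj hP hT.ne with h | h <;> simp only [h, true_or, or_true, and_self]
  have hi := hi.up (ι := ι) p hP hT.ne
  have hr := h.trF ι
  rcases PR.trichotomy hp hi hP hT.ne with ⟨B, B', hB, F0, H⟩ | ⟨n, hn, B, B', hB, H⟩ | hs
  · rcases H.case p hp hF (hr.cj hB) (hi.cj hB).pt hP hT.ne with h | h <;>
      simp only [h, true_or, or_true]
  · rcases H.case p hp hF (hr.cj hB) (hi.cj hB).pt hP hT.ne (by rintro rfl; simp at hn) with h | h <;>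
      simp only [h, true_or, or_true]
  haveI := hT.nor
  haveI := hi.simple hT hP
  haveI := Fintype.ofFinite T
  have S : PR.St p ((ρ.up ι).sub T) := ⟨hs.sub T, fun e => hT.ne (H9.perfect_eq_bot_of_comm hP
    fun a ha b hb => congrArg Subtype.val (e ⟨a, ha⟩ ⟨b, hb⟩))⟩
  have top : T = ⊤ → ∀ {A : Type} [Group A], Nonempty (T ≃* A) → Nonempty (Γ ≃* A) := fun e _ _ i =>
    i.map fun i => topEquiv.symm.trans ((MulEquiv.subgroupCongr e.symm).trans i)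
  have ev : p = 5 → Nat.card F % 3 = 1 → Even α := fun e h => by
    rcases Nat.even_or_odd' α with ⟨m, rfl | rfl⟩
    · simp
    · rw [hF, e, pow_succ, pow_mul, Nat.mul_mod, Nat.pow_mod] at h
      simp at h
  iterate 4 right
  rcases S.main with H | ⟨t, K, g, H⟩ | ⟨t, K, x, c, g, H⟩ | ⟨t, t1, x, c, g, t2, t3, H⟩
  · obtain ⟨j, hj⟩ := PR.real_case p hp h hT.nor hP (hi.normal hT.nor le_rfl hP hT.ne) S.sa H
    rcases pgl2_case p α hF j hj hP hT.ne with h | h <;> simp only [h, true_or, or_true, and_self]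
  · haveI : Fact (Nat.Prime 7) := ⟨by norm_num⟩
    obtain ⟨y, -, -, hy⟩ := S.frob21 H.xx H.d7 H.w3
    exact Or.inr (Or.inr (Or.inl ⟨PR.field7 (ι := ι) (h.sub T) hF H.reg (S.cyc H.xx (by norm_num) H.d7).1
      (isConj_iff.2 ⟨y, hy⟩), ZMod 7, inferInstance, inferInstance, by simp,
      top (H.top hs S) (simple168 H.card _ (by simp))⟩))
  · iterate 3 right
    have h3 := PR.RP.dvd hr (x := x) (c := c) H.rp
    by_cases h5 : p = 5
    · exact Or.inl ⟨h5, ev h5 h3, (H.top hs S).imp (fun e => top e H.iso)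
        fun e => Or.inr ⟨T, e.2, H.iso⟩⟩
    refine Or.inr ⟨?_, top ((H.top hs S).resolve_right fun e => h5 e.1) H.iso⟩
    have g5 := (S.cyc H.xx (by norm_num) H.d5).1
    have hg := (PR.reg_or_jb p S.sa H.xx.sq).resolve_right fun hj => H.xx.ne (by
      simpa [(Nat.coprime_primes (by norm_num) Fact.out).2 (Ne.symm h5)] using
        pow_gcd_eq_one.2 ⟨g5, hj.pow p S.sa (PR.self_mem_T0 g)⟩)
    have := PR.field5 (ι := ι) (h.sub T) hF hg g5 (isConj_iff.2 (H.ord g).2)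
    have h2 := Nat.odd_iff.1 ((FF.odd_iff (F := F) p).2 hp)
    rw [hF] at h2 h3
    omega
  · exact Or.inr (Or.inr (Or.inr (Or.inl ⟨H.p5, ev H.p5 (PR.RP.dvd hr (x := x) (c := c) H.ee.rp),
      Or.inr (Or.inl (top (H.top hs S) (H.iso S t2 t3)))⟩)))

end Cfsg.Agent.H6.M3
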