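import Cfsg.Agent.H6.Pg3

/-! Quaternion model of `PGL₂(F)` in odd characteristic. -/

set_option autoImplicit false

namespace Cfsg.Agent.H6.Pg

open Matrix MulAction Quaternion
open scoped MatrixGroups

/-- Generators of `A₄`. -/
structure A4D {G : Type*} [Group G] (t b : G) : Prop where
  sq : t * t = 1
  ne : t ≠ 1
  bb : b * b ≠ 1
  rel : b * (b * t * b⁻¹) * b⁻¹ = t * (b * t * b⁻¹)

namespace A4D

variable {G : Type*} [Group G] {t b : G}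

theorem map (h : A4D t b) {G' : Type*} [Group G'] (f : G →* G') (hf : Function.Injective f) :
    A4D (f t) (f b) where
  sq := by rw [← map_mul, h.sq, map_one]
  ne := (map_ne_one_iff f hf).2 h.ne
  bb := by rw [← map_mul]; exact (map_ne_one_iff f hf).2 h.bb
  rel := by simpa using congrArg f h.rel

theorem sq2 (h : A4D t b) : (b * t * b⁻¹) * (b * t * b⁻¹) = 1 := by
  rw [conj_mul, h.sq, mul_one, mul_inv_cancel]

theorem sq3 (h : A4D t b) : t * (b * t * b⁻¹) * (t * (b * t * b⁻¹)) = 1 := by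
  rw [← h.rel, conj_mul, h.sq2, mul_one, mul_inv_cancel]

theorem ne2 (h : A4D t b) : b * t * b⁻¹ ≠ 1 := by simpa using h.ne

theorem ne3 (h : A4D t b) : t * (b * t * b⁻¹) ≠ 1 := by
  rw [← h.rel, Ne, mul_inv_eq_one, mul_eq_left]; exact h.ne2

variable {p : ℕ} {X : Type*} [MulAction G X] [Finite G]

theorem not_fix (h : A4D t b) (m : Mob p G X) (hp : p ≠ 2) {x : X} (h1 : t • x = x)
    (h2 : (b * t * b⁻¹) • x = x) : False := by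
  classical
  have := Fintype.ofFinite G
  obtain ⟨k, hk⟩ := m.prime.odd_of_ne_two hp
  have hc : t * (b * t * b⁻¹) = (b * t * b⁻¹) * t := by
    rw [← inv_eq_of_mul_eq_one_right h.sq3, _root_.mul_inv_rev, inv_eq_of_mul_eq_one_right h.sq,
      inv_eq_of_mul_eq_one_right h.sq2]
  obtain ⟨y, hxy, hy⟩ := m.fix_two' (g := t) (by
    rw [hk, pow_succ, pow_mul, pow_two, h.sq, one_pow, one_mul]; exact h.ne) h1
  have h3 := ((hy _).1 (Mob.commute_fix hc ((hy y).2 (Or.inr rfl)))).resolve_left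
    fun e => hxy (smul_left_cancel _ (h2.trans e.symm))
  have := m.cyc x y hxy (stabilizer G x ⊓ stabilizer G y) inferInstance inf_le_left inf_le_right
  have h4 := IsCyclic.card_pow_eq_one_le (α := (stabilizer G x ⊓ stabilizer G y : Subgroup G))
    (n := 2) two_pos
  refine absurd h4 (not_le.2 (Finset.two_lt_card_iff.2 ⟨1, ⟨t, h1, (hy y).2 (Or.inr rfl)⟩,
    ⟨_, h2, h3⟩, by simp, ?_, ?_, ?_, ?_, ?_⟩))
  · simpa [pow_two, Subtype.ext_iff] using h.sq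
  · exact Finset.mem_filter.2 ⟨Finset.mem_univ _, Subtype.ext ((pow_two _).trans h.sq2)⟩
  · exact fun e => h.ne (congrArg Subtype.val e).symm
  · exact fun e => h.ne2 (congrArg Subtype.val e).symm
  · exact fun e => h.ne3 (by rw [← show t = b * t * b⁻¹ from congrArg Subtype.val e, h.sq])

theorem not_le_stab (h : A4D t b) (m : Mob p G X) (hp : p ≠ 2) {H : Subgroup G} (ht : t ∈ H)
    (hb : b ∈ H) (x : X) : ¬ H ≤ stabilizer G x := fun e =>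
  h.not_fix m hp (e ht) (e (mul_mem (mul_mem hb ht) (inv_mem hb)))

theorem not_le_pair (h : A4D t b) (m : Mob p G X) (hp : p ≠ 2) {H : Subgroup G} (ht : t ∈ H)
    (hb : b ∈ H) {x y : X} (hxy : x ≠ y) : ¬ H ≤ Mob.pair G x y := fun e => by
  obtain ⟨b1, b2⟩ := (e hb).resolve_right fun e => h.bb (m.sq_of_swap hxy e.1 e.2)
  have b1' : b⁻¹ • x = x := inv_smul_eq_iff.2 b1.symm
  have b2' : b⁻¹ • y = y := inv_smul_eq_iff.2 b2.symm
  rcases e ht with ⟨t1, _⟩ | ⟨t1, t2⟩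
  · exact h.not_fix m hp t1 (by rw [mul_smul, mul_smul, b1', t1, b1])
  · have := congrArg (· • x) h.rel
    simp only [mul_smul, b1', t1, t2, b2] at this
    exact hxy this.symm

end A4D

variable {F : Type*} [Field F]

theorem A4D.mem_S {t b : PGL(2, F)} (h : A4D t b) : t ∈ S F ∧ b * t * b⁻¹ ∈ S F := by
  have h2 : t * (b * t * b⁻¹) ∈ S F := by
    have := comm_mem_S b t
    rw [inv_eq_of_mul_eq_one_right h.sq] at this
    simpa only [mul_assoc] using this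
  rw [← h.rel, ← cj_eq le_rfl b, conj_mem_cj] at h2
  exact ⟨by rwa [← cj_eq le_rfl b, conj_mem_cj] at h2, h2⟩

/-- Data for a quaternion model. -/
structure QD (F : Type*) [Field F] where
  a : F
  b : F
  h : a ^ 2 + b ^ 2 = -1
  two : (2 : F) ≠ 0
  mem : ∀ L : Subfield F, a ∈ L ∧ b ∈ L

theorem QD.nonempty [Finite F] (h : Odd (Nat.card F)) : Nonempty (QD F) := by
  obtain ⟨p, _⟩ := CharP.exists F
  have := NeZero.mk (CharP.char_is_prime F p).ne_zero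
  obtain ⟨a, b, hab⟩ := CharP.sq_add_sq F p (-1)
  exact ⟨⟨a, b, by simpa using hab, FF.two_ne_zero h, fun L => ⟨natCast_mem L a, natCast_mem L b⟩⟩⟩

namespace QD

variable (D : QD F)

/-- matrix of a quaternion -/
def ρ (u : ℍ[F]) : Matrix (Fin 2) (Fin 2) F :=
  !![u.re + u.imJ * D.a - u.imK * D.b, -u.imI + u.imJ * D.b + u.imK * D.a;
    u.imI + u.imJ * D.b + u.imK * D.a, u.re - u.imJ * D.a + u.imK * D.b]

theorem ρ_mul (u v : ℍ[F]) : D.ρ u * D.ρ v = D.ρ (u * v) := by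
  have := D.h
  ext i j
  fin_cases i <;> fin_cases j <;> simp [ρ, mul_apply, Fin.sum_univ_two] <;> grind

theorem det_ρ (u : ℍ[F]) : (D.ρ u).det = normSq u := by
  have := D.h
  rw [normSq_def']
  simp [ρ, det_fin_two]
  grind

/-- element of `PGL₂` given by a quaternion -/
noncomputable def qt (u : ℍ[F]) : PGL(2, F) := pg (D.ρ u)

theorem qt_mul {u v : ℍ[F]} (hu : normSq u ≠ 0) (hv : normSq v ≠ 0) :
    D.qt u * D.qt v = D.qt (u * v) := by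
  rw [qt, qt, qt, pg_mul (by rwa [det_ρ]) (by rwa [det_ρ]), ρ_mul]

theorem qt_smul {c : F} (hc : c ≠ 0) (u : ℍ[F]) : D.qt (c • u) = D.qt u := by
  rw [qt, qt, ← pg_smul hc (D.ρ u)]
  congr 1
  ext i j
  fin_cases i <;> fin_cases j <;> simp [ρ] <;> ring

theorem qt_neg (u : ℍ[F]) : D.qt (-u) = D.qt u := by
  rw [← neg_one_smul F, qt_smul _ (by simp)]

theorem exists_ρ (A : Matrix (Fin 2) (Fin 2) F) : ∃ u, D.ρ u = A := by
  have := D.h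
  have := D.two
  refine ⟨⟨(A 0 0 + A 1 1) / 2, (A 1 0 - A 0 1) / 2,
    -(D.a * (A 0 0 - A 1 1) + D.b * (A 0 1 + A 1 0)) / 2,
    (D.b * (A 0 0 - A 1 1) - D.a * (A 0 1 + A 1 0)) / 2⟩, ?_⟩
  ext i j
  fin_cases i <;> fin_cases j <;> simp [ρ] <;> field_simp <;> grind

theorem exists_qt (g : PGL(2, F)) : ∃ u, normSq u ≠ 0 ∧ D.qt u = g := by
  obtain ⟨A, hA, rfl⟩ := exists_pg g
  obtain ⟨u, rfl⟩ := D.exists_ρ A
  exact ⟨u, by rwa [← det_ρ], rfl⟩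

theorem exists_qt_S {g : PGL(2, F)} (hg : g ∈ S F) : ∃ u, normSq u = 1 ∧ D.qt u = g := by
  obtain ⟨A, hA, rfl⟩ := mem_S.1 hg
  obtain ⟨u, rfl⟩ := D.exists_ρ A
  exact ⟨u, by rwa [← det_ρ], rfl⟩

theorem tau_qt {u : ℍ[F]} (hu : normSq u ≠ 0) : tau (D.qt u) = (2 * u.re) ^ 2 / normSq u := by
  rw [qt, tau_pg (by rwa [det_ρ]), det_ρ, trace_fin_two]
  simp only [ρ, Fin.isValue, of_apply, cons_val', cons_val_zero, cons_val_fin_one, cons_val_one]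
  ring

theorem qt_mem_S {u : ℍ[F]} (hu : normSq u ≠ 0) : D.qt u ∈ S F ↔ IsSquare (normSq u) := by
  rw [qt, pg_mem_S (by rwa [det_ρ]), det_ρ]

theorem qt_ne_one {u : ℍ[F]} (hu : normSq u ≠ 0) (h : u.imI ≠ 0) : D.qt u ≠ 1 := by
  rw [qt, Ne, pg_eq_one (by rwa [det_ρ])]
  rintro ⟨h1, h2, -⟩
  simp only [ρ, Fin.isValue, of_apply, cons_val', cons_val_zero, cons_val_fin_one,
    cons_val_one] at h1 h2
  exact mul_ne_zero D.two h (by linear_combination h2 - h1)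

theorem qt_mem_PG {L : Subfield F} {u : ℍ[F]} (hu : normSq u ≠ 0) (h0 : u.re ∈ L) (h1 : u.imI ∈ L)
    (h2 : u.imJ ∈ L) (h3 : u.imK ∈ L) : D.qt u ∈ PG L := by
  obtain ⟨ha, hb⟩ := D.mem L
  refine mem_PG.2 ⟨_, by rwa [det_ρ], fun i j => ?_, rfl⟩
  fin_cases i <;> fin_cases j <;> simp only [ρ, Fin.zero_eta, Fin.mk_one, Fin.isValue, of_apply,
    cons_val', cons_val_zero, cons_val_one, cons_val_fin_one] <;>
    apply_rules [add_mem, sub_mem, mul_mem, neg_mem]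

theorem qt_conj {h u v : ℍ[F]} (hh : normSq h ≠ 0) (hu : normSq u ≠ 0) (hv : normSq v ≠ 0)
    (e : h * u = v * h ∨ h * u = -(v * h)) : D.qt h * D.qt u * (D.qt h)⁻¹ = D.qt v := by
  rw [mul_inv_eq_iff_eq_mul, D.qt_mul hh hu, D.qt_mul hv hh]
  rcases e with e | e <;> rw [e]
  exact D.qt_neg _

end QD

/-- constructor -/
def mkq (a b c d : F) : ℍ[F] := ⟨a, b, c, d⟩

@[simp] theorem mkq_re (a b c d : F) : (mkq a b c d).re = a := rfl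
@[simp] theorem mkq_imI (a b c d : F) : (mkq a b c d).imI = b := rfl
@[simp] theorem mkq_imJ (a b c d : F) : (mkq a b c d).imJ = c := rfl
@[simp] theorem mkq_imK (a b c d : F) : (mkq a b c d).imK = d := rfl

/-- `i` -/
def qi : ℍ[F] := mkq 0 1 0 0
/-- `j` -/
def qj : ℍ[F] := mkq 0 0 1 0
/-- `k` -/
def qk : ℍ[F] := mkq 0 0 0 1
/-- `1 + i + j + k` -/
def qb : ℍ[F] := mkq 1 1 1 1
/-- `1 + i` -/
def q4 : ℍ[F] := mkq 1 1 0 0
/-- `i - j` -/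
def qs : ℍ[F] := mkq 0 1 (-1) 0
/-- element of order five -/
def qc (φ : F) : ℍ[F] := mkq φ (φ - 1) 1 0

theorem n_qi : normSq (qi : ℍ[F]) = 1 := by simp [normSq_def', qi]
theorem n_qj : normSq (qj : ℍ[F]) = 1 := by simp [normSq_def', qj]
theorem n_qk : normSq (qk : ℍ[F]) = 1 := by simp [normSq_def', qk]
theorem n_qb : normSq (qb : ℍ[F]) = 2 * 2 := by simp [normSq_def', qb]; norm_num
theorem n_q4 : normSq (q4 : ℍ[F]) = 2 := by simp [normSq_def', q4]; norm_num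
theorem n_qs : normSq (qs : ℍ[F]) = 2 := by simp [normSq_def', qs]; norm_num
theorem n_qc {φ : F} (h : φ ^ 2 = φ + 1) : normSq (qc φ) = 2 * 2 := by
  simp [normSq_def', qc]; linear_combination 2 * h

namespace QD

variable (D : QD F)

theorem z_qi : normSq (qi : ℍ[F]) ≠ 0 := by simp [n_qi]
theorem z_qj : normSq (qj : ℍ[F]) ≠ 0 := by simp [n_qj]
theorem z_qk : normSq (qk : ℍ[F]) ≠ 0 := by simp [n_qk]
include D in
theorem z_qb : normSq (qb : ℍ[F]) ≠ 0 := by simp [n_qb, D.two]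
include D in
theorem z_q4 : normSq (q4 : ℍ[F]) ≠ 0 := by simp [n_q4, D.two]
include D in
theorem z_qs : normSq (qs : ℍ[F]) ≠ 0 := by simp [n_qs, D.two]
include D in
theorem z_qc {φ : F} (h : φ ^ 2 = φ + 1) : normSq (qc φ) ≠ 0 := by simp [n_qc h, D.two]

theorem i_mul_j : D.qt qi * D.qt qj = D.qt qk := by
  rw [D.qt_mul z_qi z_qj]; congr 1; ext <;> simp [qi, qj, qk]

theorem b_i : D.qt qb * D.qt qi * (D.qt qb)⁻¹ = D.qt qj :=
  D.qt_conj D.z_qb z_qi z_qj (Or.inl (by ext <;> simp [qi, qj, qb]))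

theorem b_j : D.qt qb * D.qt qj * (D.qt qb)⁻¹ = D.qt qk :=
  D.qt_conj D.z_qb z_qj z_qk (Or.inl (by ext <;> simp [qj, qk, qb]))

theorem i_ne_one : D.qt qi ≠ 1 := D.qt_ne_one z_qi (by simp [qi])

theorem order_i : orderOf (D.qt qi) = 2 :=
  orderOf_eq_prime ((pow_two_iff D.i_ne_one).2 (by rw [D.tau_qt z_qi]; simp [qi])) D.i_ne_one

theorem order_b : orderOf (D.qt qb) = 3 := by
  have h := D.qt_ne_one D.z_qb (by simp [qb])
  refine orderOf_eq_prime ((pow_three_iff h).2 ?_) h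
  rw [D.tau_qt D.z_qb, n_qb, div_eq_iff (by simp [D.two])]; simp [qb, sq]

theorem order_4 : orderOf (D.qt q4) = 4 := by
  have h := D.qt_ne_one D.z_q4 (by simp [q4])
  have ht : tau (D.qt q4) = 2 := by
    rw [D.tau_qt D.z_q4, n_q4, div_eq_iff D.two]; simp [q4, sq]
  exact orderOf_eq_prime_pow (p := 2) (n := 1)
    (by rw [pow_one, pow_two_iff h, ht]; exact D.two) ((pow_four_iff h).2 (Or.inr ht))

theorem order_c {φ : F} (hφ : φ ^ 2 = φ + 1) : orderOf (D.qt (qc φ)) = 5 := by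
  have h := D.qt_ne_one (D.z_qc hφ) (fun e : φ - 1 = 0 => by grind)
  have := Fact.mk Nat.prime_five
  refine orderOf_eq_prime ((pow_five_iff h).2 ?_) h
  have := D.two
  have ht : tau (D.qt (qc φ)) = φ ^ 2 := by
    rw [D.tau_qt (D.z_qc hφ), n_qc hφ]; simp only [qc, mkq_re]; field_simp
  rw [ht]; grind

theorem a4d : A4D (D.qt qi) (D.qt qb) where
  sq := by rw [← pow_two]; exact orderOf_dvd_iff_pow_eq_one.1 D.order_i.dvd
  ne := D.i_ne_one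
  bb := by
    rw [← pow_two]; exact pow_ne_one_of_lt_orderOf two_ne_zero (by rw [D.order_b]; norm_num)
  rel := by rw [b_i, b_j, i_mul_j]

theorem i_mem_S : D.qt qi ∈ S F := D.a4d.mem_S.1
theorem j_mem_S : D.qt qj ∈ S F := D.b_i ▸ D.a4d.mem_S.2
theorem k_mem_S : D.qt qk ∈ S F := D.i_mul_j ▸ mul_mem D.i_mem_S D.j_mem_S
theorem b_mem_S : D.qt qb ∈ S F := (D.qt_mem_S D.z_qb).2 ⟨2, n_qb⟩
theorem c_mem_S {φ : F} (hφ : φ ^ 2 = φ + 1) : D.qt (qc φ) ∈ S F :=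
  (D.qt_mem_S (D.z_qc hφ)).2 ⟨2, n_qc hφ⟩

include D in
theorem conj_pure {u v : ℍ[F]} (hu : normSq u = 1) (hv : normSq v = 1) (h1 : u.re = 0)
    (h2 : v.re = 0) : ∃ h, normSq h ≠ 0 ∧ (h = u + v ∨ h = u - v) ∧
      (h * u = v * h ∨ h * u = -(v * h)) := by
  rw [normSq_def'] at hu hv
  by_cases h : normSq (u + v) = 0
  · refine ⟨u - v, fun e => mul_ne_zero D.two D.two ?_, Or.inr rfl, Or.inr ?_⟩
    · rw [normSq_def'] at h e
      simp only [re_add, imI_add, imJ_add, imK_add, re_sub, imI_sub, imJ_sub, imK_sub] at h e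
      linear_combination h + e - 2 * hu - 2 * hv
    · ext <;> simp [h1, h2] <;> grind
  · refine ⟨u + v, h, Or.inl rfl, Or.inl ?_⟩
    ext <;> simp [h1, h2] <;> grind

theorem re_eq_zero {u : ℍ[F]} (hu : normSq u ≠ 0) (h1 : D.qt u ≠ 1) (h2 : D.qt u * D.qt u = 1) :
    u.re = 0 := by
  rw [← pow_two, pow_two_iff h1, D.tau_qt hu] at h2
  simpa [hu, D.two] using h2

theorem normalize {t b : PGL(2, F)} (h : A4D t b) :
    ∃ g, g * t * g⁻¹ = D.qt qi ∧ g * (b * t * b⁻¹) * g⁻¹ = D.qt qj := by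
  obtain ⟨u, hu, rfl⟩ := D.exists_qt_S h.mem_S.1
  have hu' : normSq u ≠ 0 := by simp [hu]
  obtain ⟨g, hg, -, e⟩ := D.conj_pure hu n_qi (D.re_eq_zero hu' h.ne h.sq) rfl
  have e1 := D.qt_conj hg hu' z_qi e
  have h' := h.map (MulAut.conj (D.qt g)).toMonoidHom (MulAut.conj _).injective
  simp only [MulEquiv.coe_toMonoidHom, MulAut.conj_apply, e1] at h'
  obtain ⟨v, hv, e2⟩ := D.exists_qt_S h'.mem_S.2
  have hv' : normSq v ≠ 0 := by simp [hv]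
  have h1 := D.re_eq_zero hv' (e2 ▸ h'.ne2) (e2 ▸ h'.sq2)
  have h2 := D.re_eq_zero (u := qi * v) (by simp [n_qi, hv]) (by
    rw [← D.qt_mul z_qi hv', e2]; exact h'.ne3) (by rw [← D.qt_mul z_qi hv', e2]; exact h'.sq3)
  have h3 : v.imI = 0 := by simpa [qi] using h2
  obtain ⟨k, hk, e3, e4⟩ := D.conj_pure hv n_qj h1 rfl
  refine ⟨D.qt k * D.qt g, ?_, ?_⟩
  · rw [← D.qt_conj hk z_qi z_qi (Or.inr (by
      rcases e3 with rfl | rfl <;> ext <;> simp [qi, qj, h1, h3])), ← e1]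
    group
  · rw [← D.qt_conj hk hv' z_qj e4, e2, ← e1]
    group

theorem coord {L : Subfield F} {g : PGL(2, F)} {δ : F}
    (h0 : ∃ s ∈ L, tau g = δ * s ^ 2) (h1 : ∃ s ∈ L, tau (g * D.qt qi) = δ * s ^ 2)
    (h2 : ∃ s ∈ L, tau (g * D.qt qj) = δ * s ^ 2) (h3 : ∃ s ∈ L, tau (g * D.qt qk) = δ * s ^ 2) :
    g ∈ PG L := by
  obtain ⟨u, hu, rfl⟩ := D.exists_qt g
  rw [D.tau_qt hu] at h0
  rw [D.qt_mul hu z_qi, D.tau_qt (by simpa [n_qi]), map_mul, n_qi, mul_one] at h1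
  rw [D.qt_mul hu z_qj, D.tau_qt (by simpa [n_qj]), map_mul, n_qj, mul_one] at h2
  rw [D.qt_mul hu z_qk, D.tau_qt (by simpa [n_qk]), map_mul, n_qk, mul_one] at h3
  have key : ∀ c x : F, c ≠ 0 → (∃ s ∈ L, (2 * c) ^ 2 / normSq u = δ * s ^ 2) →
      (∃ s ∈ L, (2 * x) ^ 2 / normSq u = δ * s ^ 2) → c⁻¹ * x ∈ L := by
    rintro c x hc ⟨s, hs, e⟩ ⟨s', hs', e'⟩
    have h2 := D.two
    have hs0 : s ≠ 0 := by rintro rfl; simp [hu, hc, h2] at e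
    rw [div_eq_iff hu] at e e'
    have : (c⁻¹ * x) ^ 2 = (s' / s) ^ 2 := by
      field_simp
      apply mul_left_cancel₀ (mul_ne_zero h2 h2)
      linear_combination s ^ 2 * e' - s' ^ 2 * e
    rcases sq_eq_sq_iff_eq_or_eq_neg.1 this with e | e <;> rw [e]
    exacts [div_mem hs' hs, neg_mem (div_mem hs' hs)]
  have h1' : ∃ s ∈ L, (2 * u.imI) ^ 2 / normSq u = δ * s ^ 2 := by simpa [qi] using h1
  have h2' : ∃ s ∈ L, (2 * u.imJ) ^ 2 / normSq u = δ * s ^ 2 := by simpa [qj] using h2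
  have h3' : ∃ s ∈ L, (2 * u.imK) ^ 2 / normSq u = δ * s ^ 2 := by simpa [qk] using h3
  obtain ⟨c, hc, hc'⟩ : ∃ c : F, c ≠ 0 ∧ ∃ s ∈ L, (2 * c) ^ 2 / normSq u = δ * s ^ 2 := by
    by_contra hn
    push Not at hn
    apply hu
    rw [normSq_def', show u.re = 0 by grind, show u.imI = 0 by grind, show u.imJ = 0 by grind,
      show u.imK = 0 by grind]
    simp
  rw [← D.qt_smul (inv_ne_zero hc)]
  exact D.qt_mem_PG (by simpa [normSq_smul, hc]) (key _ _ hc hc' h0) (key _ _ hc hc' h1')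
    (key _ _ hc hc' h2') (key _ _ hc hc' h3')

/-- normalizer of the standard four-group -/
noncomputable def N0 : Subgroup PGL(2, F) :=
  Subgroup.normalizer ({D.qt qi, D.qt qj, D.qt qk} : Set PGL(2, F))

theorem mem_N0 {g : PGL(2, F)}
    (h1 : g * D.qt qi * g⁻¹ ∈ ({D.qt qi, D.qt qj, D.qt qk} : Set PGL(2, F)))
    (h2 : g * D.qt qj * g⁻¹ ∈ ({D.qt qi, D.qt qj, D.qt qk} : Set PGL(2, F)))
    (h3 : g * D.qt qk * g⁻¹ ∈ ({D.qt qi, D.qt qj, D.qt qk} : Set PGL(2, F))) : g ∈ D.N0 :=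
  Subgroup.mem_normalizer_fintype (by rintro _ (rfl | rfl | rfl) <;> assumption)

theorem mem_N0' {h : ℍ[F]} (hh : normSq h ≠ 0)
    (e : ∀ u ∈ ({qi, qj, qk} : Set ℍ[F]), ∃ v ∈ ({qi, qj, qk} : Set ℍ[F]),
      h * u = v * h ∨ h * u = -(v * h)) : D.qt h ∈ D.N0 := by
  have hz : ∀ u ∈ ({qi, qj, qk} : Set ℍ[F]), normSq u ≠ 0 := by
    rintro _ (rfl | rfl | rfl)
    exacts [z_qi, z_qj, z_qk]
  have : ∀ u ∈ ({qi, qj, qk} : Set ℍ[F]),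
      D.qt h * D.qt u * (D.qt h)⁻¹ ∈ ({D.qt qi, D.qt qj, D.qt qk} : Set PGL(2, F)) := fun u hu => by
    obtain ⟨v, hv, e⟩ := e u hu
    rw [D.qt_conj hh (hz u hu) (hz v hv) e]
    rcases hv with rfl | rfl | rfl <;> simp
  exact D.mem_N0 (this _ (by simp)) (this _ (by simp)) (this _ (by simp))

theorem i_mem_N0 : D.qt qi ∈ D.N0 :=
  D.mem_N0' z_qi (by
    simp only [Set.mem_insert_iff, Set.mem_singleton_iff, forall_eq_or_imp, forall_eq,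
      exists_eq_or_imp, exists_eq_left]
    simp [qi, qj, qk, Quaternion.ext_iff])
theorem b_mem_N0 : D.qt qb ∈ D.N0 :=
  D.mem_N0' D.z_qb (by
    simp only [Set.mem_insert_iff, Set.mem_singleton_iff, forall_eq_or_imp, forall_eq,
      exists_eq_or_imp, exists_eq_left]
    simp [qi, qj, qk, qb, Quaternion.ext_iff])
theorem q4_mem_N0 : D.qt q4 ∈ D.N0 :=
  D.mem_N0' D.z_q4 (by
    simp only [Set.mem_insert_iff, Set.mem_singleton_iff, forall_eq_or_imp, forall_eq,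
      exists_eq_or_imp, exists_eq_left]
    simp [qi, qj, qk, q4, Quaternion.ext_iff])
theorem s_mem_N0 : D.qt qs ∈ D.N0 :=
  D.mem_N0' D.z_qs (by
    simp only [Set.mem_insert_iff, Set.mem_singleton_iff, forall_eq_or_imp, forall_eq,
      exists_eq_or_imp, exists_eq_left]
    simp [qi, qj, qk, qs, Quaternion.ext_iff])
theorem j_mem_N0 : D.qt qj ∈ D.N0 :=
  D.b_i ▸ mul_mem (mul_mem D.b_mem_N0 D.i_mem_N0) (inv_mem D.b_mem_N0)

theorem inv_conj {s u : ℍ[F]} (hs : normSq s ≠ 0) (hu : normSq u ≠ 0) (e : s * u = star u * s) :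
    D.qt s * D.qt u * (D.qt s)⁻¹ = (D.qt u)⁻¹ := by
  rw [D.qt_conj hs hu (by rwa [normSq_star]) (Or.inl e), eq_inv_iff_mul_eq_one,
    D.qt_mul (by rwa [normSq_star]) hu, star_mul_self, qt,
    pg_eq_one (by simpa [det_ρ, normSq_coe])]
  simp [ρ]

theorem not_S_le_N0 [Finite F] (h4 : 4 ≤ Nat.card F) : ¬ S F ≤ D.N0 := fun hle => by
  classical
  obtain ⟨p, _⟩ := CharP.exists F
  have hp := Fact.mk (CharP.char_is_prime F p)
  have := Mob.card_le_of_fibers (((mobF F p).subgroup (S F)).P (rat OnePoint.infty)) ⊥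
    (fun g => g.1 * D.qt qi * g.1⁻¹) {D.qt qi, D.qt qj, D.qt qk}
    (fun g _ => by simpa using ((hle g.2) (D.qt qi)).1 (by simp)) (fun g hg g' hg' e => by
      have hu := mul_mem (inv_mem hg) hg'
      by_contra hne
      have h1 := (mobF F p).pow_of_commute (u := (g⁻¹ * g').1) (g := D.qt qi)
        (fun e => hne (Subtype.ext e)) (congrArg Subtype.val hu.2) (by
          calc D.qt qi * (g.1⁻¹ * g'.1) = g.1⁻¹ * (g.1 * D.qt qi * g.1⁻¹) * g'.1 := by group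
            _ = _ := by rw [e]; push_cast; group)
      rw [← orderOf_dvd_iff_pow_eq_one, order_i, Nat.prime_dvd_prime_iff_eq Nat.prime_two hp.1]
        at h1
      subst h1
      exact D.two (CharP.cast_eq_zero F 2))
  rw [card_P le_rfl, Subgroup.card_bot, one_mul] at this
  have := this.trans Finset.card_le_three
  omega

end QD

/-- quaternions over `ℤ[φ]` -/
structure Z8 where
  (a a' b b' c c' d d' : ℤ)
  deriving DecidableEq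

namespace Z8

/-- product -/
def mul (x y : Z8) : Z8 :=
  let m (u u' v v' : ℤ) : ℤ := u * v + u' * v'
  let n (u u' v v' : ℤ) : ℤ := u * v' + u' * v + u' * v'
  ⟨m x.a x.a' y.a y.a' - m x.b x.b' y.b y.b' - m x.c x.c' y.c y.c' - m x.d x.d' y.d y.d',
   n x.a x.a' y.a y.a' - n x.b x.b' y.b y.b' - n x.c x.c' y.c y.c' - n x.d x.d' y.d y.d',
   m x.a x.a' y.b y.b' + m x.b x.b' y.a y.a' + m x.c x.c' y.d y.d' - m x.d x.d' y.c y.c',
   n x.a x.a' y.b y.b' + n x.b x.b' y.a y.a' + n x.c x.c' y.d y.d' - n x.d x.d' y.c y.c',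
   m x.a x.a' y.c y.c' - m x.b x.b' y.d y.d' + m x.c x.c' y.a y.a' + m x.d x.d' y.b y.b',
   n x.a x.a' y.c y.c' - n x.b x.b' y.d y.d' + n x.c x.c' y.a y.a' + n x.d x.d' y.b y.b',
   m x.a x.a' y.d y.d' + m x.b x.b' y.c y.c' - m x.c x.c' y.b y.b' + m x.d x.d' y.a y.a',
   n x.a x.a' y.d y.d' + n x.b x.b' y.c y.c' - n x.c x.c' y.b y.b' + n x.d x.d' y.a y.a'⟩

/-- scalar multiple -/
def sm (k : ℤ) (x : Z8) : Z8 :=
  ⟨k * x.a, k * x.a', k * x.b, k * x.b', k * x.c, k * x.c', k * x.d, k * x.d'⟩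

/-- evaluation -/
def ev (φ : F) (x : Z8) : ℍ[F] :=
  mkq (x.a + x.a' * φ) (x.b + x.b' * φ) (x.c + x.c' * φ) (x.d + x.d' * φ)

theorem ev_mul {φ : F} (h : φ ^ 2 = φ + 1) (x y : Z8) : ev φ (mul x y) = ev φ x * ev φ y := by
  ext <;> simp [ev, mul] <;> grind

theorem ev_sm (φ : F) (k : ℤ) (x : Z8) : ev φ (sm k x) = (k : F) • ev φ x := by
  ext <;> simp [ev, sm] <;> ring

/-- the icosians modulo sign -/
def T : List Z8 := [
    ⟨2, 0, 0, 0, 0, 0, 0, 0⟩, ⟨0, 0, 2, 0, 0, 0, 0, 0⟩, ⟨1, 0, 1, 0, 1, 0, 1, 0⟩,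
    ⟨0, 1, -1, 1, 1, 0, 0, 0⟩, ⟨1, 0, -1, 0, -1, 0, 1, 0⟩, ⟨1, -1, 0, 1, 0, 0, -1, 0⟩,
    ⟨1, 0, -1, 0, 1, 0, -1, 0⟩, ⟨1, 0, -1, 0, -1, 0, -1, 0⟩, ⟨0, 0, 0, 1, 1, 0, -1, 1⟩,
    ⟨1, -1, 0, 1, 0, 0, 1, 0⟩, ⟨0, 0, 1, -1, 0, -1, -1, 0⟩, ⟨1, -1, -1, 0, 0, -1, 0, 0⟩,
    ⟨1, 0, 1, 0, -1, 0, -1, 0⟩, ⟨1, 0, 1, 0, -1, 0, 1, 0⟩, ⟨0, 1, 0, 0, 1, -1, 1, 0⟩,
    ⟨0, 1, -1, 1, -1, 0, 0, 0⟩, ⟨1, -1, 0, 0, 1, 0, 0, -1⟩, ⟨1, 0, 1, -1, 0, 0, 0, 1⟩,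
    ⟨1, 0, -1, 0, 1, 0, 1, 0⟩, ⟨1, -1, 1, 0, 0, -1, 0, 0⟩, ⟨1, 0, 1, 0, 1, 0, -1, 0⟩,
    ⟨0, 1, -1, 0, 0, 0, 1, -1⟩, ⟨0, 1, 0, 0, -1, 1, -1, 0⟩, ⟨0, 1, 1, -1, -1, 0, 0, 0⟩,
    ⟨1, 0, 0, -1, 1, -1, 0, 0⟩, ⟨0, 1, -1, 0, 0, 0, -1, 1⟩, ⟨1, 0, 0, -1, -1, 1, 0, 0⟩,
    ⟨1, -1, 0, 0, -1, 0, 0, 1⟩, ⟨0, 1, 0, 0, 1, -1, -1, 0⟩, ⟨1, 0, 1, -1, 0, 0, 0, -1⟩,
    ⟨1, 0, 0, 0, 0, -1, 1, -1⟩, ⟨1, -1, 1, 0, 0, 1, 0, 0⟩, ⟨1, 0, -1, 1, 0, 0, 0, -1⟩,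
    ⟨1, 0, 0, 1, 1, -1, 0, 0⟩, ⟨0, 0, 0, 1, -1, 0, 1, -1⟩, ⟨1, -1, 0, -1, 0, 0, -1, 0⟩,
    ⟨0, 1, 1, 0, 0, 0, -1, 1⟩, ⟨1, 0, 0, 1, -1, 1, 0, 0⟩, ⟨0, 1, 1, 0, 0, 0, 1, -1⟩,
    ⟨0, 0, 1, -1, 0, 1, 1, 0⟩, ⟨0, 0, 0, 1, -1, 0, -1, 1⟩, ⟨1, -1, -1, 0, 0, 1, 0, 0⟩,
    ⟨0, 0, 1, 0, 1, -1, 0, 1⟩, ⟨1, 0, -1, 1, 0, 0, 0, 1⟩, ⟨0, 0, 0, 0, 0, 0, 2, 0⟩,
    ⟨1, -1, 0, 0, -1, 0, 0, -1⟩, ⟨0, 0, 1, 0, 1, -1, 0, -1⟩, ⟨0, 0, 0, 0, 2, 0, 0, 0⟩,
    ⟨0, 0, 1, -1, 0, -1, 1, 0⟩, ⟨0, 1, 0, 0, -1, 1, 1, 0⟩, ⟨0, 1, 1, -1, 1, 0, 0, 0⟩,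
    ⟨1, 0, 0, 0, 0, 1, -1, 1⟩, ⟨1, 0, 0, 0, 0, 1, 1, -1⟩, ⟨1, -1, 0, -1, 0, 0, 1, 0⟩,
    ⟨0, 0, 1, -1, 0, 1, -1, 0⟩, ⟨0, 0, 0, 1, 1, 0, 1, -1⟩, ⟨0, 0, 1, 0, -1, 1, 0, -1⟩,
    ⟨1, -1, 0, 0, 1, 0, 0, 1⟩, ⟨0, 0, 1, 0, -1, 1, 0, 1⟩, ⟨1, 0, 0, 0, 0, -1, -1, 1⟩]

theorem closed : ∀ g ∈ [(⟨0, 0, 1, 0, 0, 0, 0, 0⟩ : Z8), ⟨1, 0, 1, 0, 1, 0, 1, 0⟩,
    ⟨0, 1, -1, 1, 1, 0, 0, 0⟩], ∀ x ∈ T, ∃ y ∈ T, ∃ k ∈ [1, -1, 2, -2], mul g x = sm k y := by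
  decide +kernel

end Z8

namespace QD

variable (D : QD F)

/-- the icosahedral group -/
noncomputable def Ico (φ : F) : Subgroup PGL(2, F) :=
  Subgroup.closure {D.qt qi, D.qt qb, D.qt (qc φ)}

theorem i_mem_Ico (φ : F) : D.qt qi ∈ D.Ico φ := Subgroup.subset_closure (by simp)
theorem b_mem_Ico (φ : F) : D.qt qb ∈ D.Ico φ := Subgroup.subset_closure (by simp)
theorem c_mem_Ico (φ : F) : D.qt (qc φ) ∈ D.Ico φ := Subgroup.subset_closure (by simp)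

theorem Ico_le_S {φ : F} (hφ : φ ^ 2 = φ + 1) : D.Ico φ ≤ S F :=
  (Subgroup.closure_le _).2 (by
    rintro _ (rfl | rfl | rfl)
    exacts [D.i_mem_S, D.b_mem_S, D.c_mem_S hφ])

theorem card_Ico [Finite F] {φ : F} (hφ : φ ^ 2 = φ + 1) : Nat.card (D.Ico φ) ≤ 60 := by
  classical
  have h2 := D.two
  have key : ∀ g ∈ D.Ico φ, ∃ x ∈ Z8.T, normSq (x.ev φ) ≠ 0 ∧ D.qt (x.ev φ) = g := by
    intro g hg
    rw [Ico, ← Subgroup.mem_toSubmonoid, Subgroup.closure_toSubmonoid_of_finite] at hg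
    induction hg using Submonoid.closure_induction_left with
    | one =>
      refine ⟨⟨2, 0, 0, 0, 0, 0, 0, 0⟩, by decide, by simpa [normSq_def', Z8.ev], ?_⟩
      rw [qt, pg_eq_one (by simpa [det_ρ, normSq_def', Z8.ev])]
      simp [ρ, Z8.ev]
    | mul_left s hs g _ ih =>
      obtain ⟨x, hx, hx0, rfl⟩ := ih
      obtain ⟨t, ht, ht0, rfl⟩ : ∃ t ∈ [(⟨0, 0, 1, 0, 0, 0, 0, 0⟩ : Z8), ⟨1, 0, 1, 0, 1, 0, 1, 0⟩,
          ⟨0, 1, -1, 1, 1, 0, 0, 0⟩], normSq (t.ev φ) ≠ 0 ∧ D.qt (t.ev φ) = s := by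
        have e1 : Z8.ev φ ⟨0, 0, 1, 0, 0, 0, 0, 0⟩ = qi := by ext <;> simp [Z8.ev, qi]
        have e2 : Z8.ev φ ⟨1, 0, 1, 0, 1, 0, 1, 0⟩ = qb := by ext <;> simp [Z8.ev, qb]
        have e3 : Z8.ev φ ⟨0, 1, -1, 1, 1, 0, 0, 0⟩ = qc φ := by
          ext <;> simp [Z8.ev, qc, neg_add_eq_sub]
        rcases hs with rfl | rfl | rfl
        exacts [⟨_, by simp, e1 ▸ z_qi, by rw [e1]⟩, ⟨_, by simp, e2 ▸ D.z_qb, by rw [e2]⟩,
          ⟨_, by simp, e3 ▸ D.z_qc hφ, by rw [e3]⟩]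
      obtain ⟨y, hy, k, hk, e⟩ := Z8.closed t ht x hx
      have e' := congrArg (Z8.ev φ) e
      rw [Z8.ev_mul hφ, Z8.ev_sm] at e'
      have hk0 : (k : F) ≠ 0 := by
        simp only [List.mem_cons, List.not_mem_nil, or_false] at hk
        rcases hk with rfl | rfl | rfl | rfl <;> simp [h2]
      refine ⟨y, hy, fun e0 => mul_ne_zero ht0 hx0 ?_, ?_⟩
      · rw [← map_mul, e', normSq_smul, e0, mul_zero]
      · rw [D.qt_mul ht0 hx0, e', D.qt_smul hk0]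
  have := Mob.card_le_of_fibers (D.Ico φ) ⊥ id (Z8.T.map fun x => D.qt (x.ev φ)).toFinset
    (fun g hg => by
      obtain ⟨x, hx, -, e⟩ := key g hg
      exact List.mem_toFinset.2 (List.mem_map.2 ⟨x, hx, e⟩))
    (fun g _ g' _ e => by simpa [inv_mul_eq_one] using e)
  rw [Subgroup.card_bot, one_mul] at this
  exact this.trans ((List.toFinset_card_le _).trans (by rw [List.length_map]; decide))

end QD

end Cfsg.Agent.H6.Pg
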