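import Mathlib

/-! Stabilizers of uniform partitions in symmetric and alternating groups. -/

set_option autoImplicit false

namespace Cfsg.Agent.H6.Wreath

open Equiv

variable {Ω ι : Type*}

/-- The stabilizer of the partition into the fibres of `f`. -/
def partStab (f : Ω → ι) : Subgroup (Perm Ω) where
  carrier := {g : Perm Ω | ∀ x y : Ω, f x = f y ↔ f (g x) = f (g y)}
  one_mem' := fun _ _ => Iff.rfl
  mul_mem' := fun {a b} ha hb x y => (hb x y).trans (ha _ _)
  inv_mem' := fun {a} ha x y => by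
    have := ha (a⁻¹ x) (a⁻¹ y)
    simpa using this.symm

theorem mem_partStab {f : Ω → ι} {g : Perm Ω} :
    g ∈ partStab f ↔ ∀ x y : Ω, f x = f y ↔ f (g x) = f (g y) := Iff.rfl

theorem closure_eq (f : Ω → ι) :
    Subgroup.closure {g : Perm Ω | ∀ x y : Ω, f x = f y ↔ f (g x) = f (g y)} = partStab f :=
  Subgroup.closure_eq (partStab f)

theorem swap_mem [DecidableEq Ω] {f : Ω → ι} {u v : Ω} (h : f u = f v) :
    swap u v ∈ partStab f := by
  have : ∀ x, f (swap u v x) = f x := by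
    intro x
    rw [swap_apply_def]
    split_ifs with h1 h2
    · rw [h1, h]
    · rw [h2, h]
    · rfl
  intro x y
  rw [this, this]

theorem exists_lift [Finite Ω] {f : Ω → ι} {a : ℕ} (hf : ∀ i, Nat.card {x : Ω // f x = i} = a)
    (π : Perm ι) : ∃ w : Perm Ω, w ∈ partStab f ∧ ∀ x, f (w x) = π (f x) := by
  have e : ∀ c, {x : Ω // π (f x) = c} ≃ {x : Ω // f x = c} := by
    intro c
    refine (Finite.card_eq.1 ?_).some
    rw [hf c, ← hf (π.symm c)]
    exact Nat.card_congr (Equiv.subtypeEquivRight fun x => by rw [Equiv.eq_symm_apply])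
  have hw : ∀ x, f (Equiv.ofFiberEquiv (f := fun x => π (f x)) (g := f) e x) = π (f x) :=
    fun x => Equiv.ofFiberEquiv_map e x
  refine ⟨Equiv.ofFiberEquiv (f := fun x => π (f x)) (g := f) e, ?_, hw⟩
  intro x y
  rw [hw, hw, π.injective.eq_iff]

theorem exists_two [Finite Ω] {f : Ω → ι} {a : ℕ} (hf : ∀ i, Nat.card {x : Ω // f x = i} = a)
    (ha : 2 ≤ a) (i : ι) : ∃ u v, u ≠ v ∧ f u = i ∧ f v = i := by
  have : Nontrivial {x : Ω // f x = i} := Finite.one_lt_card_iff_nontrivial.1 (by rw [hf]; omega)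
  obtain ⟨⟨u, hu⟩, ⟨v, hv⟩, h⟩ := exists_pair_ne {x : Ω // f x = i}
  exact ⟨u, v, fun h' => h (Subtype.ext h'), hu, hv⟩

theorem exists_two_ne [Finite Ω] {f : Ω → ι} {a : ℕ} (hf : ∀ i, Nat.card {x : Ω // f x = i} = a)
    (ha : 3 ≤ a) (x : Ω) : ∃ u v, u ≠ v ∧ u ≠ x ∧ v ≠ x ∧ f u = f x ∧ f v = f x := by
  have := Fintype.ofFinite {y : Ω // f y = f x}
  have h3 : 2 < Fintype.card {y : Ω // f y = f x} := by
    rw [← Nat.card_eq_fintype_card, hf]; omega
  obtain ⟨⟨u, hu⟩, ⟨v, hv⟩, ⟨w, hw⟩, h1, h2, h3⟩ := Fintype.two_lt_card_iff.1 h3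
  simp only [ne_eq, Subtype.mk.injEq] at h1 h2 h3
  by_cases hux : u = x
  · exact ⟨v, w, h3, fun h => h1 (hux.trans h.symm), fun h => h2 (hux.trans h.symm), hv, hw⟩
  by_cases hvx : v = x
  · exact ⟨u, w, h2, hux, fun h => h3 (hvx.trans h.symm), hu, hw⟩
  exact ⟨u, v, h1, hux, hvx, hu, hv⟩

theorem partStab_ne_top [Finite Ω] [Nontrivial ι] {f : Ω → ι} {a : ℕ}
    (hf : ∀ i, Nat.card {x : Ω // f x = i} = a) (ha : 2 ≤ a) : partStab f ≠ ⊤ := by
  classical
  obtain ⟨i, j, hij⟩ := exists_pair_ne ι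
  obtain ⟨u, v, huv, hu, hv⟩ := exists_two hf ha i
  obtain ⟨w, _, _, hw, _⟩ := exists_two hf ha j
  intro h
  have : swap v w ∈ partStab f := h ▸ Subgroup.mem_top _
  have h1 := (this u v).1 (hu.trans hv.symm)
  have huw : u ≠ w := fun h => hij (by rw [← hu, ← hw, h])
  rw [swap_apply_left, swap_apply_of_ne_of_ne huv huw, hu, hw] at h1
  exact hij h1

/-- two points in distinct blocks can be moved to any two points in distinct blocks -/
theorem exists_map_two [Finite Ω] {f : Ω → ι} {a : ℕ}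
    (hf : ∀ i, Nat.card {x : Ω // f x = i} = a) {x y x' y' : Ω} (h : f x ≠ f y)
    (h' : f x' ≠ f y') : ∃ w ∈ partStab f, w x = x' ∧ w y = y' := by
  classical
  obtain ⟨π, h1, h2⟩ : ∃ π : Perm ι, π (f x) = f x' ∧ π (f y) = f y' := by
    refine ⟨swap (swap (f x) (f x') (f y)) (f y') * swap (f x) (f x'), ?_, ?_⟩
    · rw [Perm.mul_apply, swap_apply_left, swap_apply_of_ne_of_ne _ h']
      intro h3
      apply h
      apply (swap (f x) (f x')).injective
      rw [← h3, swap_apply_left]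
    · rw [Perm.mul_apply, swap_apply_left]
  obtain ⟨w, hw, hw'⟩ := exists_lift hf π
  have e1 : f (w x) = f x' := by rw [hw', h1]
  have e2 : f (w y) = f y' := by rw [hw', h2]
  refine ⟨swap (w x) x' * swap (w y) y' * w,
    mul_mem (mul_mem (swap_mem e1) (swap_mem e2)) hw, ?_, ?_⟩
  · rw [Perm.mul_apply, Perm.mul_apply, swap_apply_of_ne_of_ne (x := w x), swap_apply_left]
    · intro h3; apply h'; rw [← e1, ← e2, h3]
    · intro h3; apply h'; rw [← e1, h3]
  · rw [Perm.mul_apply, Perm.mul_apply, swap_apply_left, swap_apply_of_ne_of_ne]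
    · intro h3; apply h'; rw [← e1, h3]
    · intro h3; apply h'; rw [h3]

theorem isCoatom_partStab [Finite Ω] [Nontrivial ι] {f : Ω → ι} {a : ℕ}
    (hf : ∀ i, Nat.card {x : Ω // f x = i} = a) (ha : 2 ≤ a) : IsCoatom (partStab f) := by
  classical
  refine ⟨partStab_ne_top hf ha, fun G hG => ?_⟩
  have hconj : ∀ g ∈ G, ∀ x y, swap x y ∈ G → swap (g x) (g y) ∈ G := by
    intro g hg x y h
    rw [swap_apply_apply]
    exact mul_mem (mul_mem hg h) (inv_mem hg)
  obtain ⟨x, y, hxy, hne⟩ : ∃ x y, swap x y ∈ G ∧ f x ≠ f y := by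
    by_contra hc
    push Not at hc
    apply hG.not_ge
    intro g hg x y
    refine ⟨fun h => hc _ _ (hconj g hg _ _ (hG.le (swap_mem h))), fun h => ?_⟩
    have := hc _ _ (hconj g⁻¹ (inv_mem hg) _ _ (hG.le (swap_mem h)))
    simpa using this
  have hall : ∀ u v, swap u v ∈ G := by
    intro u v
    by_cases h : f u = f v
    · exact hG.le (swap_mem h)
    · obtain ⟨w, hw, rfl, rfl⟩ := exists_map_two hf hne h
      exact hconj w (hG.le hw) _ _ hxy
  rw [eq_top_iff, ← Perm.closure_isSwap, Subgroup.closure_le]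
  rintro _ ⟨u, v, _, rfl⟩
  exact hall u v

end Cfsg.Agent.H6.Wreath
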